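import Mathlib
import Cfsg.Agent.S1429
import Cfsg.Agent.S1350
import Cfsg.Agent.Lib.Helper56.FrobApply
import Cfsg.Agent.Lib.Helper56.BG143

/-!
# Bender–Glauberman 14.7(f), the "prime order" half

`M` maximal, `K ≠ 1` a Hall `κ(M)`-subgroup, `U` as in S1430 (abelian Hall
`(κ(M) ∪ σ(M))'`-subgroup normalized by `K`, with `K` acting without fixed points).
If `U ≠ 1` then `|K|` is a prime.

Proof: S1429 gives an elementary abelian `A' ≤ U`, `K`-invariant, with `M_σ ∩ C(A') = 1`;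
the Frobenius fixed point formula for `A' K` and for `A' ⟨k⟩` acting on `M_σ` gives
`|M_σ| = |K*|^|K| = |K*|^p`.
-/

set_option autoImplicit false
set_option linter.style.haveILetI false
set_option linter.unusedSectionVars false
set_option linter.unusedVariables false

namespace Cfsg.Agent.Lib.Helper9.BG147P

open Subgroup Cfsg

universe u

variable {G : Type u} [Group G] [Finite G]

/-- commutativity of elements of a commutative subgroup -/
theorem comm_of_isMulCommutative {U : Subgroup G} (hU : IsMulCommutative U) {a b : G}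
    (ha : a ∈ U) (hb : b ∈ U) : a * b = b * a := by
  have h := hU.is_comm.comm (⟨a, ha⟩ : U) ⟨b, hb⟩
  exact congrArg Subtype.val h

/-- the elements of order dividing `s` of an abelian subgroup -/
def omegaOf (U : Subgroup G) (hU : IsMulCommutative U) (s : ℕ) : Subgroup G where
  carrier := {u | u ∈ U ∧ u ^ s = 1}
  mul_mem' := by
    rintro a b ⟨ha, ha1⟩ ⟨hb, hb1⟩
    refine ⟨U.mul_mem ha hb, ?_⟩
    have hc : Commute a b := comm_of_isMulCommutative hU ha hb
    rw [hc.mul_pow, ha1, hb1, one_mul]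
  one_mem' := ⟨U.one_mem, one_pow _⟩
  inv_mem' := by
    rintro a ⟨ha, ha1⟩
    exact ⟨U.inv_mem ha, by rw [inv_pow, ha1, inv_one]⟩

theorem mem_omegaOf {U : Subgroup G} {hU : IsMulCommutative U} {s : ℕ} {u : G} :
    u ∈ omegaOf U hU s ↔ u ∈ U ∧ u ^ s = 1 := Iff.rfl

theorem omegaOf_le (U : Subgroup G) (hU : IsMulCommutative U) (s : ℕ) : omegaOf U hU s ≤ U :=
  fun _ h => h.1

/-- S1429 transported into `U`: `M_σ ∩ C(Ω_s(U)) = 1` -/
theorem sigmaCore_inf_centralizer_omegaOf (hG : IsMinSimpleOddOrder G) {M U : Subgroup G}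
    (hM : IsCoatom M) (hUab : IsMulCommutative U)
    (hUH : IsPiHallOf {q | q.Prime ∧ q ∉ kappa M ∧ q ∉ sigma M} U M)
    {s : ℕ} [hs : Fact s.Prime] (hsU : s ∣ Nat.card U) :
    sigmaCore M ⊓ centralizer ((omegaOf U hUab s : Subgroup G) : Set G) = ⊥ := by
  have hsπ := hUH.2.1 s hs.out hsU
  have hsM : s ∣ Nat.card M := dvd_trans hsU (Subgroup.card_dvd_of_le hUH.1)
  have hP1 : ¬ (∀ q : ℕ, q.Prime → q ∣ Nat.card M → q ∉ sigma M → q ∈ kappa M) := by
    intro h
    exact hsπ.2.1 (h s hs.out hsM hsπ.2.2)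
  have hsn : s ∉ sigma M ∪ kappa M := by
    rintro (h | h)
    · exact hsπ.2.2 h
    · exact hsπ.2.1 h
  obtain ⟨S⟩ : Nonempty (Sylow s M) := inferInstance
  have h29 := (Cfsg.Agent.S1429.result hG M hM hP1 s hsM hsn S).2.1
  set Q : Subgroup G := (S : Subgroup M).map M.subtype with hQdef
  have hQp : IsPGroup s Q := S.2.map M.subtype
  have hQM : Q ≤ M := by
    rintro _ ⟨x, _, rfl⟩
    exact x.2
  have hnd : ¬ s ∣ U.relIndex M := hUH.2.2 s hs.out hsπ
  obtain ⟨m, hmM, hm⟩ := Cfsg.Agent.Lib.Helper76.BGSigU.exists_conj_le_of_not_dvd hUH.1 hnd hQp hQM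
  rw [eq_bot_iff]
  intro y hy
  rw [Subgroup.mem_inf] at hy
  obtain ⟨hyσ, hyc⟩ := hy
  have hy'σ : m * y * m⁻¹ ∈ sigmaCore M :=
    Cfsg.Agent.Lib.Helper56.BG143.conj_mem_sigmaCore hmM hyσ
  have hcl : Subgroup.closure {x : G | x ∈ Q ∧ x ^ s = 1} ≤
      centralizer ({m * y * m⁻¹} : Set G) := by
    rw [Subgroup.closure_le]
    rintro x ⟨hxQ, hxs⟩
    have hxU : m⁻¹ * x * m ∈ omegaOf U hUab s := by
      refine ⟨hm x hxQ, ?_⟩
      have : (m⁻¹ * x * m) ^ s = m⁻¹ * x ^ s * m := by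
        have h := conj_pow (a := m⁻¹) (b := x) (i := s)
        simpa using h
      rw [this, hxs]; group
    have hcomm := (Subgroup.mem_centralizer_iff.mp hyc) (m⁻¹ * x * m) hxU
    show x ∈ centralizer ({m * y * m⁻¹} : Set G)
    rw [Subgroup.mem_centralizer_iff]
    intro h hh
    rw [Set.mem_singleton_iff] at hh
    subst hh
    calc m * y * m⁻¹ * x = m * (y * (m⁻¹ * x * m)) * m⁻¹ := by group
      _ = m * ((m⁻¹ * x * m) * y) * m⁻¹ := by rw [hcomm]
      _ = x * (m * y * m⁻¹) := by group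
  have hy'c : m * y * m⁻¹ ∈ centralizer
      ((Subgroup.closure {x : G | x ∈ Q ∧ x ^ s = 1} : Subgroup G) : Set G) := by
    rw [Subgroup.mem_centralizer_iff]
    intro a ha
    have h1 := Subgroup.mem_centralizer_iff.mp (hcl ha) (m * y * m⁻¹) (Set.mem_singleton _)
    exact h1.symm
  have hmem : m * y * m⁻¹ ∈ sigmaCore M ⊓ centralizer
      ((Subgroup.closure {x : G | x ∈ Q ∧ x ^ s = 1} : Subgroup G) : Set G) :=
    Subgroup.mem_inf.mpr ⟨hy'σ, hy'c⟩
  rw [h29] at hmem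
  have h1 : m * y * m⁻¹ = 1 := hmem
  have : y = m⁻¹ * (m * y * m⁻¹) * m := by group
  rw [this, h1]
  show m⁻¹ * 1 * m = 1
  group

/-- the key cardinality identity: `|M_σ| = |C_{M_σ}(E)|^|E|` for `1 ≠ E ≤ K` -/
theorem card_sigmaCore_eq_pow (hG : IsMinSimpleOddOrder G) {M K U : Subgroup G}
    (hM : IsCoatom M) (hK : IsPiHallOf (kappa M) K M)
    (hUab : IsMulCommutative U)
    (hUH : IsPiHallOf {q | q.Prime ∧ q ∉ kappa M ∧ q ∉ sigma M} U M)
    (hKU : K ≤ normalizer (U : Set G))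
    (hreg : ∀ k ∈ K, k ≠ 1 → U ⊓ centralizer ({k} : Set G) = ⊥)
    {s : ℕ} [hs : Fact s.Prime] (hsU : s ∣ Nat.card U)
    {E : Subgroup G} (hEK : E ≤ K) (hE1 : E ≠ ⊥) :
    Nat.card (sigmaCore M) =
      Nat.card ↥(sigmaCore M ⊓ centralizer (E : Set G)) ^ Nat.card E := by
  set A : Subgroup G := omegaOf U hUab s with hA
  have hAU : A ≤ U := omegaOf_le U hUab s
  have hUM : U ≤ M := hUH.1
  have hKM : K ≤ M := hK.1
  have hcA := sigmaCore_inf_centralizer_omegaOf hG hM hUab hUH hsU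
  -- E normalizes A
  have hUn : ∀ e ∈ E, ∀ u ∈ A, e * u * e⁻¹ ∈ A := by
    intro e he u hu
    refine ⟨((Subgroup.mem_normalizer_iff.mp (hKU (hEK he))) u).mp hu.1, ?_⟩
    have : (e * u * e⁻¹) ^ s = e * u ^ s * e⁻¹ := conj_pow (a := e) (b := u) (i := s)
    rw [this, hu.2]; group
  have hfpf : ∀ e ∈ E, e ≠ 1 → ∀ u ∈ A, e * u = u * e → u = 1 := by
    intro e he he1 u hu hc
    have hmem : u ∈ U ⊓ centralizer ({e} : Set G) := by
      refine Subgroup.mem_inf.mpr ⟨hu.1, ?_⟩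
      rw [Subgroup.mem_centralizer_iff]
      intro h hh
      rw [Set.mem_singleton_iff] at hh
      subst hh
      exact hc
    rw [hreg e (hEK he) he1] at hmem
    exact hmem
  have hAEM : A ⊔ E ≤ M := sup_le (hAU.trans hUM) (hEK.trans hKM)
  have hHn : ∀ x ∈ A ⊔ E, ∀ h ∈ sigmaCore M, x * h * x⁻¹ ∈ sigmaCore M := by
    intro x hx h hh
    exact Cfsg.Agent.Lib.Helper56.BG143.conj_mem_sigmaCore (hAEM hx) hh
  have hMtop : M ≠ ⊤ := hM.1
  have hσtop : sigmaCore M ≠ ⊤ := by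
    intro h
    apply hMtop
    rw [eq_top_iff, ← h]
    exact Cfsg.Agent.Lib.Helper56.BG143.sigmaCore_le' M
  have hsolv : Group.IsSolvable ↥(sigmaCore M) := hG.2.2.2 _ hσtop
  have hσH := (Cfsg.Agent.S1350.result hG M hM).1
  have hcop : Nat.Coprime (Nat.card (sigmaCore M)) (Nat.card ↥(A ⊔ E)) := by
    apply Nat.Coprime.symm
    apply Nat.Coprime.symm
    rw [Nat.coprime_iff_gcd_eq_one] 
    by_contra hne
    obtain ⟨r, hr, hrd⟩ := Nat.exists_prime_and_dvd hne
    have hr1 : r ∣ Nat.card (sigmaCore M) := dvd_trans hrd (Nat.gcd_dvd_left _ _)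
    have hr2 : r ∣ Nat.card ↥(A ⊔ E) := dvd_trans hrd (Nat.gcd_dvd_right _ _)
    have hrσ : r ∈ sigma M := hσH.2.1 r hr hr1
    have hEA : E ≤ normalizer (A : Set G) := by
      intro e he
      rw [Subgroup.mem_normalizer_iff]
      intro u
      constructor
      · exact hUn e he u
      · intro h
        have := hUn _ (E.inv_mem he) _ h
        have e1 : e⁻¹ * (e * u * e⁻¹) * e⁻¹⁻¹ = u := by group
        rwa [e1] at this
    have hdvd := Cfsg.Agent.Lib.Helper56.BG117.card_sup_dvd_mul_of_le_normalizer hEA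
    have hr3 : r ∣ Nat.card A * Nat.card E := dvd_trans hr2 hdvd
    rcases (Nat.Prime.dvd_mul hr).mp hr3 with h | h
    · have : r ∣ Nat.card U := dvd_trans h (Subgroup.card_dvd_of_le hAU)
      exact (hUH.2.1 r hr this).2.2 hrσ
    · have : r ∣ Nat.card K := dvd_trans h (Subgroup.card_dvd_of_le hEK)
      exact (hK.2.1 r hr this).2.2.1 hrσ
  have hform := Cfsg.Agent.Lib.Helper56.FrobApply.frobenius_formula A E (sigmaCore M) hE1 hUn hfpf
    hHn hsolv hcop
  have h1 : Nat.card ↥(sigmaCore M ⊓ centralizer ((A : Subgroup G) : Set G)) = 1 := by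
    rw [hcA]; exact Subgroup.card_bot
  have h2 : Nat.card ↥(sigmaCore M ⊓ centralizer ((A ⊔ E : Subgroup G) : Set G)) = 1 := by
    have hle : sigmaCore M ⊓ centralizer ((A ⊔ E : Subgroup G) : Set G) ≤
        sigmaCore M ⊓ centralizer ((A : Subgroup G) : Set G) :=
      inf_le_inf_left _ (Subgroup.centralizer_le (by exact_mod_cast (le_sup_left : A ≤ A ⊔ E)))
    rw [hcA] at hle
    rw [le_bot_iff.mp hle]; exact Subgroup.card_bot
  rw [h1, h2, one_pow, one_mul, mul_one] at hform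
  exact hform

/-- **BG 14.7(f), prime order half**: if `U ≠ 1` then `|K|` is a prime. -/
theorem card_prime_of_U_ne_bot (hG : IsMinSimpleOddOrder G) {M K U : Subgroup G}
    (hM : IsCoatom M) (hK : IsPiHallOf (kappa M) K M) (hK1 : K ≠ ⊥)
    (hsp : ∀ k ∈ K, k ≠ 1 → sigmaCore M ⊓ centralizer ({k} : Set G) =
      sigmaCore M ⊓ centralizer (K : Set G))
    (hUab : IsMulCommutative U)
    (hUH : IsPiHallOf {q | q.Prime ∧ q ∉ kappa M ∧ q ∉ sigma M} U M)
    (hKU : K ≤ normalizer (U : Set G))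
    (hreg : ∀ k ∈ K, k ≠ 1 → U ⊓ centralizer ({k} : Set G) = ⊥)
    (hU1 : U ≠ ⊥) : (Nat.card K).Prime := by
  have hUcard : Nat.card U ≠ 1 := fun h => hU1 (Subgroup.card_eq_one.mp h)
  obtain ⟨s, hs, hsU⟩ := Nat.exists_prime_and_dvd hUcard
  haveI : Fact s.Prime := ⟨hs⟩
  have hKcard : Nat.card K ≠ 1 := fun h => hK1 (Subgroup.card_eq_one.mp h)
  obtain ⟨p, hp, hpK⟩ := Nat.exists_prime_and_dvd hKcard
  haveI : Fact p.Prime := ⟨hp⟩
  obtain ⟨k, hk⟩ := exists_prime_orderOf_dvd_card' (G := K) p hpK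
  have hk1 : (k : G) ≠ 1 := by
    intro h
    have : k = 1 := Subtype.ext h
    rw [this, orderOf_one] at hk
    exact hp.one_lt.ne hk
  have hkK : (k : G) ∈ K := k.2
  set E : Subgroup G := Subgroup.zpowers (k : G) with hE
  have hEK : E ≤ K := (Subgroup.zpowers_le).mpr hkK
  have hE1 : E ≠ ⊥ := by
    intro h
    apply hk1
    have : (k : G) ∈ E := Subgroup.mem_zpowers _
    rw [h] at this
    exact this
  have hEcard : Nat.card E = p := by
    rw [hE, Nat.card_zpowers, Subgroup.orderOf_coe, hk]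
  have hKs := Cfsg.Agent.Lib.Helper56.BG143.Ks_ne_bot hK hK1 hsp
  have hcE : sigmaCore M ⊓ centralizer (E : Set G) = sigmaCore M ⊓ centralizer (K : Set G) := by
    rw [← hsp (k : G) hkK hk1, hE, Subgroup.zpowers_eq_closure, Subgroup.centralizer_closure]
  have e1 := card_sigmaCore_eq_pow hG hM hK hUab hUH hKU hreg hsU le_rfl hK1
  have e2 := card_sigmaCore_eq_pow hG hM hK hUab hUH hKU hreg hsU hEK hE1
  rw [hcE, hEcard] at e2
  rw [e1] at e2
  have hbase : 1 < Nat.card ↥(sigmaCore M ⊓ centralizer (K : Set G)) :=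
    (Subgroup.one_lt_card_iff_ne_bot _).mpr hKs
  have := Nat.pow_right_injective hbase e2
  rw [this]; exact hp

/-- corollary: if `|K|` is not a prime then `U = 1`. -/
theorem U_eq_bot_of_not_prime (hG : IsMinSimpleOddOrder G) {M K U : Subgroup G}
    (hM : IsCoatom M) (hK : IsPiHallOf (kappa M) K M) (hK1 : K ≠ ⊥)
    (hsp : ∀ k ∈ K, k ≠ 1 → sigmaCore M ⊓ centralizer ({k} : Set G) =
      sigmaCore M ⊓ centralizer (K : Set G))
    (hUab : IsMulCommutative U)
    (hUH : IsPiHallOf {q | q.Prime ∧ q ∉ kappa M ∧ q ∉ sigma M} U M)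
    (hKU : K ≤ normalizer (U : Set G))
    (hreg : ∀ k ∈ K, k ≠ 1 → U ⊓ centralizer ({k} : Set G) = ⊥)
    (hnp : ¬ (Nat.card K).Prime) : U = ⊥ := by
  by_contra hU1
  exact hnp (card_prime_of_U_ne_bot hG hM hK hK1 hsp hUab hUH hKU hreg hU1)

end Cfsg.Agent.Lib.Helper9.BG147P
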