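import Mathlib
import Cfsg.Agent.Lib.Helper3.Burnside
import Cfsg.Agent.Lib.Helper4.CayleySign

set_option autoImplicit false

namespace Cfsg.Agent.Lib.Helper9

theorem small_card_cases (n : ℕ) (hn : 0 < n) (h : n ≤ 100) :
    (∃ p q a b : ℕ, p.Prime ∧ q.Prime ∧ n = p ^ a * q ^ b) ∨
      (n = 30 ∨ n = 42 ∨ n = 60 ∨ n = 66 ∨ n = 70 ∨ n = 78 ∨ n = 84 ∨ n = 90) := by
  interval_cases n
  · exact Or.inl ⟨2, 3, 0, 0, by norm_num, by norm_num, by norm_num⟩
  · exact Or.inl ⟨2, 3, 1, 0, by norm_num, by norm_num, by norm_num⟩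
  · exact Or.inl ⟨3, 2, 1, 0, by norm_num, by norm_num, by norm_num⟩
  · exact Or.inl ⟨2, 3, 2, 0, by norm_num, by norm_num, by norm_num⟩
  · exact Or.inl ⟨5, 2, 1, 0, by norm_num, by norm_num, by norm_num⟩
  · exact Or.inl ⟨2, 3, 1, 1, by norm_num, by norm_num, by norm_num⟩
  · exact Or.inl ⟨7, 2, 1, 0, by norm_num, by norm_num, by norm_num⟩
  · exact Or.inl ⟨2, 3, 3, 0, by norm_num, by norm_num, by norm_num⟩
  · exact Or.inl ⟨3, 2, 2, 0, by norm_num, by norm_num, by norm_num⟩
  · exact Or.inl ⟨2, 5, 1, 1, by norm_num, by norm_num, by norm_num⟩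
  · exact Or.inl ⟨11, 2, 1, 0, by norm_num, by norm_num, by norm_num⟩
  · exact Or.inl ⟨2, 3, 2, 1, by norm_num, by norm_num, by norm_num⟩
  · exact Or.inl ⟨13, 2, 1, 0, by norm_num, by norm_num, by norm_num⟩
  · exact Or.inl ⟨2, 7, 1, 1, by norm_num, by norm_num, by norm_num⟩
  · exact Or.inl ⟨3, 5, 1, 1, by norm_num, by norm_num, by norm_num⟩
  · exact Or.inl ⟨2, 3, 4, 0, by norm_num, by norm_num, by norm_num⟩
  · exact Or.inl ⟨17, 2, 1, 0, by norm_num, by norm_num, by norm_num⟩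
  · exact Or.inl ⟨2, 3, 1, 2, by norm_num, by norm_num, by norm_num⟩
  · exact Or.inl ⟨19, 2, 1, 0, by norm_num, by norm_num, by norm_num⟩
  · exact Or.inl ⟨2, 5, 2, 1, by norm_num, by norm_num, by norm_num⟩
  · exact Or.inl ⟨3, 7, 1, 1, by norm_num, by norm_num, by norm_num⟩
  · exact Or.inl ⟨2, 11, 1, 1, by norm_num, by norm_num, by norm_num⟩
  · exact Or.inl ⟨23, 2, 1, 0, by norm_num, by norm_num, by norm_num⟩
  · exact Or.inl ⟨2, 3, 3, 1, by norm_num, by norm_num, by norm_num⟩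
  · exact Or.inl ⟨5, 2, 2, 0, by norm_num, by norm_num, by norm_num⟩
  · exact Or.inl ⟨2, 13, 1, 1, by norm_num, by norm_num, by norm_num⟩
  · exact Or.inl ⟨3, 2, 3, 0, by norm_num, by norm_num, by norm_num⟩
  · exact Or.inl ⟨2, 7, 2, 1, by norm_num, by norm_num, by norm_num⟩
  · exact Or.inl ⟨29, 2, 1, 0, by norm_num, by norm_num, by norm_num⟩
  · right; simp
  · exact Or.inl ⟨31, 2, 1, 0, by norm_num, by norm_num, by norm_num⟩
  · exact Or.inl ⟨2, 3, 5, 0, by norm_num, by norm_num, by norm_num⟩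
  · exact Or.inl ⟨3, 11, 1, 1, by norm_num, by norm_num, by norm_num⟩
  · exact Or.inl ⟨2, 17, 1, 1, by norm_num, by norm_num, by norm_num⟩
  · exact Or.inl ⟨5, 7, 1, 1, by norm_num, by norm_num, by norm_num⟩
  · exact Or.inl ⟨2, 3, 2, 2, by norm_num, by norm_num, by norm_num⟩
  · exact Or.inl ⟨37, 2, 1, 0, by norm_num, by norm_num, by norm_num⟩
  · exact Or.inl ⟨2, 19, 1, 1, by norm_num, by norm_num, by norm_num⟩
  · exact Or.inl ⟨3, 13, 1, 1, by norm_num, by norm_num, by norm_num⟩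
  · exact Or.inl ⟨2, 5, 3, 1, by norm_num, by norm_num, by norm_num⟩
  · exact Or.inl ⟨41, 2, 1, 0, by norm_num, by norm_num, by norm_num⟩
  · right; simp
  · exact Or.inl ⟨43, 2, 1, 0, by norm_num, by norm_num, by norm_num⟩
  · exact Or.inl ⟨2, 11, 2, 1, by norm_num, by norm_num, by norm_num⟩
  · exact Or.inl ⟨3, 5, 2, 1, by norm_num, by norm_num, by norm_num⟩
  · exact Or.inl ⟨2, 23, 1, 1, by norm_num, by norm_num, by norm_num⟩
  · exact Or.inl ⟨47, 2, 1, 0, by norm_num, by norm_num, by norm_num⟩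
  · exact Or.inl ⟨2, 3, 4, 1, by norm_num, by norm_num, by norm_num⟩
  · exact Or.inl ⟨7, 2, 2, 0, by norm_num, by norm_num, by norm_num⟩
  · exact Or.inl ⟨2, 5, 1, 2, by norm_num, by norm_num, by norm_num⟩
  · exact Or.inl ⟨3, 17, 1, 1, by norm_num, by norm_num, by norm_num⟩
  · exact Or.inl ⟨2, 13, 2, 1, by norm_num, by norm_num, by norm_num⟩
  · exact Or.inl ⟨53, 2, 1, 0, by norm_num, by norm_num, by norm_num⟩
  · exact Or.inl ⟨2, 3, 1, 3, by norm_num, by norm_num, by norm_num⟩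
  · exact Or.inl ⟨5, 11, 1, 1, by norm_num, by norm_num, by norm_num⟩
  · exact Or.inl ⟨2, 7, 3, 1, by norm_num, by norm_num, by norm_num⟩
  · exact Or.inl ⟨3, 19, 1, 1, by norm_num, by norm_num, by norm_num⟩
  · exact Or.inl ⟨2, 29, 1, 1, by norm_num, by norm_num, by norm_num⟩
  · exact Or.inl ⟨59, 2, 1, 0, by norm_num, by norm_num, by norm_num⟩
  · right; simp
  · exact Or.inl ⟨61, 2, 1, 0, by norm_num, by norm_num, by norm_num⟩
  · exact Or.inl ⟨2, 31, 1, 1, by norm_num, by norm_num, by norm_num⟩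
  · exact Or.inl ⟨3, 7, 2, 1, by norm_num, by norm_num, by norm_num⟩
  · exact Or.inl ⟨2, 3, 6, 0, by norm_num, by norm_num, by norm_num⟩
  · exact Or.inl ⟨5, 13, 1, 1, by norm_num, by norm_num, by norm_num⟩
  · right; simp
  · exact Or.inl ⟨67, 2, 1, 0, by norm_num, by norm_num, by norm_num⟩
  · exact Or.inl ⟨2, 17, 2, 1, by norm_num, by norm_num, by norm_num⟩
  · exact Or.inl ⟨3, 23, 1, 1, by norm_num, by norm_num, by norm_num⟩
  · right; simp
  · exact Or.inl ⟨71, 2, 1, 0, by norm_num, by norm_num, by norm_num⟩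
  · exact Or.inl ⟨2, 3, 3, 2, by norm_num, by norm_num, by norm_num⟩
  · exact Or.inl ⟨73, 2, 1, 0, by norm_num, by norm_num, by norm_num⟩
  · exact Or.inl ⟨2, 37, 1, 1, by norm_num, by norm_num, by norm_num⟩
  · exact Or.inl ⟨3, 5, 1, 2, by norm_num, by norm_num, by norm_num⟩
  · exact Or.inl ⟨2, 19, 2, 1, by norm_num, by norm_num, by norm_num⟩
  · exact Or.inl ⟨7, 11, 1, 1, by norm_num, by norm_num, by norm_num⟩
  · right; simp
  · exact Or.inl ⟨79, 2, 1, 0, by norm_num, by norm_num, by norm_num⟩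
  · exact Or.inl ⟨2, 5, 4, 1, by norm_num, by norm_num, by norm_num⟩
  · exact Or.inl ⟨3, 2, 4, 0, by norm_num, by norm_num, by norm_num⟩
  · exact Or.inl ⟨2, 41, 1, 1, by norm_num, by norm_num, by norm_num⟩
  · exact Or.inl ⟨83, 2, 1, 0, by norm_num, by norm_num, by norm_num⟩
  · right; simp
  · exact Or.inl ⟨5, 17, 1, 1, by norm_num, by norm_num, by norm_num⟩
  · exact Or.inl ⟨2, 43, 1, 1, by norm_num, by norm_num, by norm_num⟩
  · exact Or.inl ⟨3, 29, 1, 1, by norm_num, by norm_num, by norm_num⟩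
  · exact Or.inl ⟨2, 11, 3, 1, by norm_num, by norm_num, by norm_num⟩
  · exact Or.inl ⟨89, 2, 1, 0, by norm_num, by norm_num, by norm_num⟩
  · right; simp
  · exact Or.inl ⟨7, 13, 1, 1, by norm_num, by norm_num, by norm_num⟩
  · exact Or.inl ⟨2, 23, 2, 1, by norm_num, by norm_num, by norm_num⟩
  · exact Or.inl ⟨3, 31, 1, 1, by norm_num, by norm_num, by norm_num⟩
  · exact Or.inl ⟨2, 47, 1, 1, by norm_num, by norm_num, by norm_num⟩
  · exact Or.inl ⟨5, 19, 1, 1, by norm_num, by norm_num, by norm_num⟩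
  · exact Or.inl ⟨2, 3, 5, 1, by norm_num, by norm_num, by norm_num⟩
  · exact Or.inl ⟨97, 2, 1, 0, by norm_num, by norm_num, by norm_num⟩
  · exact Or.inl ⟨2, 7, 1, 2, by norm_num, by norm_num, by norm_num⟩
  · exact Or.inl ⟨3, 11, 2, 1, by norm_num, by norm_num, by norm_num⟩
  · exact Or.inl ⟨2, 5, 2, 2, by norm_num, by norm_num, by norm_num⟩

theorem isCyclic_of_simple_of_isSolvable {G : Type*} [Group G] [IsSimpleGroup G]
    [hs : Group.IsSolvable G] : IsCyclic G := by
  have h1 : commutator G < ⊤ := Group.IsSolvable.commutator_lt_top_of_nontrivial G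
  have h2 : (commutator G).Normal := inferInstance
  have h3 : commutator G = ⊥ := (h2.eq_bot_or_eq_top).resolve_right h1.ne
  rw [commutator_def, Subgroup.commutator_eq_bot_iff_le_centralizer] at h3
  have hcomm : ∀ a b : G, a * b = b * a := by
    intro a b
    have := h3 (Subgroup.mem_top b)
    rw [Subgroup.mem_centralizer_iff] at this
    exact this a (Subgroup.mem_top a)
  let _ : CommGroup G := { ‹Group G› with mul_comm := hcomm }
  exact IsSimpleGroup.isCyclic

theorem not_simple_of_twice_odd {G : Type*} [Group G] [Finite G] [IsSimpleGroup G] (m : ℕ)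
    (hm : Odd m) (hm1 : 1 < m) (hcard : Nat.card G = 2 * m) : False := by
  have h2 : Fact (Nat.Prime 2) := ⟨Nat.prime_two⟩
  obtain ⟨g, hg⟩ := exists_prime_orderOf_dvd_card' (G := G) 2 (by rw [hcard]; exact Dvd.intro _ rfl)
  obtain ⟨H, hH⟩ := Cfsg.Agent.Lib.Helper4.exists_index_two_of_elt g (by rw [hg]; exact even_two)
    (by rw [hg, hcard, Nat.mul_div_cancel_left _ (by norm_num : 0 < 2)]; exact hm)
  have hHn : H.Normal := Subgroup.normal_of_index_eq_two hH
  rcases hHn.eq_bot_or_eq_top with h | h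
  · rw [h, Subgroup.index_bot, hcard] at hH
    omega
  · rw [h, Subgroup.index_top] at hH
    omega

theorem not_simple_of_card_84 {G : Type*} [Group G] [Finite G] [IsSimpleGroup G]
    (hcard : Nat.card G = 84) : False := by
  have h7 : Fact (Nat.Prime 7) := ⟨by norm_num⟩
  let P : Sylow 7 G := default
  have h1 : Nat.card (Sylow 7 G) ≡ 1 [MOD 7] := card_sylow_modEq_one 7 G
  have h2 : Nat.card (Sylow 7 G) ∣ (P : Subgroup G).index := Sylow.card_dvd_index P
  have hPc : Nat.card P = 7 ^ (Nat.card G).factorization 7 := P.card_eq_multiplicity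
  have hfac : (Nat.card G).factorization 7 = 1 := by
    rw [hcard, show (84 : ℕ) = 7 ^ 1 * 12 by norm_num,
      Nat.factorization_mul (by norm_num) (by norm_num), Finsupp.add_apply,
      Nat.Prime.factorization_pow (by norm_num)]
    have : (12 : ℕ).factorization 7 = 0 := Nat.factorization_eq_zero_of_not_dvd (by norm_num)
    simp [this]
  rw [hfac, pow_one] at hPc
  have hidx : (P : Subgroup G).index = 12 := by
    have := (P : Subgroup G).card_mul_index
    rw [hPc, hcard] at this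
    omega
  rw [hidx] at h2
  have h3 : Nat.card (Sylow 7 G) = 1 := by
    have hle : Nat.card (Sylow 7 G) ≤ 12 := Nat.le_of_dvd (by norm_num) h2
    have hpos : 0 < Nat.card (Sylow 7 G) := Nat.pos_of_dvd_of_pos h2 (by norm_num)
    unfold Nat.ModEq at h1
    interval_cases (Nat.card (Sylow 7 G)) <;> simp_all
  have hPn : (P : Subgroup G).Normal := by
    have : Subsingleton (Sylow 7 G) := (Nat.card_eq_one_iff_unique.mp h3).1
    exact Sylow.normal_of_subsingleton P
  rcases hPn.eq_bot_or_eq_top with h | h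
  · rw [h, Subgroup.card_bot] at hPc
    omega
  · rw [h, Subgroup.card_top, hcard] at hPc
    omega

theorem card_eq_sixty_of_simple_le_hundred {G : Type*} [Group G] [Finite G] [IsSimpleGroup G]
    (hG : ¬ IsCyclic G) (h : Nat.card G ≤ 100) : Nat.card G = 60 := by
  have hns : ¬ Group.IsSolvable G := fun hs => hG isCyclic_of_simple_of_isSolvable
  rcases small_card_cases (Nat.card G) Nat.card_pos h with ⟨p, q, a, b, hp, hq, hc⟩ | hc
  · exact absurd (Cfsg.Agent.Lib.Helper3.isSolvable_of_card_eq_prime_pow_mul p q a b hp hq hc) hns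
  · rcases hc with hc | hc | hc | hc | hc | hc | hc | hc
    · exact (not_simple_of_twice_odd 15 (by decide) (by norm_num) hc).elim
    · exact (not_simple_of_twice_odd 21 (by decide) (by norm_num) hc).elim
    · exact hc
    · exact (not_simple_of_twice_odd 33 (by decide) (by norm_num) hc).elim
    · exact (not_simple_of_twice_odd 35 (by decide) (by norm_num) hc).elim
    · exact (not_simple_of_twice_odd 39 (by decide) (by norm_num) hc).elim
    · exact (not_simple_of_card_84 hc).elim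
    · exact (not_simple_of_twice_odd 45 (by decide) (by norm_num) hc).elim

end Cfsg.Agent.Lib.Helper9
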