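import Mathlib
import Cfsg.Agent.Lib.Helper86.SuzDefs

set_option autoImplicit false
set_option linter.style.haveILetI false
set_option linter.unusedSectionVars false

/-! Generic counting lemmas behind SuzT3 (for helper86's S1138). -/

namespace Cfsg.Agent.Lib.Helper9.SuzCount

open Cfsg.Agent.Lib.Helper86.Suz

universe u v
variable {𝕂 : Type v} [Group 𝕂] {G : Type u} [Group G]

/-- A finite group acting freely on a finite type: its order divides the size of the type. -/
theorem card_dvd_of_free {K X : Type*} [Group K] [MulAction K X] [Finite K] [Finite X]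
    (hfree : ∀ (k : K) (x : X), k • x = x → k = 1) : Nat.card K ∣ Nat.card X := by
  classical
  have : Fintype (MulAction.orbitRel.Quotient K X) := Fintype.ofFinite _
  rw [Nat.card_congr (MulAction.selfEquivSigmaOrbits K X), Nat.card_sigma]
  apply Finset.dvd_sum
  intro ω _
  have hst : MulAction.stabilizer K (Quotient.out ω) = ⊥ := by
    rw [eq_bot_iff]
    intro k hk
    rw [Subgroup.mem_bot]
    exact hfree k _ (MulAction.mem_stabilizer_iff.mp hk)
  rw [Nat.card_congr (MulAction.orbitEquivQuotientStabilizer K (Quotient.out ω)), hst,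
    Nat.card_congr (QuotientGroup.quotientBot (G := K)).toEquiv]

/-- The action of `𝕂` on the non-identity elements of an invariant subgroup. -/
@[instance_reducible] def actNe (φ : 𝕂 →* MulAut G) (H : Subgroup G) (hH : Inv φ H) :
    MulAction 𝕂 {x : G // x ∈ H ∧ x ≠ 1} where
  smul k x := ⟨φ k x.1, hH k x.1 x.2.1, fun h0 => x.2.2 (by
    have h1 : φ k x.1 = φ k 1 := by rw [h0, map_one]
    exact (φ k).injective h1)⟩
  one_smul x := Subtype.ext (by
    show φ 1 x.1 = x.1
    rw [map_one]; rfl)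
  mul_smul k l x := Subtype.ext (by
    show φ (k * l) x.1 = φ k (φ l x.1)
    rw [map_mul]; rfl)

theorem card_modEq_of (φ : 𝕂 →* MulAut G) [Finite G] [Finite 𝕂] (H : Subgroup G) (hH : Inv φ H)
    (hfpf : ∀ (k : 𝕂) (g : G), g ≠ 1 → φ k g = g → k = 1) :
    Nat.card H ≡ 1 [MOD Nat.card 𝕂] := by
  letI := actNe φ H hH
  have hdvd : Nat.card 𝕂 ∣ Nat.card {x : G // x ∈ H ∧ x ≠ 1} := by
    apply card_dvd_of_free
    intro k x hx
    have h1 : φ k x.1 = x.1 := congrArg Subtype.val hx
    exact hfpf k x.1 x.2.2 h1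
  have hcard : Nat.card {x : G // x ∈ H ∧ x ≠ 1} + 1 = Nat.card H := by
    have h1 : Nat.card {x : G // x ∈ H ∧ x ≠ 1} = ((H : Set G) \ {1}).ncard := by
      rw [← Nat.card_coe_set_eq]
      rfl
    rw [h1, Set.ncard_sdiff_singleton_add_one (H.one_mem) (Set.toFinite _)]
    exact Nat.card_coe_set_eq _
  rw [← hcard]
  obtain ⟨c, hc⟩ := hdvd
  rw [hc]
  show (Nat.card 𝕂 * c + 1) % Nat.card 𝕂 = 1 % Nat.card 𝕂
  rw [Nat.mul_add_mod]

theorem card_mul_le_of [Finite G] {κ z : ℕ} (hz : κ + 1 = z) {H H' : Subgroup G}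
    (h1 : Nat.card H ≡ 1 [MOD κ]) (h2 : Nat.card H' ≡ 1 [MOD κ])
    (hle : H ≤ H') (hne : H ≠ H') : Nat.card H * z ≤ Nat.card H' := by
  have hidx : Nat.card H' = H.relIndex H' * Nat.card H := by
    rw [Subgroup.relIndex, ← Subgroup.card_mul_index (H.subgroupOf H'), mul_comm]
    congr 1
    exact Nat.card_congr (Subgroup.subgroupOfEquivOfLe hle).toEquiv
  set m := H.relIndex H' with hm
  have hHpos : 0 < Nat.card H := Nat.card_pos
  have hH'pos : 0 < Nat.card H' := Nat.card_pos
  have hm0 : m ≠ 0 := by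
    intro h0
    rw [h0, zero_mul] at hidx
    omega
  have hm1 : m ≠ 1 := by
    intro h1'
    apply hne
    apply le_antisymm hle
    exact Subgroup.relIndex_eq_one.mp (hm ▸ h1')
  -- m ≡ 1 mod κ
  have hmod : m ≡ 1 [MOD κ] := by
    have h3 : m * Nat.card H ≡ m * 1 [MOD κ] := Nat.ModEq.mul_left m h1
    rw [mul_one, ← hidx] at h3
    exact h3.symm.trans h2
  have hmz : z ≤ m := by
    rcases Nat.eq_zero_or_pos κ with hκ | hκ
    · subst hκ
      omega
    · have h4 : κ ∣ m - 1 := (Nat.modEq_iff_dvd' (by omega)).mp hmod.symm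
      have h5 : κ ≤ m - 1 := Nat.le_of_dvd (by omega) h4
      omega
  calc Nat.card H * z ≤ Nat.card H * m := Nat.mul_le_mul_left _ hmz
    _ = Nat.card H' := by rw [hidx, mul_comm]

end Cfsg.Agent.Lib.Helper9.SuzCount
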