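import Mathlib
import Cfsg.Agent.Lib.Helper86.SuzDefs
import Cfsg.Agent.Lib.Helper59.SuzT1
import Cfsg.Agent.Lib.Helper9.SuzT3a

set_option autoImplicit false
set_option linter.style.haveILetI false
set_option linter.unusedSectionVars false

/-! SuzT3 (SuzCount) for helper86's S1138. -/

namespace Cfsg.Agent.Lib.Helper86.Suz

universe u v
variable {𝕂 : Type v} [Group 𝕂] {G : Type u} [Group G] {φ : 𝕂 →* MulAut G}

theorem Ctx.card_modEq (h : Ctx φ) (H : Subgroup G) (hH : Inv φ H) :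
    Nat.card H ≡ 1 [MOD Nat.card 𝕂] := by
  haveI := h.fin
  haveI := h.finiteK
  exact Cfsg.Agent.Lib.Helper9.SuzCount.card_modEq_of φ H hH
    (fun k g hg hk => h.fpf hg hk)

theorem Ctx.card_mul_le (h : Ctx φ) (hcyc : IsCyclic 𝕂) {H H' : Subgroup G} (hH : Inv φ H)
    (hH' : Inv φ H') (hle : H ≤ H') (hne : H ≠ H') :
    Nat.card H * Nat.card (Subgroup.center G) ≤ Nat.card H' := by
  haveI := h.fin
  exact Cfsg.Agent.Lib.Helper9.SuzCount.card_mul_le_of (h.card_K hcyc)
    (h.card_modEq H hH) (h.card_modEq H' hH') hle hne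

end Cfsg.Agent.Lib.Helper86.Suz
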