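import Mathlib
import Cfsg.Agent.Lib.Helper6.Nc.Defs

/-!
# Nc hive (S3894, owner helper6): LEAF NC-F2 `uU_iter`, `uL_iter` (backup hand helper9, named in #8490).
Mathlib + Defs only.
-/

set_option autoImplicit false

namespace Cfsg.Agent.Lib.Helper6.Nc

open Matrix

variable {F : Type*} [Field F]

/-- upper unitriangular element of `SL_2` -/
def ncf2_U (a : F) : Matrix.SpecialLinearGroup (Fin 2) F :=
  ⟨!![1, a; 0, 1], by simp [Matrix.det_fin_two_of]⟩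

/-- lower unitriangular element of `SL_2` -/
def ncf2_L (a : F) : Matrix.SpecialLinearGroup (Fin 2) F :=
  ⟨!![1, 0; a, 1], by simp [Matrix.det_fin_two_of]⟩

def ncf2_Ug (a : F) : GL (Fin 2) F := Matrix.SpecialLinearGroup.toGL (ncf2_U a)
def ncf2_Lg (a : F) : GL (Fin 2) F := Matrix.SpecialLinearGroup.toGL (ncf2_L a)

theorem ncf2_coe_Ug (a : F) :
    ((ncf2_Ug a : GL (Fin 2) F) : Matrix (Fin 2) (Fin 2) F) = !![1, a; 0, 1] := rfl
theorem ncf2_coe_Lg (a : F) :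
    ((ncf2_Lg a : GL (Fin 2) F) : Matrix (Fin 2) (Fin 2) F) = !![1, 0; a, 1] := rfl

theorem ncf2_Ug_one : ncf2_Ug (1 : F) = uUg F := by
  apply Units.ext
  rw [ncf2_coe_Ug, coe_uUg]

theorem ncf2_Lg_one : ncf2_Lg (1 : F) = uLg F := by
  apply Units.ext
  rw [ncf2_coe_Lg, coe_uLg]

theorem ncf2_Ug_mul (a b : F) : ncf2_Ug a * ncf2_Ug b = ncf2_Ug (a + b) := by
  apply Units.ext
  rw [Units.val_mul, ncf2_coe_Ug, ncf2_coe_Ug, ncf2_coe_Ug]
  ext i j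
  fin_cases i <;> fin_cases j <;> simp [Matrix.mul_apply, Fin.sum_univ_two, add_comm]

theorem ncf2_Lg_mul (a b : F) : ncf2_Lg a * ncf2_Lg b = ncf2_Lg (a + b) := by
  apply Units.ext
  rw [Units.val_mul, ncf2_coe_Lg, ncf2_coe_Lg, ncf2_coe_Lg]
  ext i j
  fin_cases i <;> fin_cases j <;> simp [Matrix.mul_apply, Fin.sum_univ_two]

theorem ncf2_Ug_zero : ncf2_Ug (0 : F) = 1 := by
  apply Units.ext
  rw [ncf2_coe_Ug, Units.val_one]
  ext i j
  fin_cases i <;> fin_cases j <;> simp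

theorem ncf2_Lg_zero : ncf2_Lg (0 : F) = 1 := by
  apply Units.ext
  rw [ncf2_coe_Lg, Units.val_one]
  ext i j
  fin_cases i <;> fin_cases j <;> simp

theorem ncf2_Ug_inv (a : F) : (ncf2_Ug a)⁻¹ = ncf2_Ug (-a) := by
  rw [inv_eq_iff_mul_eq_one, ncf2_Ug_mul, add_neg_cancel, ncf2_Ug_zero]

theorem ncf2_Lg_inv (a : F) : (ncf2_Lg a)⁻¹ = ncf2_Lg (-a) := by
  rw [inv_eq_iff_mul_eq_one, ncf2_Lg_mul, add_neg_cancel, ncf2_Lg_zero]

theorem ncf2_Ug_eq_one {a : F} (h : ncf2_Ug a = 1) : a = 0 := by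
  have h1 := congrArg (fun u : GL (Fin 2) F => (u : Matrix (Fin 2) (Fin 2) F) 0 1) h
  simpa [ncf2_coe_Ug] using h1

theorem ncf2_Lg_eq_one {a : F} (h : ncf2_Lg a = 1) : a = 0 := by
  have h1 := congrArg (fun u : GL (Fin 2) F => (u : Matrix (Fin 2) (Fin 2) F) 1 0) h
  simpa [ncf2_coe_Lg] using h1

/-- the scalar matrix as an element of `GL_2` -/
def ncf2_scal (p : F) (hp : p ≠ 0) : GL (Fin 2) F :=
  ⟨p • (1 : Matrix (Fin 2) (Fin 2) F), p⁻¹ • (1 : Matrix (Fin 2) (Fin 2) F),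
    by rw [Matrix.smul_mul, Matrix.mul_smul, Matrix.one_mul, smul_smul, mul_inv_cancel₀ hp, one_smul],
    by rw [Matrix.smul_mul, Matrix.mul_smul, Matrix.one_mul, smul_smul, inv_mul_cancel₀ hp, one_smul]⟩

theorem ncf2_scal_mem (p : F) (hp : p ≠ 0) : ncf2_scal p hp ∈ Subgroup.center (GL (Fin 2) F) := by
  rw [Subgroup.mem_center_iff]
  intro g
  apply Units.ext
  rw [Units.val_mul, Units.val_mul]
  show (g : Matrix (Fin 2) (Fin 2) F) * (p • (1 : Matrix (Fin 2) (Fin 2) F)) =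
    (p • (1 : Matrix (Fin 2) (Fin 2) F)) * (g : Matrix (Fin 2) (Fin 2) F)
  rw [Matrix.mul_smul, Matrix.smul_mul, Matrix.mul_one, Matrix.one_mul]

theorem ncf2_det_ne (g : GL (Fin 2) F) : (g : Matrix (Fin 2) (Fin 2) F).det ≠ 0 := by
  have h : IsUnit (g : Matrix (Fin 2) (Fin 2) F) := ⟨g, rfl⟩
  exact ((Matrix.isUnit_iff_isUnit_det _).1 h).ne_zero

/-- NC-F2 (a). -/
theorem uU_iter (g : GL (Fin 2) F) (hg : g ∈ lineStab ![(1 : F), 0])
    (h : ∃ k : ℕ, (fun y => g * y * g⁻¹ * y⁻¹)^[k] (uUg F) = 1) : g ∈ Lh 2 F := by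
  obtain ⟨c, hc⟩ := mem_lineStab.1 hg
  set M : Matrix (Fin 2) (Fin 2) F := (g : Matrix (Fin 2) (Fin 2) F) with hM
  have h10 : M 1 0 = 0 := by
    have h1 := congrFun hc 1
    simpa [Matrix.mulVec, dotProduct, Fin.sum_univ_two] using h1
  have hdet : M 0 0 * M 1 1 ≠ 0 := by
    have h1 := ncf2_det_ne g
    rw [Matrix.det_fin_two, ← hM, h10, mul_zero, sub_zero] at h1
    exact h1
  have hp : M 0 0 ≠ 0 := left_ne_zero_of_mul hdet
  have ht : M 1 1 ≠ 0 := right_ne_zero_of_mul hdet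
  -- conjugation formula
  have hconj : ∀ a : F, g * ncf2_Ug a = ncf2_Ug (a * M 0 0 / M 1 1) * g := by
    intro a
    apply Units.ext
    rw [Units.val_mul, Units.val_mul, ncf2_coe_Ug, ncf2_coe_Ug, ← hM, Matrix.eta_fin_two M, h10]
    ext i j
    fin_cases i <;> fin_cases j <;> simp [Matrix.mul_apply, Fin.sum_univ_two]
    · field_simp
      ring
  have hstep : ∀ a : F, g * ncf2_Ug a * g⁻¹ * (ncf2_Ug a)⁻¹ = ncf2_Ug (a * (M 0 0 / M 1 1 - 1)) := by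
    intro a
    rw [hconj a, mul_assoc (ncf2_Ug _) g g⁻¹, mul_inv_cancel, mul_one, ncf2_Ug_inv, ncf2_Ug_mul]
    congr 1
    ring
  have hiter : ∀ k : ℕ, (fun y => g * y * g⁻¹ * y⁻¹)^[k] (uUg F) =
      ncf2_Ug ((M 0 0 / M 1 1 - 1) ^ k) := by
    intro k
    induction k with
    | zero => rw [Function.iterate_zero, id, pow_zero, ncf2_Ug_one]
    | succ k ih =>
      rw [Function.iterate_succ_apply', ih]
      show g * ncf2_Ug _ * g⁻¹ * (ncf2_Ug _)⁻¹ = _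
      rw [hstep, pow_succ]
  obtain ⟨k, hk⟩ := h
  rw [hiter k] at hk
  have h0 : M 0 0 / M 1 1 - 1 = 0 := pow_eq_zero_iff (n := k) (by
    intro hk0
    subst hk0
    rw [pow_zero] at hk
    exact one_ne_zero (ncf2_Ug_eq_one hk)) |>.1 (ncf2_Ug_eq_one hk)
  have hpt : M 0 0 = M 1 1 := by
    have h1 : M 0 0 / M 1 1 = 1 := sub_eq_zero.1 h0
    rwa [div_eq_one_iff_eq ht] at h1
  -- g = scalar * unipotent
  have hgdec : g = ncf2_scal (M 0 0) hp * ncf2_Ug (M 0 1 / M 0 0) := by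
    apply Units.ext
    rw [Units.val_mul, ncf2_coe_Ug]
    show M = (M 0 0 • (1 : Matrix (Fin 2) (Fin 2) F)) * !![1, M 0 1 / M 0 0; 0, 1]
    rw [Matrix.smul_mul, Matrix.one_mul]
    conv_lhs => rw [Matrix.eta_fin_two M, h10, ← hpt]
    ext i j
    fin_cases i <;> fin_cases j <;> simp
    · field_simp
  rw [hgdec]
  exact Subgroup.mul_mem_sup (ncf2_scal_mem _ hp) ⟨ncf2_U _, rfl⟩

/-- NC-F2 (b). -/
theorem uL_iter (g : GL (Fin 2) F) (hg : g ∈ lineStab ![(0 : F), 1])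
    (h : ∃ k : ℕ, (fun y => g * y * g⁻¹ * y⁻¹)^[k] (uLg F) = 1) : g ∈ Lh 2 F := by
  obtain ⟨c, hc⟩ := mem_lineStab.1 hg
  set M : Matrix (Fin 2) (Fin 2) F := (g : Matrix (Fin 2) (Fin 2) F) with hM
  have h01 : M 0 1 = 0 := by
    have h1 := congrFun hc 0
    simpa [Matrix.mulVec, dotProduct, Fin.sum_univ_two] using h1
  have hdet : M 0 0 * M 1 1 ≠ 0 := by
    have h1 := ncf2_det_ne g
    rw [Matrix.det_fin_two, ← hM, h01, zero_mul, sub_zero] at h1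
    exact h1
  have hp : M 0 0 ≠ 0 := left_ne_zero_of_mul hdet
  have ht : M 1 1 ≠ 0 := right_ne_zero_of_mul hdet
  have hconj : ∀ a : F, g * ncf2_Lg a = ncf2_Lg (a * M 1 1 / M 0 0) * g := by
    intro a
    apply Units.ext
    rw [Units.val_mul, Units.val_mul, ncf2_coe_Lg, ncf2_coe_Lg, ← hM, Matrix.eta_fin_two M, h01]
    ext i j
    fin_cases i <;> fin_cases j <;> simp [Matrix.mul_apply, Fin.sum_univ_two]
    · field_simp
      ring
  have hstep : ∀ a : F, g * ncf2_Lg a * g⁻¹ * (ncf2_Lg a)⁻¹ = ncf2_Lg (a * (M 1 1 / M 0 0 - 1)) := by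
    intro a
    rw [hconj a, mul_assoc (ncf2_Lg _) g g⁻¹, mul_inv_cancel, mul_one, ncf2_Lg_inv, ncf2_Lg_mul]
    congr 1
    ring
  have hiter : ∀ k : ℕ, (fun y => g * y * g⁻¹ * y⁻¹)^[k] (uLg F) =
      ncf2_Lg ((M 1 1 / M 0 0 - 1) ^ k) := by
    intro k
    induction k with
    | zero => rw [Function.iterate_zero, id, pow_zero, ncf2_Lg_one]
    | succ k ih =>
      rw [Function.iterate_succ_apply', ih]
      show g * ncf2_Lg _ * g⁻¹ * (ncf2_Lg _)⁻¹ = _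
      rw [hstep, pow_succ]
  obtain ⟨k, hk⟩ := h
  rw [hiter k] at hk
  have h0 : M 1 1 / M 0 0 - 1 = 0 := pow_eq_zero_iff (n := k) (by
    intro hk0
    subst hk0
    rw [pow_zero] at hk
    exact one_ne_zero (ncf2_Lg_eq_one hk)) |>.1 (ncf2_Lg_eq_one hk)
  have hpt : M 1 1 = M 0 0 := by
    have h1 : M 1 1 / M 0 0 = 1 := sub_eq_zero.1 h0
    rwa [div_eq_one_iff_eq hp] at h1
  have hgdec : g = ncf2_scal (M 0 0) hp * ncf2_Lg (M 1 0 / M 0 0) := by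
    apply Units.ext
    rw [Units.val_mul, ncf2_coe_Lg]
    show M = (M 0 0 • (1 : Matrix (Fin 2) (Fin 2) F)) * !![1, 0; M 1 0 / M 0 0, 1]
    rw [Matrix.smul_mul, Matrix.one_mul]
    conv_lhs => rw [Matrix.eta_fin_two M, h01, hpt]
    ext i j
    fin_cases i <;> fin_cases j <;> simp
    · field_simp
  rw [hgdec]
  exact Subgroup.mul_mem_sup (ncf2_scal_mem _ hp) ⟨ncf2_L _, rfl⟩

end Cfsg.Agent.Lib.Helper6.Nc
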