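import Mathlib
import Cfsg.Prelude.Def_ClassicalGeometry
import Cfsg.Prelude.Def_GeometricClasses
import Cfsg.Agent.Lib.Helper37.CartanDieudonne

/-!
# S5972 hive (Ts), odd-`r` reduction, leaf TS-OMEGAODD : `mem_omegaGL_of_odd_order`.

An isometry of odd order of a nondegenerate quadratic form (characteristic not two, finite field)
lies in `Ω`: by Cartan–Dieudonné it is a product of reflections in `vs`, so its square is the
product over `vs ++ vs` (even length, `∏ Q v` a square), hence in `Ω` by the spinor norm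
criterion, and `x = (x²)^((n+1)/2)`.
-/

set_option autoImplicit false

namespace Cfsg.Agent.Lib.Helper79.TsSwap

open Cfsg.Agent.Lib.Helper37

/-- An isometry `g` with `g ^ n = 1`, `n` odd, lies in `Ω`. -/
theorem omegaodd_mem_omega {κ : Type} [Fintype κ] [DecidableEq κ] {F : Type*} [Field F]
    [Fintype F] [DecidableEq F]
    {Q : (κ → F) → F} {G : Matrix κ κ F} (h : IsGram Q G) (hdet : G.det ≠ 0)
    (g : ↥(Cfsg.isometryGroup F Q)) (n : ℕ) (hn : Odd n) (hgn : g ^ n = 1) :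
    g ∈ Cfsg.Omega F Q := by
  obtain ⟨vs, hvs, hprod⟩ := h.cartan_dieudonne hdet g
  have hsq : g * g ∈ Cfsg.Omega F Q := by
    apply h.mem_omega_of_even_and_isSquare (g * g) (vs ++ vs)
    · intro v hv
      rcases List.mem_append.1 hv with h' | h' <;> exact hvs v h'
    · rw [map_mul, hprod, List.map_append, List.prod_append]
    · rw [List.length_append]
      exact ⟨vs.length, rfl⟩
    · rw [List.map_append, List.prod_append]
      exact ⟨_, rfl⟩
  obtain ⟨k, hk⟩ := hn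
  have hg : g = (g * g) ^ (k + 1) := by
    rw [← pow_two, ← pow_mul]
    have h2 : 2 * (k + 1) = n + 1 := by omega
    rw [h2, pow_succ, hgn, one_mul]
  rw [hg]
  exact Subgroup.pow_mem _ hsq _

/-- the Gram matrix of the polar form of `quadFormOdd` -/
def omegaodd_gram (n : ℕ) (F : Type*) [Field F] :
    Matrix (Unit ⊕ (Fin n ⊕ Fin n)) (Unit ⊕ (Fin n ⊕ Fin n)) F :=
  Matrix.fromBlocks (Matrix.diagonal fun _ : Unit => (2 : F)) 0 0 (Matrix.fromBlocks 0 1 1 0)

/-- its inverse (when `2` is invertible) -/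
def omegaodd_gramInv (n : ℕ) (F : Type*) [Field F] :
    Matrix (Unit ⊕ (Fin n ⊕ Fin n)) (Unit ⊕ (Fin n ⊕ Fin n)) F :=
  Matrix.fromBlocks (Matrix.diagonal fun _ : Unit => (2⁻¹ : F)) 0 0 (Matrix.fromBlocks 0 1 1 0)

theorem omegaodd_gram_mul_gramInv (n : ℕ) (F : Type*) [Field F] (h2 : (2 : F) ≠ 0) :
    omegaodd_gram n F * omegaodd_gramInv n F = 1 := by
  unfold omegaodd_gram omegaodd_gramInv
  rw [Matrix.fromBlocks_multiply, Matrix.fromBlocks_multiply]
  simp only [Matrix.mul_zero, Matrix.zero_mul, add_zero, zero_add, Matrix.mul_one,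
    Matrix.diagonal_mul_diagonal, mul_inv_cancel₀ h2]
  rw [Matrix.diagonal_one, Matrix.fromBlocks_one, Matrix.fromBlocks_one]

theorem omegaodd_gram_isSymm (n : ℕ) (F : Type*) [Field F] : (omegaodd_gram n F).IsSymm := by
  unfold omegaodd_gram
  apply Matrix.IsSymm.fromBlocks
  · exact Matrix.isSymm_diagonal _
  · simp
  · apply Matrix.IsSymm.fromBlocks <;> simp [Matrix.IsSymm]

theorem omegaodd_gram_self (n : ℕ) (F : Type*) [Field F] (u : Unit ⊕ (Fin n ⊕ Fin n) → F) :
    Matrix.toBilin' (omegaodd_gram n F) u u = 2 * Cfsg.quadFormOdd n F u := by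
  rw [Matrix.toBilin'_apply']
  unfold omegaodd_gram Cfsg.quadFormOdd
  simp [dotProduct, Fintype.sum_sum_type, Matrix.mulVec, Matrix.one_apply]
  have : ∑ x, u (Sum.inr (Sum.inr x)) * u (Sum.inr (Sum.inl x)) =
      ∑ x, u (Sum.inr (Sum.inl x)) * u (Sum.inr (Sum.inr x)) :=
    Finset.sum_congr rfl (fun x _ => mul_comm _ _)
  rw [this]
  have e : u (Sum.inl PUnit.unit) = u (Sum.inl ()) := rfl
  rw [e]
  ring

theorem omegaodd_isGram {F : Type*} [Field F] (h2 : (2 : F) ≠ 0) (m : ℕ) :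
    IsGram (Cfsg.quadFormOdd m F) (omegaodd_gram m F) where
  two_ne := h2
  symm := omegaodd_gram_isSymm m F
  self := omegaodd_gram_self m F

theorem omegaodd_gram_det {F : Type*} [Field F] (h2 : (2 : F) ≠ 0) (m : ℕ) :
    (omegaodd_gram m F).det ≠ 0 := by
  intro h
  have := congrArg Matrix.det (omegaodd_gram_mul_gramInv m F h2)
  rw [Matrix.det_mul, h, zero_mul, Matrix.det_one] at this
  exact zero_ne_one this

/-- TS-OMEGAODD.  An isometry of odd order of `x₀² + Σ xᵢyᵢ` (char ≠ 2) lies in `Ω`. -/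
theorem mem_omegaGL_of_odd_order {F : Type*} [Field F] [Fintype F] (h2 : (2 : F) ≠ 0) (d : ℕ)
    (x : GL (Unit ⊕ (Fin d ⊕ Fin d)) F) (hx : x ∈ Cfsg.isometryGroup F (Cfsg.quadFormOdd d F))
    (hodd : Odd (orderOf x)) : x ∈ Cfsg.Geo.omegaGL (Cfsg.quadFormOdd d F) := by
  classical
  have hmem : (⟨x, hx⟩ : ↥(Cfsg.isometryGroup F (Cfsg.quadFormOdd d F))) ∈
      Cfsg.Omega F (Cfsg.quadFormOdd d F) := by
    refine omegaodd_mem_omega (omegaodd_isGram h2 d) (omegaodd_gram_det h2 d) ⟨x, hx⟩ (orderOf x)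
      hodd ?_
    apply Subtype.ext
    rw [Subgroup.coe_pow, Subgroup.coe_one]
    exact pow_orderOf_eq_one x
  exact ⟨⟨x, hx⟩, hmem, rfl⟩

end Cfsg.Agent.Lib.Helper79.TsSwap
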