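import Cfsg.Agent.Lib.Helper15.HsBasic

/-!
# Ha hive (helper14, S2534), leaf HA-LIFT `hall_lift_index_two` (helper9)

`N` of index 2 in `G`, `D_π(N)`, `M` Hall in `N`  ⟹  a Hall `π`-subgroup `M₀ ≥ M` of `G`.
`2 ∉ π`: `M₀ = M`.  `2 ∈ π`: Frattini gives `τ₀ ∈ N_G(M) \ N`; with `r = |N_N(M) : M|` (odd, a `π'`-number) and
`τ = τ₀ ^ r` we get `τ ∉ N`, `τ² ∈ M`, and `M₀ = M ∪ τM`.
-/

set_option autoImplicit false

namespace Cfsg.Agent.Lib.Helper14.Ha

open Cfsg Cfsg.Agent.Lib.Helper15.Hs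

/-- a Hall `π`-subgroup is a maximal `π`-subgroup -/
theorem lift_hall_maximal {G : Type*} [Group G] [Finite G] (π : Set ℕ) (M : Subgroup G)
    (hM : IsPiHall π M) : Maximal (IsPiSubgroup π) M := by
  refine ⟨hM.1, ?_⟩
  intro X hX hMX
  rw [← Subgroup.relIndex_eq_one]
  by_contra hne
  obtain ⟨p, hp, hpr⟩ := Nat.exists_prime_and_dvd hne
  have h1 : M.relIndex X ∣ Nat.card X := Subgroup.index_dvd_card _
  have h2 : M.relIndex X ∣ M.index := Dvd.intro _ (Subgroup.relIndex_mul_index hMX)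
  exact hM.2 p hp (hX p hp (dvd_trans hpr h1)) (dvd_trans hpr h2)

/-- the image of a Hall subgroup under an automorphism is Hall -/
theorem lift_hall_map {G : Type*} [Group G] [Finite G] (π : Set ℕ) (M : Subgroup G)
    (hM : IsPiHall π M) (φ : G ≃* G) : IsPiHall π (M.map φ.toMonoidHom) := by
  have hc : Nat.card (M.map φ.toMonoidHom) = Nat.card M :=
    Subgroup.card_map_of_injective φ.injective
  have hi : (M.map φ.toMonoidHom).index = M.index :=
    Subgroup.index_map_of_bijective φ.bijective M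
  refine ⟨?_, ?_⟩
  · intro p hp hpd
    rw [hc] at hpd
    exact hM.1 p hp hpd
  · intro p hp hpπ
    rw [hi]
    exact hM.2 p hp hpπ

/-- powers of an element outside a subgroup of index 2 -/
theorem lift_pow_mem_iff {G : Type*} [Group G] (N : Subgroup G) (hN : N.index = 2) {s : G}
    (hs : s ∉ N) (k : ℕ) : s ^ k ∈ N ↔ Even k := by
  induction k with
  | zero => simp
  | succ k ih =>
    rw [pow_succ, Subgroup.mul_mem_iff_of_index_two hN, ih, Nat.even_add_one]
    simp [hs]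

/-- the subgroup `M' ∪ τ M'` -/
def liftSub {G : Type*} [Group G] (M' : Subgroup G) (τ : G) (hn : τ ∈ Subgroup.normalizer (M' : Set G))
    (hsq : τ * τ ∈ M') : Subgroup G where
  carrier := {x | x ∈ M' ∨ τ⁻¹ * x ∈ M'}
  one_mem' := Or.inl (Subgroup.one_mem _)
  mul_mem' := by
    have hn' : τ⁻¹ ∈ Subgroup.normalizer (M' : Set G) := Subgroup.inv_mem _ hn
    rintro x x' (hx | hx) (hx' | hx')
    · exact Or.inl (Subgroup.mul_mem _ hx hx')
    · right
      have h1 : τ⁻¹ * x * τ⁻¹⁻¹ ∈ M' := (Subgroup.mem_normalizer_iff.1 hn' x).1 hx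
      have : τ⁻¹ * (x * x') = (τ⁻¹ * x * τ⁻¹⁻¹) * (τ⁻¹ * x') := by group
      rw [this]
      exact Subgroup.mul_mem _ h1 hx'
    · right
      have : τ⁻¹ * (x * x') = (τ⁻¹ * x) * x' := by group
      rw [this]
      exact Subgroup.mul_mem _ hx hx'
    · left
      have h1 : τ⁻¹ * (τ⁻¹ * x) * τ⁻¹⁻¹ ∈ M' := (Subgroup.mem_normalizer_iff.1 hn' _).1 hx
      have : x * x' = (τ * τ) * (τ⁻¹ * (τ⁻¹ * x) * τ⁻¹⁻¹) * (τ⁻¹ * x') := by group
      rw [this]
      exact Subgroup.mul_mem _ (Subgroup.mul_mem _ hsq h1) hx'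
  inv_mem' := by
    have hn' : τ⁻¹ ∈ Subgroup.normalizer (M' : Set G) := Subgroup.inv_mem _ hn
    rintro x (hx | hx)
    · exact Or.inl (Subgroup.inv_mem _ hx)
    · right
      have h1 : (τ⁻¹ * x)⁻¹ ∈ M' := Subgroup.inv_mem _ hx
      have h2 : τ⁻¹ * (τ⁻¹ * x)⁻¹ * τ⁻¹⁻¹ ∈ M' := (Subgroup.mem_normalizer_iff.1 hn' _).1 h1
      have h3 : (τ * τ)⁻¹ ∈ M' := Subgroup.inv_mem _ hsq
      have : τ⁻¹ * x⁻¹ = (τ⁻¹ * (τ⁻¹ * x)⁻¹ * τ⁻¹⁻¹) * (τ * τ)⁻¹ := by group
      rw [this]
      exact Subgroup.mul_mem _ h2 h3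

/-- HA-LIFT -/
theorem hall_lift_index_two {G : Type*} [Group G] [Finite G] (π : Set ℕ) (N : Subgroup G)
    (hN : N.index = 2) (hD : IsDPiGroup π ↥N) (M : Subgroup ↥N) (hM : IsPiHall π M) :
    ∃ M₀ : Subgroup G, IsPiHall π M₀ ∧ M.map N.subtype ≤ M₀ := by
  have hNn : N.Normal := Subgroup.normal_of_index_eq_two hN
  have hcM' : Nat.card (M.map N.subtype) = Nat.card M :=
    Subgroup.card_map_of_injective N.subtype_injective
  have hiM' : (M.map N.subtype).index = M.index * 2 := by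
    rw [Subgroup.index_map_subtype, hN]
  by_cases h2 : 2 ∈ π
  swap
  · -- 2 ∉ π
    refine ⟨M.map N.subtype, ⟨?_, ?_⟩, le_refl _⟩
    · intro p hp hpd
      rw [hcM'] at hpd
      exact hM.1 p hp hpd
    · intro p hp hpπ hpd
      rw [hiM'] at hpd
      rcases (Nat.Prime.dvd_mul hp).1 hpd with h | h
      · exact hM.2 p hp hpπ h
      · have : p = 2 := (Nat.prime_dvd_prime_iff_eq hp Nat.prime_two).1 h
        exact h2 (this ▸ hpπ)
  -- 2 ∈ π
  obtain ⟨σ, hσ⟩ : ∃ σ : G, σ ∉ N := by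
    by_contra hcon
    push Not at hcon
    have : N = ⊤ := (Subgroup.eq_top_iff' N).2 hcon
    rw [this, Subgroup.index_top] at hN
    omega
  set φ : ↥N ≃* ↥N := MulAut.conjNormal σ with hφ
  obtain ⟨g, hg⟩ := hD M (M.map φ.toMonoidHom) (lift_hall_maximal π M hM)
    (lift_hall_maximal π _ (lift_hall_map π M hM φ))
  set M' : Subgroup G := M.map N.subtype with hM'
  have hmem : ∀ w : ↥N, (w : G) ∈ M' ↔ w ∈ M := fun w =>
    Subgroup.mem_map_iff_mem N.subtype_injective
  set τ₀ : G := (g : G)⁻¹ * σ with hτ₀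
  have hτ₀N : τ₀ ∉ N := by
    rw [hτ₀, Subgroup.mul_mem_cancel_left _ (Subgroup.inv_mem _ g.2)]
    exact hσ
  -- τ₀ normalizes M'
  have hτ₀n : τ₀ ∈ Subgroup.normalizer (M' : Set G) := by
    rw [Subgroup.mem_normalizer_iff]
    intro h
    constructor
    · rintro ⟨y, hy, rfl⟩
      have h1 : φ y ∈ M.map φ.toMonoidHom := Subgroup.mem_map_of_mem _ hy
      rw [hg] at h1
      obtain ⟨z, hz, hzy⟩ := h1
      have h2 : (g : G) * z * (g : G)⁻¹ = σ * y * σ⁻¹ := by
        have := congrArg (Subtype.val) hzy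
        simpa [hφ, MulAut.conjNormal_apply] using this
      have h3 : τ₀ * N.subtype y * τ₀⁻¹ = (z : G) := by
        have : τ₀ * N.subtype y * τ₀⁻¹ = (g : G)⁻¹ * (σ * y * σ⁻¹) * g := by
          rw [hτ₀]
          simp only [Subgroup.subtype_apply]
          group
        rw [this, ← h2]
        group
      rw [h3]
      exact (hmem z).2 hz
    · intro hw
      obtain ⟨z, hz, hzw⟩ := hw
      have h1 : (MulAut.conj g) z ∈ M.map (MulAut.conj g).toMonoidHom := Subgroup.mem_map_of_mem _ hz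
      rw [← hg] at h1
      obtain ⟨y, hy, hyz⟩ := h1
      have h2 : σ * y * σ⁻¹ = (g : G) * z * (g : G)⁻¹ := by
        have := congrArg (Subtype.val) hyz
        simpa [hφ, MulAut.conjNormal_apply] using this
      have h3 : h = (y : G) := by
        have e1 : h = τ₀⁻¹ * (τ₀ * h * τ₀⁻¹) * τ₀ := by group
        rw [e1, ← hzw, hτ₀]
        simp only [Subgroup.subtype_apply]
        have : ((g : G)⁻¹ * σ)⁻¹ * (z : G) * ((g : G)⁻¹ * σ) = σ⁻¹ * ((g : G) * z * (g : G)⁻¹) * σ := by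
          group
        rw [this, ← h2]
        group
      rw [h3]
      exact (hmem y).2 hy
  -- r = |N_N(M) : M|
  set r : ℕ := M.relIndex (Subgroup.normalizer (M : Set ↥N)) with hr
  have hrdvd : r ∣ M.index := Dvd.intro _ (Subgroup.relIndex_mul_index Subgroup.le_normalizer)
  have hrodd : ¬ Even r := by
    intro he
    exact hM.2 2 Nat.prime_two h2 (dvd_trans (even_iff_two_dvd.1 he) hrdvd)
  have hpow : ∀ x : ↥N, x ∈ Subgroup.normalizer (M : Set ↥N) → x ^ r ∈ M := by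
    intro x hx
    have := Subgroup.pow_index_mem (M.subgroupOf (Subgroup.normalizer (M : Set ↥N))) (⟨x, hx⟩ : ↥(Subgroup.normalizer (M : Set ↥N)))
    rw [Subgroup.mem_subgroupOf] at this
    have hrr : r = (M.subgroupOf (Subgroup.normalizer (M : Set ↥N))).index := rfl
    rw [hrr]
    simpa using this
  set τ : G := τ₀ ^ r with hτ
  have hτN : τ ∉ N := by
    rw [hτ, lift_pow_mem_iff N hN hτ₀N]
    exact hrodd
  have hτn : τ ∈ Subgroup.normalizer (M' : Set G) := Subgroup.pow_mem _ hτ₀n r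
  have hsq : τ * τ ∈ M' := by
    have h1 : τ₀ ^ 2 ∈ N := by
      rw [lift_pow_mem_iff N hN hτ₀N]
      exact even_two
    have h2 : (⟨τ₀ ^ 2, h1⟩ : ↥N) ∈ Subgroup.normalizer (M : Set ↥N) := by
      rw [Subgroup.mem_normalizer_iff]
      intro y
      have h3 : τ₀ ^ 2 ∈ Subgroup.normalizer (M' : Set G) := Subgroup.pow_mem _ hτ₀n 2
      have h4 := Subgroup.mem_normalizer_iff.1 h3 (y : G)
      rw [hmem y] at h4
      rw [h4, ← hmem]
      rfl
    have h5 := hpow _ h2
    rw [← hmem] at h5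
    have : τ * τ = ((⟨τ₀ ^ 2, h1⟩ : ↥N) ^ r : ↥N) := by
      rw [hτ]
      push_cast
      rw [← pow_mul, ← pow_add, two_mul]
    rw [this]
    exact h5
  -- the Hall subgroup
  set M₀ : Subgroup G := liftSub M' τ hτn hsq with hM₀
  have hle : M' ≤ M₀ := fun x hx => Or.inl hx
  have hτM₀ : τ ∈ M₀ := Or.inr (by rw [inv_mul_cancel]; exact Subgroup.one_mem _)
  have hinf : N ⊓ M₀ = M' := by
    apply le_antisymm
    · rintro x ⟨hxN, hx | hx⟩
      · exact hx
      · exfalso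
        apply hτN
        have h1 : τ⁻¹ * x ∈ N := by
          obtain ⟨y, -, hy⟩ := hx
          rw [← hy]
          exact y.2
        have : τ = x * (τ⁻¹ * x)⁻¹ := by group
        rw [this]
        exact Subgroup.mul_mem _ hxN (Subgroup.inv_mem _ h1)
    · intro x hx
      refine ⟨?_, hle hx⟩
      obtain ⟨y, -, hy⟩ := hx
      rw [← hy]
      exact y.2
  have hrel : N.relIndex M₀ = 2 := by
    have h1 : N.relIndex M₀ ∣ 2 := hN ▸ Subgroup.relIndex_dvd_index_of_normal N M₀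
    have h2 : N.relIndex M₀ ≠ 1 := by
      rw [Ne, Subgroup.relIndex_eq_one]
      intro hle'
      exact hτN (hle' hτM₀)
    rcases (Nat.dvd_prime Nat.prime_two).1 h1 with h | h
    · exact absurd h h2
    · exact h
  have hidx : M₀.index = M.index := by
    have h1 := Subgroup.relIndex_mul_index hle
    rw [← hinf, Subgroup.inf_relIndex_right, hrel, hinf, hiM'] at h1
    omega
  have hcard : Nat.card M₀ = 2 * Nat.card M := by
    have h1 := Subgroup.card_mul_index M₀
    have h2 := Subgroup.card_mul_index M'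
    rw [hidx] at h1
    rw [hiM', hcM'] at h2
    have hpos : 0 < M.index := Nat.pos_of_ne_zero (Subgroup.index_ne_zero_of_finite)
    have : Nat.card M₀ * M.index = (2 * Nat.card M) * M.index := by
      rw [h1, ← h2]
      ring
    exact Nat.eq_of_mul_eq_mul_right hpos this
  refine ⟨M₀, ⟨?_, ?_⟩, hle⟩
  · intro p hp hpd
    rw [hcard] at hpd
    rcases (Nat.Prime.dvd_mul hp).1 hpd with h | h
    · have : p = 2 := (Nat.prime_dvd_prime_iff_eq hp Nat.prime_two).1 h
      exact this ▸ h2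
    · exact hM.1 p hp h
  · intro p hp hpπ
    rw [hidx]
    exact hM.2 p hp hpπ

end Cfsg.Agent.Lib.Helper14.Ha
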