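import Mathlib

set_option autoImplicit false

namespace Cfsg.Agent.Lib.Helper9

theorem index_inf_of_coprime_index {X : Type*} [Group X] [Finite X] (A B : Subgroup X)
    (h : A.index.Coprime B.index) : (A ⊓ B).index = A.index * B.index := by
  apply le_antisymm (Subgroup.index_inf_le)
  apply Nat.le_of_dvd
  · exact Nat.pos_of_ne_zero Subgroup.index_ne_zero_of_finite
  · exact Nat.Coprime.mul_dvd_of_dvd_of_dvd h (Subgroup.index_dvd_of_le inf_le_left)
      (Subgroup.index_dvd_of_le inf_le_right)

theorem relIndex_eq_index_of_coprime_index {X : Type*} [Group X] [Finite X] (A B : Subgroup X)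
    (h : A.index.Coprime B.index) : B.relIndex A = B.index := by
  have h1 := index_inf_of_coprime_index A B h
  have h2 : (A ⊓ B).relIndex A * A.index = (A ⊓ B).index :=
    Subgroup.relIndex_mul_index inf_le_left
  rw [Subgroup.inf_relIndex_left, h1, mul_comm] at h2
  exact Nat.eq_of_mul_eq_mul_left (Nat.pos_of_ne_zero Subgroup.index_ne_zero_of_finite) h2

/-- Subgroups of coprime index have set-product the whole group. -/
theorem exists_mul_of_coprime_index {X : Type*} [Group X] [Finite X] (A B : Subgroup X)
    (h : A.index.Coprime B.index) (x : X) : ∃ a ∈ A, ∃ b ∈ B, x = a * b := by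
  let f : A ⧸ B.subgroupOf A → X ⧸ B :=
    Quotient.map' (fun a : A => (a : X)) (by
      intro a a' haa'
      rw [QuotientGroup.leftRel_apply] at haa' ⊢
      exact haa')
  have hf : Function.Injective f := by
    intro u v
    induction u using Quotient.inductionOn' with
    | h a =>
      induction v using Quotient.inductionOn' with
      | h a' =>
        intro huv
        have h1 : (a : X)⁻¹ * (a' : X) ∈ B := by
          have := Quotient.exact' huv
          rwa [QuotientGroup.leftRel_apply] at this
        apply Quotient.sound'
        rw [QuotientGroup.leftRel_apply]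
        exact h1
  have hcard : Nat.card (A ⧸ B.subgroupOf A) = Nat.card (X ⧸ B) := by
    have := relIndex_eq_index_of_coprime_index A B h
    exact this
  have hbij : Function.Bijective f :=
    (Nat.bijective_iff_injective_and_card f).mpr ⟨hf, hcard⟩
  obtain ⟨u, hu⟩ := hbij.2 (QuotientGroup.mk x)
  induction u using Quotient.inductionOn' with
  | h a =>
    have h1 : (a : X)⁻¹ * x ∈ B := by
      have := Quotient.exact' hu
      rwa [QuotientGroup.leftRel_apply] at this
    exact ⟨a, a.2, (a : X)⁻¹ * x, h1, by group⟩

end Cfsg.Agent.Lib.Helper9
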