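import Mathlib
import Cfsg.Prelude.Def_ClassicalGeometry
import Cfsg.Prelude.Def_GeometricClasses
import Cfsg.Prelude.Def_Classical
import Cfsg.Agent.Lib.Helper15.HqDefs
import Cfsg.Agent.Lib.Helper81.OnBR

/-!
# Hq hive (helper15, S5974), leaf HQ-TOP : `plus_top` (helper9)

The whole hyperbolic space `Fin d ⊕ Fin d → F` is of plus type for `plusB d`: the coordinate
subspace `{v | ∀ i, v (inr i) = 0}` is totally isotropic of dimension `d` (any field).
-/

set_option autoImplicit false

namespace Cfsg.Agent.Lib.Helper15.Hq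

open Module
open Cfsg.Agent.Lib.Helper2.BG Cfsg.Agent.Lib.Helper99 Cfsg.Agent.Lib.Helper48.Ti
open Cfsg.Agent.Lib.Helper5.Hy (Plus Fixes)
open Cfsg.Agent.Lib.Helper81.On (plusB VP)

section bridge

variable {F : Type*} [Field F]

/-- HQ-TOP -/
theorem plus_top (d : ℕ) : Plus (plusB (F := F) d) ⊤ := by
  refine ⟨LinearMap.ker (LinearMap.funLeft F F (Sum.inr : Fin d → Fin d ⊕ Fin d)), le_top, ?_, ?_⟩
  · intro u hu v hv
    rw [LinearMap.mem_ker] at hu hv
    have hu' : ∀ i, u (Sum.inr i) = 0 := fun i => congrFun hu i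
    have hv' : ∀ i, v (Sum.inr i) = 0 := fun i => congrFun hv i
    rw [Cfsg.Agent.Lib.Helper81.On.br_plusB_apply]
    apply Finset.sum_eq_zero
    intro i _
    rw [hu', hv']
    ring
  · have h1 := LinearMap.finrank_range_add_finrank_ker
      (LinearMap.funLeft F F (Sum.inr : Fin d → Fin d ⊕ Fin d))
    have h2 : LinearMap.range (LinearMap.funLeft F F (Sum.inr : Fin d → Fin d ⊕ Fin d)) = ⊤ :=
      LinearMap.range_eq_top.2
        (LinearMap.funLeft_surjective_of_injective F F _ Sum.inr_injective)
    rw [h2, finrank_top] at h1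
    rw [finrank_top]
    simp only [Module.finrank_fintype_fun_eq_card, Fintype.card_fin, Fintype.card_sum] at h1
    have h3 : finrank F (VP d F) = d + d := by
      simp [VP, Module.finrank_fintype_fun_eq_card]
    rw [h3]
    have h4 : finrank F (LinearMap.ker (LinearMap.funLeft F F (Sum.inr : Fin d → Fin d ⊕ Fin d))) =
        d := by omega
    have h5 : 2 * finrank F (LinearMap.ker (LinearMap.funLeft F F
        (Sum.inr : Fin d → Fin d ⊕ Fin d))) = d + d := by omega
    exact h5

end bridge

end Cfsg.Agent.Lib.Helper15.Hq
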