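import Mathlib
import Cfsg.Agent.Lib.Helper16.PSLDefs
import Cfsg.Prelude.Def_CaseTheorems
import Cfsg.Agent.Lib.Helper55.Cores

/-!
# S4472 hive (PSL), leaf G1b, core argument.

`g1b_main` is the leaf `exists_npc_pair` with the two other leaves G1a (`exists_frattini_compl`)
and G1c (`pElement_centralizer_mem_pCore`) taken as hypotheses.
-/

set_option autoImplicit false

namespace Cfsg.Agent.Lib.Helper16.PSL

open Cfsg

universe u

/-- `|N ⊓ Q| = 1`, `N` normal: `|N Q : N| = |Q|`. -/
theorem g1b_relIndex_sup_of_inf_eq_bot {G : Type u} [Group G] (N Q : Subgroup G) [N.Normal]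
    (h : N ⊓ Q = ⊥) : N.relIndex (N ⊔ Q) = Nat.card Q := by
  rw [sup_comm, Subgroup.relIndex_sup_right, ← Subgroup.inf_relIndex_right, h,
    Subgroup.relIndex_bot_left]

/-- `G = N M`, `N` normal: `|G : N| = |M : N ⊓ M|`. -/
theorem g1b_index_eq_of_sup_eq_top {G : Type u} [Group G] (N M : Subgroup G) [N.Normal]
    (h : N ⊔ M = ⊤) : N.index = (N ⊓ M).relIndex M := by
  rw [Subgroup.inf_relIndex_right, ← Subgroup.relIndex_sup_right M N, sup_comm, h,
    Subgroup.relIndex_top_right]

theorem g1b_main {G : Type u} [Group G] [Finite G] (p : ℕ) [Fact p.Prime]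
    (hG1a : ∀ (N K : Subgroup G) [N.Normal] [K.Normal], N ≤ K → IsPGroup p N →
      (N.relIndex K).Coprime p → ∃ Q : Subgroup G, Q ≤ K ∧ N ⊓ Q = ⊥ ∧ N ⊔ Q = K ∧
        N ⊔ Subgroup.normalizer (Q : Set G) = ⊤)
    (hG1c : ∀ Q : Subgroup G, pCore p G ⊔ Q =
        (pPrimeCore p (G ⧸ pCore p G)).comap (QuotientGroup.mk' (pCore p G)) →
      ∀ y : G, (∃ k : ℕ, y ^ p ^ k = 1) → y ∈ Subgroup.centralizer (Q : Set G) →
        y ∈ pCore p G) :
    ∃ (Q P : Subgroup G), (Nat.card Q).Coprime p ∧ IsPGroup p P ∧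
      P ≤ Subgroup.normalizer (Q : Set G) ∧
      ((pCore p G).index).factorization p ≤
        ((P ⊓ Subgroup.centralizer (Q : Set G)).relIndex P).factorization p := by
  classical
  have hp : p.Prime := Fact.out
  set N : Subgroup G := pCore p G with hNdef
  have hNp : IsPGroup p N := Cfsg.Agent.Lib.Helper55.pCore_isPGroup p
  set K : Subgroup G := (pPrimeCore p (G ⧸ N)).comap (QuotientGroup.mk' N) with hKdef
  have : K.Normal := Subgroup.Normal.comap inferInstance _
  have hNK : N ≤ K := Cfsg.Agent.Lib.Helper55.le_comap_mk' N _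
  -- `|K : N|` is prime to `p`
  have hcop : (N.relIndex K).Coprime p := by
    have h1 : Nat.card K = Nat.card N * Nat.card (pPrimeCore p (G ⧸ N)) :=
      Cfsg.Agent.Lib.Helper55.card_comap_mk' N _
    have h2 : Nat.card N * N.relIndex K = Nat.card K :=
      Cfsg.Agent.Lib.Helper55.card_mul_relIndex_eq hNK
    have h3 : N.relIndex K = Nat.card (pPrimeCore p (G ⧸ N)) := by
      have hpos : 0 < Nat.card N := Nat.card_pos
      exact Nat.eq_of_mul_eq_mul_left hpos (h2.trans h1)
    rw [h3]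
    exact Cfsg.Agent.Lib.Helper55.pPrimeCore_card_coprime p
  obtain ⟨Q, hQK, hNQ, hNQK, hNM⟩ := hG1a N K hNK hNp hcop
  -- `|Q|` is prime to `p`
  have hQcop : (Nat.card Q).Coprime p := by
    have := g1b_relIndex_sup_of_inf_eq_bot N Q hNQ
    rw [hNQK] at this
    rw [← this]
    exact hcop
  set M : Subgroup G := Subgroup.normalizer (Q : Set G) with hMdef
  obtain ⟨P₀⟩ := (inferInstance : Nonempty (Sylow p M))
  set P : Subgroup G := (P₀ : Subgroup M).map M.subtype with hPdef
  have hPp : IsPGroup p P := P₀.isPGroup'.map _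
  have hPM : P ≤ M := Subgroup.map_subtype_le _
  have hcardP : Nat.card P = p ^ (Nat.card M).factorization p := by
    rw [hPdef, Subgroup.card_map_of_injective (Subgroup.subtype_injective M)]
    exact P₀.card_eq_multiplicity
  refine ⟨Q, P, hQcop, hPp, hPM, ?_⟩
  set D : Subgroup G := P ⊓ Subgroup.centralizer (Q : Set G) with hDdef
  -- `D ≤ N ⊓ M`
  have hDle : D ≤ N ⊓ M := by
    intro y hy
    have hyP : y ∈ P := hy.1
    have hyC : y ∈ Subgroup.centralizer (Q : Set G) := hy.2
    refine ⟨?_, hPM hyP⟩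
    refine hG1c Q hNQK y ?_ hyC
    obtain ⟨k, hk⟩ := hPp ⟨y, hyP⟩
    refine ⟨k, ?_⟩
    have := congrArg (Subtype.val) hk
    simpa using this
  have hDdvd : Nat.card D ∣ Nat.card (N ⊓ M : Subgroup G) := Subgroup.card_dvd_of_le hDle
  -- the equations
  have e1 : Nat.card D * D.relIndex P = Nat.card P :=
    Cfsg.Agent.Lib.Helper55.card_mul_relIndex_eq (inf_le_left : D ≤ P)
  have e2 : Nat.card (N ⊓ M : Subgroup G) * (N ⊓ M).relIndex M = Nat.card M :=
    Cfsg.Agent.Lib.Helper55.card_mul_relIndex_eq (inf_le_right : N ⊓ M ≤ M)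
  have e3 : N.index = (N ⊓ M).relIndex M := g1b_index_eq_of_sup_eq_top N M hNM
  have hD0 : Nat.card D ≠ 0 := Nat.card_pos.ne'
  have hNM0 : Nat.card (N ⊓ M : Subgroup G) ≠ 0 := Nat.card_pos.ne'
  have hP0 : Nat.card P ≠ 0 := Nat.card_pos.ne'
  have hM0 : Nat.card M ≠ 0 := Nat.card_pos.ne'
  have hr1 : D.relIndex P ≠ 0 := by
    intro h; rw [h, mul_zero] at e1; exact hP0 e1.symm
  have hr2 : (N ⊓ M).relIndex M ≠ 0 := by
    intro h; rw [h, mul_zero] at e2; exact hM0 e2.symm
  have f1 : (Nat.card D).factorization p + (D.relIndex P).factorization p =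
      (Nat.card P).factorization p := by
    rw [← e1, Nat.factorization_mul hD0 hr1]; rfl
  have f2 : (Nat.card (N ⊓ M : Subgroup G)).factorization p +
      ((N ⊓ M).relIndex M).factorization p = (Nat.card M).factorization p := by
    rw [← e2, Nat.factorization_mul hNM0 hr2]; rfl
  have f3 : (Nat.card P).factorization p = (Nat.card M).factorization p := by
    rw [hcardP, Nat.factorization_pow, Finsupp.smul_apply, hp.factorization_self, smul_eq_mul,
      mul_one]
  have f4 : (Nat.card D).factorization p ≤ (Nat.card (N ⊓ M : Subgroup G)).factorization p :=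
    (Nat.factorization_le_iff_dvd hD0 hNM0).2 hDdvd p
  rw [e3]
  omega

end Cfsg.Agent.Lib.Helper16.PSL
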