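import Mathlib
import Cfsg.Agent.Lib.Helper16.PSLDefs
import Cfsg.Prelude.Def_CaseTheorems
import Cfsg.Agent.Lib.Helper9.PSLG1bMain
import Cfsg.Agent.Lib.Helper87.PSLG1a
import Cfsg.Agent.Lib.Helper95.PSLG1c

/-!
# S4472 hive (PSL), leaf G1b : `exists_npc_pair`.
-/

set_option autoImplicit false

namespace Cfsg.Agent.Lib.Helper16.PSL

open Cfsg

universe u

/-- LEAF G1b.  The pair `(Q, P)`: `Q` from `exists_frattini_compl` with `N = O_p(G)`,
`K = O_{p,p'}(G)`; `P` a Sylow `p`-subgroup of `N_G(Q)`; counting with `G = N · N_G(Q)` and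
`P ∩ C(Q) ≤ N ∩ N_G(Q)` (`pElement_centralizer_mem_pCore`). -/
theorem exists_npc_pair {G : Type u} [Group G] [Finite G] (p : ℕ) [Fact p.Prime]
    (hsolv : IsPSolvable p G) :
    ∃ (Q P : Subgroup G), (Nat.card Q).Coprime p ∧ IsPGroup p P ∧
      P ≤ Subgroup.normalizer (Q : Set G) ∧
      ((pCore p G).index).factorization p ≤
        ((P ⊓ Subgroup.centralizer (Q : Set G)).relIndex P).factorization p :=
  g1b_main p (fun N K _ _ a b c => exists_frattini_compl p N K a b c)
    (fun Q hQ y hy hc => pElement_centralizer_mem_pCore p hsolv Q hQ y hy hc)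

end Cfsg.Agent.Lib.Helper16.PSL
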