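import Mathlib
import Cfsg.Agent.Lib.Helper99.BMDefs

/-! # S2733 hive (helper99), leaf BM-BQ: the `K'`-bilinear form attached to a form with a
self-adjoint square root of a nonsquare -/

set_option autoImplicit false

namespace Cfsg.Agent.Lib.Helper99.BM

universe u v

section typeB

variable {F : Type u} [Field F] {K' : Type u} [Field K'] [Algebra F K']

/-- `1, ω` are linearly independent over `F` -/
theorem bq_indep (ω : K') (μ : F) (hω : ω * ω = algebraMap F K' μ) (hμ : ¬ IsSquare μ)
    (a b : F) (h : algebraMap F K' a + ω * algebraMap F K' b = 0) : a = 0 ∧ b = 0 := by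
  have hinj : Function.Injective (algebraMap F K') := (algebraMap F K').injective
  have hb : b = 0 := by
    by_contra hb
    apply hμ
    refine ⟨a / b, ?_⟩
    apply hinj
    have hb' : algebraMap F K' b ≠ 0 := by
      intro h0
      exact hb (hinj (by rw [h0, map_zero]))
    have e : ω = - algebraMap F K' a / algebraMap F K' b := by
      rw [eq_div_iff hb']
      linear_combination h
    rw [← hω, map_mul, map_div₀]
    rw [e]
    ring
  subst hb
  rw [map_zero, mul_zero, add_zero] at h
  exact ⟨hinj (by rw [h, map_zero]), rfl⟩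

/-- every element of `K'` is `a + b ω` -/
theorem bq_span (ω : K') (μ : F) (hω : ω * ω = algebraMap F K' μ) (hμ : ¬ IsSquare μ)
    (hrank : Module.finrank F K' = 2) (c : K') :
    ∃ a b : F, c = algebraMap F K' a + ω * algebraMap F K' b := by
  have hli : LinearIndependent F ![(1 : K'), ω] := by
    rw [LinearIndependent.pair_iff]
    intro s t hst
    apply bq_indep ω μ hω hμ s t
    rw [Algebra.smul_def, Algebra.smul_def, mul_one] at hst
    rw [← hst]
    ring
  have hfd : FiniteDimensional F K' := Module.finite_of_finrank_pos (by rw [hrank]; norm_num)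
  have hspan : Submodule.span F (Set.range ![(1 : K'), ω]) = ⊤ := by
    apply hli.span_eq_top_of_card_eq_finrank'
    rw [hrank]
    simp
  have hc : c ∈ Submodule.span F (Set.range ![(1 : K'), ω]) := by rw [hspan]; trivial
  rw [Submodule.mem_span_range_iff_exists_fun] at hc
  obtain ⟨g, hg⟩ := hc
  refine ⟨g 0, g 1, ?_⟩
  rw [← hg, Fin.sum_univ_two]
  simp only [Matrix.cons_val_zero, Matrix.cons_val_one, Algebra.smul_def, mul_one]
  ring

variable {V : Type v} [AddCommGroup V] [Module F V] [Module K' V] [IsScalarTower F K' V]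

/-- the underlying function of the form -/
noncomputable def bq_fun (ω : K') (B : LinearMap.BilinForm F V) (u w : V) : K' :=
  algebraMap F K' (B (ω • u) w) + ω * algebraMap F K' (B u w)

omit [IsScalarTower F K' V] in
theorem bq_fun_add_left (ω : K') (B : LinearMap.BilinForm F V) (u₁ u₂ w : V) :
    bq_fun ω B (u₁ + u₂) w = bq_fun ω B u₁ w + bq_fun ω B u₂ w := by
  unfold bq_fun
  rw [smul_add, map_add, map_add, LinearMap.add_apply, LinearMap.add_apply, map_add, map_add]
  ring

theorem bq_fun_smul_left (ω : K') (μ : F) (hω : ω * ω = algebraMap F K' μ) (hμ : ¬ IsSquare μ)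
    (hrank : Module.finrank F K' = 2) (B : LinearMap.BilinForm F V) (c : K') (u w : V) :
    bq_fun ω B (c • u) w = c * bq_fun ω B u w := by
  obtain ⟨a, b, rfl⟩ := bq_span ω μ hω hμ hrank c
  have e1 : (algebraMap F K' a + ω * algebraMap F K' b) • u = a • u + b • (ω • u) := by
    rw [add_smul, algebraMap_smul, mul_comm, mul_smul, algebraMap_smul]
  have e2 : ω • (algebraMap F K' a + ω * algebraMap F K' b) • u = a • (ω • u) + (b * μ) • u := by
    rw [e1, smul_add, smul_comm ω a u, smul_comm ω b (ω • u), smul_smul ω ω u, hω, algebraMap_smul,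
      smul_smul]
  unfold bq_fun
  rw [e2, e1]
  simp only [map_add, map_smul, LinearMap.add_apply, LinearMap.smul_apply, smul_eq_mul, map_mul]
  linear_combination (algebraMap F K' b * algebraMap F K' (B u w)) * hω.symm

omit [IsScalarTower F K' V] in
theorem bq_fun_symm (ω : K') (B : LinearMap.BilinForm F V) (hs : B.IsSymm)
    (hadj : ∀ u w : V, B (ω • u) w = B u (ω • w)) (u w : V) :
    bq_fun ω B u w = bq_fun ω B w u := by
  unfold bq_fun
  rw [hadj u w, hs.eq u (ω • w), hs.eq u w]

end typeB

section main

variable {F : Type u} [Field F] [Finite F] {K' : Type u} [Field K'] [Finite K'] [Algebra F K']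
  {V : Type v} [AddCommGroup V] [Module F V] [Module K' V] [IsScalarTower F K' V]
  [FiniteDimensional F V]

set_option linter.unusedSectionVars false in
set_option linter.unusedVariables false in
/-- BM-BQ : the `K'`-bilinear form with `B = (ω-coefficient) ∘ B'` -/
theorem exists_BQ (h2 : (2 : F) ≠ 0) (ω : K') (μ : F) (hω : ω * ω = algebraMap F K' μ)
    (hμ : ¬ IsSquare μ) (hrank : Module.finrank F K' = 2)
    (B : LinearMap.BilinForm F V) (hs : B.IsSymm) (hnd : B.Nondegenerate)
    (hadj : ∀ u w : V, B (ω • u) w = B u (ω • w)) :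
    ∃ B' : LinearMap.BilinForm K' V, B'.IsSymm ∧ B'.Nondegenerate ∧
      ∀ u w, B' u w = algebraMap F K' (B (ω • u) w) + ω * algebraMap F K' (B u w) := by
  have hsym := bq_fun_symm ω B hs hadj
  have hadd := bq_fun_add_left (K' := K') ω B
  have hsmul := bq_fun_smul_left ω μ hω hμ hrank B
  let B' : LinearMap.BilinForm K' V :=
    LinearMap.mk₂ K' (bq_fun ω B) hadd (fun c u w => by rw [smul_eq_mul]; exact hsmul c u w)
      (fun u w₁ w₂ => by rw [hsym u (w₁ + w₂), hadd, hsym w₁ u, hsym w₂ u])
      (fun c u w => by rw [smul_eq_mul, hsym u (c • w), hsmul, hsym w u])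
  have hB' : ∀ u w, B' u w = bq_fun ω B u w := fun u w => rfl
  have hleft : ∀ u : V, (∀ w, B' u w = 0) → u = 0 := by
    intro u hu
    apply hnd.1 u
    intro w
    have := hu w
    rw [hB'] at this
    exact (bq_indep ω μ hω hμ _ _ this).2
  refine ⟨B', ⟨fun u w => ?_⟩, ⟨hleft, ?_⟩, fun u w => rfl⟩
  · rw [hB', hB', hsym]
  · intro w hw
    apply hleft w
    intro u
    rw [hB', hsym, ← hB']
    exact hw u

end main

end Cfsg.Agent.Lib.Helper99.BM
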