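import Mathlib
import Cfsg.Agent.Lib.Helper90.PsuDefs
import Cfsg.Agent.Lib.Helper42.PsuTS
import Cfsg.Agent.Lib.Helper99.PsuHEIS

/-!
# Psu hive (helper90, S2412), leaf PSU-SORB `caseS_orbit` (helper9)

Geometry of case S (any `n ≥ 3`): if `H` contains the Heisenberg group `{heis q e r β}` of the
isotropic vector `e` and an isometry `n0` swapping `e` and `f` (a hyperbolic pair in the first
coordinate plane), then every isotropic vector lies in `Tset q H`.
-/
set_option autoImplicit false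
namespace Cfsg.Agent.Lib.Helper90.Psu
open Matrix Cfsg.Agent.Lib.Helper99 Cfsg.Agent.Lib.Helper13
variable {F : Type*} [Field F] [Fintype F] {q n : ℕ}
local notation "hh" => Cfsg.hermForm n F q


/-- the form against a vector supported on the first two coordinates -/
theorem sorb_hh_right (hq : q ≠ 0) (hn3 : 3 ≤ n) (x g : Fin n → F)
    (hg : ∀ k : Fin n, 2 ≤ k.val → g k = 0) :
    hh x g = x ⟨0, by omega⟩ * g ⟨0, by omega⟩ ^ q + x ⟨1, by omega⟩ * g ⟨1, by omega⟩ ^ q := by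
  unfold Cfsg.hermForm
  apply Finset.sum_eq_add
  · intro h
    exact absurd (congrArg Fin.val h) (by simp)
  · intro c _ hc
    have h2 : 2 ≤ c.val := by
      by_contra hlt
      have hc01 : c.val = 0 ∨ c.val = 1 := by omega
      rcases hc01 with h | h
      · exact hc.1 (Fin.ext h)
      · exact hc.2 (Fin.ext h)
    rw [hg c h2, zero_pow hq, mul_zero]
  · intro h
    exact absurd (Finset.mem_univ _) h
  · intro h
    exact absurd (Finset.mem_univ _) h

/-- a vector orthogonal to the hyperbolic pair `e, f` of the first coordinate plane vanishes on the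
first two coordinates -/
theorem sorb_suppGe (hF : Fintype.card F = q ^ 2) (hn3 : 3 ≤ n) (e f : Fin n → F)
    (hff : hh f f = 0) (hef : hh e f = 1)
    (hsupp : ∀ k : Fin n, 2 ≤ k.val → e k = 0 ∧ f k = 0) (r : Fin n → F)
    (hre : hh r e = 0) (hrf : hh r f = 0) : SuppGe 2 r := by
  have hq : q ≠ 0 := by have := q_ge_two hF; omega
  have h1 := sorb_hh_right hq hn3 r e (fun k hk => (hsupp k hk).1)
  have h2 := sorb_hh_right hq hn3 r f (fun k hk => (hsupp k hk).2)
  have h5 := sorb_hh_right hq hn3 f f (fun k hk => (hsupp k hk).2)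
  have h3 := sorb_hh_right hq hn3 f e (fun k hk => (hsupp k hk).1)
  have hfe : hh f e = 1 := by rw [← hermForm_conj hF n e f, hef, one_pow]
  rw [hre] at h1
  rw [hrf] at h2
  rw [hff] at h5
  rw [hfe] at h3
  -- abbreviations
  obtain ⟨a, ha⟩ : ∃ a, a = r ⟨0, by omega⟩ := ⟨_, rfl⟩
  obtain ⟨b, hb⟩ : ∃ b, b = r ⟨1, by omega⟩ := ⟨_, rfl⟩
  obtain ⟨E0, hE0⟩ : ∃ E0, E0 = e ⟨0, by omega⟩ ^ q := ⟨_, rfl⟩
  obtain ⟨E1, hE1⟩ : ∃ E1, E1 = e ⟨1, by omega⟩ ^ q := ⟨_, rfl⟩
  obtain ⟨F0, hF0⟩ : ∃ F0, F0 = f ⟨0, by omega⟩ := ⟨_, rfl⟩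
  obtain ⟨F1, hF1⟩ : ∃ F1, F1 = f ⟨1, by omega⟩ := ⟨_, rfl⟩
  rw [← ha, ← hb, ← hE0, ← hE1] at h1
  rw [← ha, ← hb, ← hF0, ← hF1] at h2
  rw [← hF0, ← hF1] at h5
  rw [← hF0, ← hF1, ← hE0, ← hE1] at h3
  -- the determinant
  have hD : E0 * F1 ^ q - E1 * F0 ^ q ≠ 0 := by
    intro hD
    have hF1q : F1 ^ q = 0 := by
      linear_combination (-(F1 ^ q)) * h3.symm + F0 * hD + E1 * h5.symm
    have hF0q : F0 ^ q = 0 := by
      linear_combination (-(F0 ^ q)) * h3.symm - F1 * hD + E0 * h5.symm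
    have hF10 : F1 = 0 := pow_eq_zero_iff hq |>.1 hF1q
    have hF00 : F0 = 0 := pow_eq_zero_iff hq |>.1 hF0q
    rw [hF10, hF00] at h3
    simp at h3
  have ha0 : a = 0 := by
    have : a * (E0 * F1 ^ q - E1 * F0 ^ q) = 0 := by
      linear_combination (F1 ^ q) * h1.symm - E1 * h2.symm
    exact (mul_eq_zero.1 this).resolve_right hD
  have hb0 : b = 0 := by
    have : b * (E0 * F1 ^ q - E1 * F0 ^ q) = 0 := by
      linear_combination (-(F0 ^ q)) * h1.symm + E0 * h2.symm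
    exact (mul_eq_zero.1 this).resolve_right hD
  intro j hj
  have hj01 : j.val = 0 ∨ j.val = 1 := by omega
  rcases hj01 with h | h
  · have : j = ⟨0, by omega⟩ := Fin.ext h
    rw [this, ← ha, ha0]
  · have : j = ⟨1, by omega⟩ := Fin.ext h
    rw [this, ← hb, hb0]

/-- isotropic vectors not orthogonal to `e` are in `Tset` (images of `f` under the Heisenberg
group, up to scalars) -/
theorem sorb_step1 (hF : Fintype.card F = q ^ 2) (hn3 : 3 ≤ n) {H : Subgroup (GL (Fin n) F)}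
    (e f : Fin n → F) (hee : hh e e = 0) (hff : hh f f = 0) (hef : hh e f = 1)
    (hsupp : ∀ k : Fin n, 2 ≤ k.val → e k = 0 ∧ f k = 0)
    (hQ : ∀ (r : Fin n → F) (β : F), SuppGe 2 r → β + β ^ q + hh r r = 0 → heis q e r β ∈ H)
    (hfT : f ∈ Tset q H) :
    ∀ v : Fin n → F, hh v v = 0 → hh v e ≠ 0 → v ∈ Tset q H := by
  intro v hvv hve
  have hfe : hh f e = 1 := by rw [← hermForm_conj hF n e f, hef, one_pow]
  obtain ⟨u, hu⟩ : ∃ u, u = (hh v e)⁻¹ • v := ⟨_, rfl⟩
  have hue : hh u e = 1 := by rw [hu, hermForm_smul_left, inv_mul_cancel₀ hve]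
  have huu : hh u u = 0 := by
    rw [hu, hermForm_smul_left, hermForm_smul_right, hvv, mul_zero, mul_zero]
  obtain ⟨β, hβ⟩ : ∃ β, β = hh u f := ⟨_, rfl⟩
  obtain ⟨r, hr⟩ : ∃ r, r = u - β • e - f := ⟨_, rfl⟩
  have hre : hh r e = 0 := by
    rw [hr, hermForm_sub_left, hermForm_sub_left, hermForm_smul_left, hue, hee, hfe]
    ring
  have hrf : hh r f = 0 := by
    rw [hr, hermForm_sub_left, hermForm_sub_left, hermForm_smul_left, hef, hff, ← hβ]
    ring
  have hrS : SuppGe 2 r := sorb_suppGe hF hn3 e f hff hef hsupp r hre hrf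
  have hu' : u = f + r + β • e := by
    rw [hr]
    abel
  have her : hh e r = 0 := hermForm_eq_zero_comm hF hre
  have hfr : hh f r = 0 := hermForm_eq_zero_comm hF hrf
  have hβ' : β + β ^ q + hh r r = 0 := by
    have h1 := huu
    rw [hu'] at h1
    simp only [hermForm_add_left, hermForm_add_right hF, hermForm_smul_left, hermForm_smul_right,
      hee, hff, hef, hfe, hre, hrf, her, hfr] at h1
    linear_combination h1
  have hheis : ((heis q e r β : GL (Fin n) F) : Matrix (Fin n) (Fin n) F) *ᵥ f = u := by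
    rw [heis_mulVec hF hee hre hβ', hfe, hfr, hu', one_smul, zero_smul, sub_zero]
    abel
  have huT : u ∈ Tset q H := by
    rw [← hheis]
    exact act_mem_Tset hF (hQ r β hrS hβ') (heis_mem_suGL hF hee hre hβ').1 hfT
  have hvu : v = hh v e • u := by rw [hu, smul_smul, mul_inv_cancel₀ hve, one_smul]
  rw [hvu]
  exact smul_mem_Tset hF huT _

/-- PSU-SORB -/
theorem caseS_orbit (hF : Fintype.card F = q ^ 2) (hn3 : 3 ≤ n) {H : Subgroup (GL (Fin n) F)}
    (e f : Fin n → F) (hee : hh e e = 0) (hff : hh f f = 0) (hef : hh e f = 1)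
    (hsupp : ∀ k : Fin n, 2 ≤ k.val → e k = 0 ∧ f k = 0)
    (hQ : ∀ (r : Fin n → F) (β : F), SuppGe 2 r → β + β ^ q + hh r r = 0 → heis q e r β ∈ H)
    (n0 : GL (Fin n) F) (hn0H : n0 ∈ H) (hn0U : n0 ∈ Cfsg.GU n F q)
    (hn0e : (n0 : Matrix (Fin n) (Fin n) F) *ᵥ e = f)
    (hn0f : (n0 : Matrix (Fin n) (Fin n) F) *ᵥ f = e) :
    ∀ v : Fin n → F, hh v v = 0 → v ∈ Tset q H := by
  have hfe : hh f e = 1 := by rw [← hermForm_conj hF n e f, hef, one_pow]
  have heT : e ∈ Tset q H := by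
    refine ⟨hee, fun c hc => ?_⟩
    rw [← heis_zero hF hee hc]
    apply hQ 0 c (fun j _ => rfl)
    rw [hermForm_zero_left, add_zero]
    exact hc
  have hfT : f ∈ Tset q H := by
    rw [← hn0e]
    exact act_mem_Tset hF hn0H hn0U heT
  have step1 := sorb_step1 hF hn3 e f hee hff hef hsupp hQ hfT
  intro v hvv
  by_cases hve : hh v e ≠ 0
  · exact step1 v hvv hve
  push Not at hve
  by_cases hvf : hh v f ≠ 0
  · have h1 : hh ((n0 : Matrix (Fin n) (Fin n) F) *ᵥ v) ((n0 : Matrix (Fin n) (Fin n) F) *ᵥ v) = 0 := by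
      rw [GU_preserves hn0U, hvv]
    have h2 : hh ((n0 : Matrix (Fin n) (Fin n) F) *ᵥ v) e ≠ 0 := by
      rw [← hn0f, GU_preserves hn0U]
      exact hvf
    have h3 := step1 _ h1 h2
    have h4 := act_mem_Tset hF (H.inv_mem hn0H) ((Cfsg.GU n F q).inv_mem hn0U) h3
    rwa [Matrix.mulVec_mulVec, ← Units.val_mul, inv_mul_cancel, Units.val_one,
      Matrix.one_mulVec] at h4
  push Not at hvf
  by_cases hv0 : v = 0
  · rw [hv0]
    exact zero_mem_Tset H
  have hvS : SuppGe 2 v := sorb_suppGe hF hn3 e f hff hef hsupp v hve hvf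
  obtain ⟨j, hj⟩ : ∃ j, v j ≠ 0 := by
    by_contra h
    push Not at h
    exact hv0 (funext h)
  have hj2 : 2 ≤ j.val := by
    by_contra hlt
    exact hj (hvS j (by omega))
  obtain ⟨β, hβ⟩ := exists_trace_eq' hF (-1 : F) (by rw [frob_neg hF, one_pow])
  obtain ⟨r1, hr1⟩ : ∃ r1 : Fin n → F, r1 = Pi.single j 1 := ⟨_, rfl⟩
  have hr1S : SuppGe 2 r1 := by
    intro k hk
    rw [hr1]
    apply Pi.single_eq_of_ne
    intro h
    rw [h] at hk
    omega
  have hr1r1 : hh r1 r1 = 1 := by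
    rw [hr1, hermForm_single_right hF]
    exact Pi.single_eq_same j 1
  have her1 : hh e r1 = 0 := by
    rw [hr1, hermForm_single_right hF]
    exact (hsupp j hj2).1
  have hr1e : hh r1 e = 0 := hermForm_eq_zero_comm hF her1
  have hfr1 : hh f r1 = 0 := by
    rw [hr1, hermForm_single_right hF]
    exact (hsupp j hj2).2
  have hβ' : β + β ^ q + hh r1 r1 = 0 := by
    rw [hr1r1, hβ]
    ring
  obtain ⟨w, hw⟩ : ∃ w, w = ((heis q e r1 β : GL (Fin n) F) : Matrix (Fin n) (Fin n) F) *ᵥ f :=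
    ⟨_, rfl⟩
  have hwT : w ∈ Tset q H := by
    rw [hw]
    exact act_mem_Tset hF (hQ r1 β hr1S hβ') (heis_mem_suGL hF hee hr1e hβ').1 hfT
  have hw' : w = f + r1 + β • e := by
    rw [hw, heis_mulVec hF hee hr1e hβ', hfe, hfr1, one_smul, zero_smul, sub_zero]
    abel
  have hww : hh w w = 0 := by
    rw [hw, GU_preserves (heis_mem_suGL hF hee hr1e hβ').1, hff]
  have hvw : hh v w = v j := by
    rw [hw', hermForm_add_right hF, hermForm_add_right hF, hermForm_smul_right, hvf, hve, hr1,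
      hermForm_single_right hF]
    ring
  have hwv : hh w v = (v j) ^ q := by rw [← hermForm_conj hF n v w, hvw]
  have hwe : hh w e = 1 := by
    rw [hw', hermForm_add_left, hermForm_add_left, hermForm_smul_left, hfe, hr1e, hee]
    ring
  obtain ⟨c0, hc0, hc0t⟩ := exists_trace_zero hF
  obtain ⟨t, ht⟩ : ∃ t, t = c0 / v j := ⟨_, rfl⟩
  have htv : t * v j = c0 := by
    rw [ht]
    field_simp
  have ht0 : t ≠ 0 := by
    rw [ht]
    exact div_ne_zero hc0 hj
  have hw2e : hh (w + t • v) e = 1 := by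
    rw [hermForm_add_left, hermForm_smul_left, hwe, hve]
    ring
  have htq : t ^ q * v j ^ q = c0 ^ q := by rw [← mul_pow, htv]
  have hw2w2 : hh (w + t • v) (w + t • v) = 0 := by
    simp only [hermForm_add_left, hermForm_add_right hF, hermForm_smul_left, hermForm_smul_right,
      hww, hvv, hvw, hwv]
    linear_combination htq + htv + hc0t
  have hw2T : w + t • v ∈ Tset q H := step1 _ hw2w2 (by rw [hw2e]; exact one_ne_zero)
  have hww2 : hh w (w + t • v) ≠ 0 := by
    rw [hermForm_add_right hF, hermForm_smul_right, hww, hwv, zero_add, htq]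
    exact pow_ne_zero _ hc0
  apply lemmaA hF hwT hw2T hww2 ?_ hvv
  rw [Submodule.mem_span_pair]
  refine ⟨-t⁻¹, t⁻¹, ?_⟩
  rw [smul_add, smul_smul, inv_mul_cancel₀ ht0, one_smul, neg_smul]
  abel

end Cfsg.Agent.Lib.Helper90.Psu
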