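import Mathlib
import Cfsg.Agent.Lib.Helper21.S11Defs

/-! # S11 mini-hive (owner helper21, S3911), leaf S11-PCOMM. -/

set_option autoImplicit false

namespace Cfsg.Agent.Lib.Helper21.S11

variable {G : Type*} [Group G] [Finite G]

/-- S11-PCOMM. If the Sylow `p`-subgroups are cyclic, every `p`-subgroup is commutative (conjugate it into one). -/
theorem comm_of_sylow_cyclic (p : ℕ) [Fact p.Prime] (hcyc : ∀ P : Sylow p G, IsCyclic ↥(P : Subgroup G))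
    (Q : Subgroup G) (hQ : IsPGroup p ↥Q) : ∀ a ∈ Q, ∀ b ∈ Q, a * b = b * a := by
  obtain ⟨P, hP⟩ := hQ.exists_le_sylow
  have hc := hcyc P
  intro a ha b hb
  obtain ⟨g, hg⟩ := hc.exists_generator
  obtain ⟨m, hm⟩ := Subgroup.mem_zpowers_iff.mp (hg (⟨a, hP ha⟩ : ↥(P : Subgroup G)))
  obtain ⟨n, hn⟩ := Subgroup.mem_zpowers_iff.mp (hg (⟨b, hP hb⟩ : ↥(P : Subgroup G)))
  have h : (⟨a, hP ha⟩ : ↥(P : Subgroup G)) * ⟨b, hP hb⟩ = ⟨b, hP hb⟩ * ⟨a, hP ha⟩ := by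
    rw [← hm, ← hn, ← zpow_add, ← zpow_add, add_comm]
  exact congrArg Subtype.val h

end Cfsg.Agent.Lib.Helper21.S11
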