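import Cfsg.Agent.Lib.Helper22.CgDefs

/-! # Cg hive (owner helper22, S4257), leaf CG8d `cg8d` (written by helper9). -/

set_option autoImplicit false

namespace Cfsg.Agent.Lib.Helper22.Cg

open Subgroup

universe u

/-- CG8d. if `q` divides some class size then a Sylow `q`-subgroup is not central. -/
theorem cg8d {G : Type u} [Group G] [Finite G] (q : ℕ) [Fact q.Prime] (Q : Sylow q G)
    (h : ∃ g : G, q ∣ cs g) : ∃ y ∈ Q, 1 < cs y := by
  by_contra hcon
  push Not at hcon
  obtain ⟨g, hg⟩ := h
  have hq : q.Prime := Fact.out
  -- every element of `Q` is central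
  have hcent : ∀ y ∈ Q, ∀ x : G, y * x = x * y := by
    intro y hy x
    have h1 : cs y ≤ 1 := hcon y hy
    have h0 : cs y ≠ 0 := Subgroup.index_ne_zero_of_finite
    have h2 : (centralizer ({y} : Set G)).index = 1 := by
      have : cs y = 1 := by omega
      exact this
    have h3 : centralizer ({y} : Set G) = ⊤ := Subgroup.index_eq_one.mp h2
    have h4 : x ∈ centralizer ({y} : Set G) := by rw [h3]; exact Subgroup.mem_top x
    exact (Subgroup.mem_centralizer_iff.mp h4) y rfl
  have hle : (Q : Subgroup G) ≤ centralizer ({g} : Set G) := by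
    intro y hy
    rw [Subgroup.mem_centralizer_iff]
    intro x hx
    rw [Set.mem_singleton_iff] at hx
    rw [hx]
    exact (hcent y hy g).symm
  have hdvd : Nat.card (Q : Subgroup G) ∣ Nat.card (centralizer ({g} : Set G)) :=
    Subgroup.card_dvd_of_le hle
  rw [Sylow.card_eq_multiplicity] at hdvd
  have hmul : Nat.card (centralizer ({g} : Set G)) * (centralizer ({g} : Set G)).index =
      Nat.card G := Subgroup.card_mul_index _
  have hbad : q ^ ((Nat.card G).factorization q + 1) ∣ Nat.card G := by
    rw [pow_succ]
    calc q ^ (Nat.card G).factorization q * q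
        ∣ Nat.card (centralizer ({g} : Set G)) * (centralizer ({g} : Set G)).index :=
          Nat.mul_dvd_mul hdvd hg
      _ = Nat.card G := hmul
  exact Nat.pow_succ_factorization_not_dvd Nat.card_pos.ne' hq hbad

end Cfsg.Agent.Lib.Helper22.Cg
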