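import Mathlib
import Cfsg.Prelude.Def_ClassicalGeometry
import Cfsg.Agent.Lib.Helper4.NdDefs

/-!
# S5956 hive (Nd), leaf ND-B1 : `good_of_invol_char2`.

An involutory isometry `g` of a nondegenerate alternating space in characteristic 2:
`N = g - 1` satisfies `N² = 0` and `B (N v) w = B v (N w)`.  Every nonzero `N`-invariant
nondegenerate `X` contains an `N`-invariant nondegenerate `P` of dimension 2 or 4; strong induction
on `finrank X`.
-/

set_option autoImplicit false
open Matrix
open Cfsg.Agent.Lib.Helper99 (Nd dker sympB)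

namespace Cfsg.Agent.Lib.Helper4.NdH

universe u v

variable {F : Type u} [Field F] {V : Type v} [AddCommGroup V] [Module F V]

theorem b1_skew (B : V →ₗ[F] V →ₗ[F] F) (hB : Alt B) (x y : V) : B x y = - B y x := by
  have h := hB (x + y)
  simp only [map_add, LinearMap.add_apply, hB x, hB y, zero_add, add_zero] at h
  exact eq_neg_of_add_eq_zero_right h

theorem b1_refl (B : V →ₗ[F] V →ₗ[F] F) (hB : Alt B) (x y : V) (h : B x y = 0) : B y x = 0 := by
  rw [b1_skew B hB, h, neg_zero]

theorem b1_orth_eq (B : V →ₗ[F] V →ₗ[F] F) (W : Submodule F V) :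
    orth B W = LinearMap.BilinForm.orthogonal B W := by
  ext v
  exact Iff.rfl

theorem b1_isCompl [FiniteDimensional F V] (B : V →ₗ[F] V →ₗ[F] F) (hB : Alt B)
    (P : Submodule F V) (hP : Nd B P) : IsCompl P (orth B P) := by
  rw [b1_orth_eq]
  have hrefl : LinearMap.BilinForm.IsRefl B := fun x y h => b1_refl B hB x y h
  rw [LinearMap.BilinForm.isCompl_orthogonal_iff_disjoint hrefl, Submodule.disjoint_def]
  intro x hx hx'
  apply hP x hx
  intro p hp
  exact b1_refl B hB p x (hx' p hp)

theorem b1_sup_inf_orth [FiniteDimensional F V] (B : V →ₗ[F] V →ₗ[F] F) (hB : Alt B)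
    (P X : Submodule F V) (hPX : P ≤ X) (hP : Nd B P) : P ⊔ (X ⊓ orth B P) = X := by
  have h := (b1_isCompl B hB P hP).sup_eq_top
  have h' := sup_inf_assoc_of_le (orth B P) hPX
  rw [h, top_inf_eq] at h'
  rw [inf_comm]
  exact h'.symm

theorem b1_nd_inf_orth [FiniteDimensional F V] (B : V →ₗ[F] V →ₗ[F] F) (hB : Alt B)
    (P X : Submodule F V) (hPX : P ≤ X) (hP : Nd B P) (hX : Nd B X) :
    Nd B (X ⊓ orth B P) := by
  intro u hu h
  apply hX u hu.1
  intro x hx
  have hx' : x ∈ P ⊔ (X ⊓ orth B P) := by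
    rw [b1_sup_inf_orth B hB P X hPX hP]; exact hx
  obtain ⟨p, hp, y, hy, rfl⟩ := Submodule.mem_sup.1 hx'
  rw [map_add, h y hy, add_zero]
  exact b1_refl B hB p u (hu.2 p hp)

theorem b1_nd_sup (B : V →ₗ[F] V →ₗ[F] F) (hB : Alt B) (X Y : Submodule F V) (hX : Nd B X)
    (hY : Nd B Y) (hperp : Perp B X Y) : Nd B (X ⊔ Y) ∧ Disjoint X Y := by
  constructor
  · intro u hu h
    obtain ⟨x, hx, y, hy, rfl⟩ := Submodule.mem_sup.1 hu
    have hx0 : x = 0 := by
      apply hX x hx
      intro x' hx'
      have h1 := h x' (Submodule.mem_sup_left hx')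
      rw [map_add, LinearMap.add_apply, b1_refl B hB x' y (hperp x' hx' y hy), add_zero] at h1
      exact h1
    have hy0 : y = 0 := by
      apply hY y hy
      intro y' hy'
      have h1 := h y' (Submodule.mem_sup_right hy')
      rw [map_add, LinearMap.add_apply, hperp x hx y' hy', zero_add] at h1
      exact h1
    rw [hx0, hy0, add_zero]
  · rw [Submodule.disjoint_def]
    intro u hu hu'
    apply hX u hu
    intro x' hx'
    exact b1_refl B hB x' u (hperp x' hx' u hu')

theorem b1_finrank_sup [FiniteDimensional F V] (X Y : Submodule F V) (h : Disjoint X Y) :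
    Module.finrank F ↥(X ⊔ Y) = Module.finrank F X + Module.finrank F Y := by
  have h1 := Submodule.finrank_sup_add_finrank_inf_eq X Y
  rw [disjoint_iff.1 h, finrank_bot, add_zero] at h1
  exact h1

theorem b1_plane (B : V →ₗ[F] V →ₗ[F] F) (hB : Alt B) (v w : V) (h : B v w ≠ 0) :
    Nd B (Submodule.span F {v, w}) ∧ Module.finrank F (Submodule.span F {v, w}) = 2 := by
  have hwv : B w v ≠ 0 := fun h' => h (b1_refl B hB w v h')
  have key : ∀ a b : F, B (a • v + b • w) v = 0 → B (a • v + b • w) w = 0 → a = 0 ∧ b = 0 := by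
    intro a b h1 h2
    simp only [map_add, map_smul, LinearMap.add_apply, LinearMap.smul_apply, hB v, hB w,
      smul_eq_mul, mul_zero, zero_add, add_zero] at h1 h2
    exact ⟨(mul_eq_zero.1 h2).resolve_right h, (mul_eq_zero.1 h1).resolve_right hwv⟩
  constructor
  · intro u hu hu'
    obtain ⟨a, b, rfl⟩ := Submodule.mem_span_pair.1 hu
    have hv : v ∈ Submodule.span F {v, w} := Submodule.subset_span (by simp)
    have hw : w ∈ Submodule.span F {v, w} := Submodule.subset_span (by simp)
    obtain ⟨ha, hb⟩ := key a b (hu' v hv) (hu' w hw)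
    rw [ha, hb, zero_smul, zero_smul, add_zero]
  · have hli : LinearIndependent F ![v, w] := by
      rw [LinearIndependent.pair_iff]
      intro a b hab
      apply key a b
      · rw [hab, map_zero, LinearMap.zero_apply]
      · rw [hab, map_zero, LinearMap.zero_apply]
    have h1 : Module.finrank F ↥(Submodule.span F (Set.range ![v, w])) = 2 := by
      rw [finrank_span_eq_card hli]; simp
    have hr : Set.range ![v, w] = {v, w} := by
      simp [Matrix.range_cons]
      exact Set.pair_comm w v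
    rw [hr] at h1
    exact h1

theorem b1_map_span_mem (N : V →ₗ[F] V) (S : Set V) (T : Submodule F V)
    (h : ∀ s ∈ S, N s ∈ T) : ∀ x ∈ Submodule.span F S, N x ∈ T := by
  intro x hx
  have h1 : (Submodule.span F S).map N ≤ T := by
    rw [Submodule.map_span_le]; exact h
  exact h1 (Submodule.mem_map_of_mem hx)

theorem b1_perp_span_pair (B : V →ₗ[F] V →ₗ[F] F) (a b c d : V) (h1 : B a c = 0) (h2 : B a d = 0)
    (h3 : B b c = 0) (h4 : B b d = 0) :
    Perp B (Submodule.span F {a, b}) (Submodule.span F {c, d}) := by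
  intro x hx y hy
  obtain ⟨s, t, rfl⟩ := Submodule.mem_span_pair.1 hx
  obtain ⟨s', t', rfl⟩ := Submodule.mem_span_pair.1 hy
  simp only [map_add, map_smul, LinearMap.add_apply, LinearMap.smul_apply, h1, h2, h3, h4,
    smul_eq_mul, mul_zero, add_zero]

/-- The basic piece: an `N`-invariant nondegenerate subspace of dimension 2 or 4. -/
theorem b1_exists_piece [FiniteDimensional F V] (B : V →ₗ[F] V →ₗ[F] F) (hB : Alt B)
    (N : V →ₗ[F] V)
    (hN2 : ∀ v, N (N v) = 0) (hadj : ∀ v w, B (N v) w = B v (N w))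
    (X : Submodule F V) (hX : Nd B X) (hXN : ∀ x ∈ X, N x ∈ X) (hne : X ≠ ⊥) :
    ∃ P : Submodule F V, P ≤ X ∧ (∀ p ∈ P, N p ∈ P) ∧ Nd B P ∧
      (Module.finrank F P = 2 ∨ Module.finrank F P = 4) := by
  by_cases hA : ∃ v ∈ X, B (N v) v ≠ 0
  · obtain ⟨v, hv, hvne⟩ := hA
    have h1 : B v (N v) ≠ 0 := fun h' => hvne (b1_refl B hB v (N v) h')
    obtain ⟨hnd, hdim⟩ := b1_plane B hB v (N v) h1
    refine ⟨Submodule.span F {v, N v}, ?_, ?_, hnd, Or.inl hdim⟩
    · rw [Submodule.span_le]
      intro x hx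
      rcases hx with rfl | rfl
      · exact hv
      · exact hXN _ hv
    · apply b1_map_span_mem
      intro s hs
      rcases hs with rfl | rfl
      · exact Submodule.subset_span (by simp)
      · rw [hN2]; exact Submodule.zero_mem _
  · push Not at hA
    by_cases hC : ∃ v ∈ X, N v ≠ 0
    · obtain ⟨v, hv, hNv⟩ := hC
      have hex : ∃ w ∈ X, B (N v) w ≠ 0 := by
        by_contra hcon
        push Not at hcon
        exact hNv (hX (N v) (hXN v hv) hcon)
      obtain ⟨w, hw, hc⟩ := hex
      set c : F := B (N v) w with hcdef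
      have e1 : B v (N w) = c := (hadj v w).symm
      have e2 : B (N v) (N w) = 0 := by rw [hadj, hN2, map_zero]
      have e3 : B (N w) (N v) = 0 := by rw [hadj, hN2, map_zero]
      have e4 : B (N w) w = 0 := hA w hw
      have e5 : B (N v) v = 0 := hA v hv
      have e6 : B v (N v) = 0 := b1_refl B hB _ _ e5
      have e7 : B w (N v) = - c := by rw [b1_skew B hB]
      have e8 : B (N w) (N w) = 0 := hB _
      set β : F := - (B v w) / c with hβ
      set w' : V := w + β • N w with hw'
      have f1 : B v w' = 0 := by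
        rw [hw', map_add, map_smul, e1, hβ, smul_eq_mul, div_mul_cancel₀ _ hc, add_neg_cancel]
      have f2 : B (N w) w' = 0 := by
        rw [hw', map_add, map_smul, e4, e8, smul_zero, add_zero]
      have f3 : B w' (N v) = - c := by
        rw [hw', map_add, map_smul, LinearMap.add_apply, LinearMap.smul_apply, e7, e3, smul_zero,
          add_zero]
      have hc' : -c ≠ 0 := neg_ne_zero.2 hc
      have g1 : B v (N w) ≠ 0 := by rw [e1]; exact hc
      have g2 : B w' (N v) ≠ 0 := by rw [f3]; exact hc'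
      obtain ⟨hnd1, hdim1⟩ := b1_plane B hB v (N w) g1
      obtain ⟨hnd2, hdim2⟩ := b1_plane B hB w' (N v) g2
      have hperp : Perp B (Submodule.span F {v, N w}) (Submodule.span F {w', N v}) :=
        b1_perp_span_pair B v (N w) w' (N v) f1 e6 f2 e3
      obtain ⟨hnd, hdisj⟩ := b1_nd_sup B hB _ _ hnd1 hnd2 hperp
      have hNw' : N w' = N w := by
        rw [hw', map_add, map_smul, hN2, smul_zero, add_zero]
      refine ⟨Submodule.span F {v, N w} ⊔ Submodule.span F {w', N v}, ?_, ?_, hnd, Or.inr ?_⟩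
      · apply sup_le
        · rw [Submodule.span_le]
          intro x hx
          rcases hx with rfl | rfl
          · exact hv
          · exact hXN _ hw
        · rw [Submodule.span_le]
          intro x hx
          rcases hx with rfl | rfl
          · exact X.add_mem hw (X.smul_mem _ (hXN _ hw))
          · exact hXN _ hv
      · intro p hp
        obtain ⟨x, hx, y, hy, rfl⟩ := Submodule.mem_sup.1 hp
        rw [map_add]
        apply Submodule.add_mem
        · refine b1_map_span_mem N _ _ ?_ x hx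
          intro s hs
          rcases hs with rfl | rfl
          · exact Submodule.mem_sup_right (Submodule.subset_span (by simp))
          · rw [hN2]; exact Submodule.zero_mem _
        · refine b1_map_span_mem N _ _ ?_ y hy
          intro s hs
          rcases hs with rfl | rfl
          · rw [hNw']; exact Submodule.mem_sup_left (Submodule.subset_span (by simp))
          · rw [hN2]; exact Submodule.zero_mem _
      · rw [b1_finrank_sup _ _ hdisj, hdim1, hdim2]
    · push Not at hC
      obtain ⟨v, hv, hv0⟩ := Submodule.exists_mem_ne_zero_of_ne_bot hne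
      have hex : ∃ w ∈ X, B v w ≠ 0 := by
        by_contra hcon
        push Not at hcon
        exact hv0 (hX v hv hcon)
      obtain ⟨w, hw, hc⟩ := hex
      obtain ⟨hnd, hdim⟩ := b1_plane B hB v w hc
      refine ⟨Submodule.span F {v, w}, ?_, ?_, hnd, Or.inl hdim⟩
      · rw [Submodule.span_le]
        intro x hx
        rcases hx with rfl | rfl
        · exact hv
        · exact hw
      · apply b1_map_span_mem
        intro s hs
        rcases hs with rfl | rfl
        · rw [hC _ hv]; exact Submodule.zero_mem _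
        · rw [hC _ hw]; exact Submodule.zero_mem _

theorem b1_nd_bot (B : V →ₗ[F] V →ₗ[F] F) : Nd B (⊥ : Submodule F V) := by
  intro u hu _
  exact (Submodule.mem_bot F).1 hu

/-- Adjoin the piece `P` to a subspace `W'` of `X ⊓ orth B P`. -/
theorem b1_adjoin [FiniteDimensional F V] (B : V →ₗ[F] V →ₗ[F] F) (hB : Alt B) (N : V →ₗ[F] V)
    (X P W' : Submodule F V) (hPX : P ≤ X) (hPN : ∀ p ∈ P, N p ∈ P) (hPnd : Nd B P)
    (hW'X : W' ≤ X ⊓ orth B P) (hW'nd : Nd B W') (hW'N : ∀ w ∈ W', N w ∈ W') :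
    W' ⊔ P ≤ X ∧ Module.finrank F ↥(W' ⊔ P) = Module.finrank F W' + Module.finrank F P ∧
      Nd B (W' ⊔ P) ∧ ∀ w ∈ W' ⊔ P, N w ∈ W' ⊔ P := by
  have hperp : Perp B W' P := by
    intro a ha p hp
    exact b1_refl B hB p a ((hW'X ha).2 p hp)
  obtain ⟨hnd, hdisj⟩ := b1_nd_sup B hB W' P hW'nd hPnd hperp
  refine ⟨sup_le (hW'X.trans inf_le_left) hPX, b1_finrank_sup _ _ hdisj, hnd, ?_⟩
  intro w hw
  obtain ⟨a, ha, p, hp, rfl⟩ := Submodule.mem_sup.1 hw
  rw [map_add]
  exact Submodule.add_mem _ (Submodule.mem_sup_left (hW'N a ha))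
    (Submodule.mem_sup_right (hPN p hp))

theorem b1_main [FiniteDimensional F V] (B : V →ₗ[F] V →ₗ[F] F) (hB : Alt B) (N : V →ₗ[F] V)
    (hN2 : ∀ v, N (N v) = 0) (hadj : ∀ v w, B (N v) w = B v (N w)) :
    ∀ n : ℕ, ∀ X : Submodule F V, Module.finrank F X = n → Nd B X → (∀ x ∈ X, N x ∈ X) →
      n % 2 = 0 ∧ ∀ m, m % 2 = 0 → m ≤ n → (n % 4 = 2 ∨ m % 4 = 0) →
        ∃ W : Submodule F V, W ≤ X ∧ Module.finrank F W = m ∧ Nd B W ∧ ∀ w ∈ W, N w ∈ W := by
  intro n
  induction n using Nat.strong_induction_on with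
  | _ n ih =>
    intro X hn hX hXN
    have hbotcase : ∃ W : Submodule F V, W ≤ X ∧ Module.finrank F W = 0 ∧ Nd B W ∧
        ∀ w ∈ W, N w ∈ W := by
      refine ⟨⊥, bot_le, finrank_bot F V, b1_nd_bot B, ?_⟩
      intro w hw
      rw [(Submodule.mem_bot F).1 hw, map_zero]
      exact Submodule.zero_mem _
    by_cases hbot : X = ⊥
    · have hn0 : n = 0 := by rw [← hn, hbot, finrank_bot]
      subst hn0
      refine ⟨rfl, ?_⟩
      intro m _ hm0 _
      have : m = 0 := by omega
      subst this
      exact hbotcase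
    · obtain ⟨P, hPX, hPN, hPnd, hPdim⟩ := b1_exists_piece B hB N hN2 hadj X hX hXN hbot
      have hX'nd : Nd B (X ⊓ orth B P) := b1_nd_inf_orth B hB P X hPX hPnd hX
      have hX'N : ∀ x ∈ X ⊓ orth B P, N x ∈ X ⊓ orth B P := by
        intro x hx
        refine ⟨hXN x hx.1, ?_⟩
        intro p hp
        rw [← hadj]
        exact hx.2 (N p) (hPN p hp)
      have hsup : P ⊔ (X ⊓ orth B P) = X := b1_sup_inf_orth B hB P X hPX hPnd
      have hperp : Perp B P (X ⊓ orth B P) := fun p hp y hy => hy.2 p hp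
      have hdisj : Disjoint P (X ⊓ orth B P) := (b1_nd_sup B hB _ _ hPnd hX'nd hperp).2
      have hdim : Module.finrank F P + Module.finrank F ↥(X ⊓ orth B P) = n := by
        rw [← b1_finrank_sup _ _ hdisj, hsup, hn]
      have hlt : Module.finrank F ↥(X ⊓ orth B P) < n := by
        rcases hPdim with h | h <;> omega
      obtain ⟨hev', ih'⟩ := ih _ hlt (X ⊓ orth B P) rfl hX'nd hX'N
      have hev : n % 2 = 0 := by
        rcases hPdim with h | h <;> omega
      refine ⟨hev, ?_⟩
      intro m hme hmn h4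
      by_cases hm0 : m = 0
      · subst hm0
        exact hbotcase
      -- the two ways of producing `W`
      have viaSub : m ≤ Module.finrank F ↥(X ⊓ orth B P) →
          (Module.finrank F ↥(X ⊓ orth B P) % 4 = 2 ∨ m % 4 = 0) →
          ∃ W : Submodule F V, W ≤ X ∧ Module.finrank F W = m ∧ Nd B W ∧ ∀ w ∈ W, N w ∈ W := by
        intro h1 h2
        obtain ⟨W, hWX, hWdim, hWnd, hWN⟩ := ih' m hme h1 h2
        exact ⟨W, hWX.trans inf_le_left, hWdim, hWnd, hWN⟩
      have viaAdj : ∀ k, k % 2 = 0 → k ≤ Module.finrank F ↥(X ⊓ orth B P) →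
          (Module.finrank F ↥(X ⊓ orth B P) % 4 = 2 ∨ k % 4 = 0) →
          k + Module.finrank F P = m →
          ∃ W : Submodule F V, W ≤ X ∧ Module.finrank F W = m ∧ Nd B W ∧ ∀ w ∈ W, N w ∈ W := by
        intro k hk h1 h2 hkm
        obtain ⟨W', hW'X, hW'dim, hW'nd, hW'N⟩ := ih' k hk h1 h2
        obtain ⟨a1, a2, a3, a4⟩ := b1_adjoin B hB N X P W' hPX hPN hPnd hW'X hW'nd hW'N
        exact ⟨W' ⊔ P, a1, by rw [a2, hW'dim, hkm], a3, a4⟩
      rcases hPdim with hP2 | hP4
      · by_cases hcase : n % 4 = 2 ∧ m % 4 = 0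
        · exact viaSub (by omega) (Or.inr hcase.2)
        · exact viaAdj (m - 2) (by omega) (by omega) (by omega) (by omega)
      · by_cases hm4 : m % 4 = 0
        · exact viaAdj (m - 4) (by omega) (by omega) (Or.inr (by omega)) (by omega)
        · by_cases hle : m + 4 ≤ n
          · exact viaSub (by omega) (Or.inl (by omega))
          · have hmn' : m = n := by omega
            exact ⟨X, le_rfl, by rw [hn, hmn'], hX, hXN⟩

/-- ND-B1 : `N = g - 1`, `N² = 0`, `B (N v) w = B v (N w)`.  Every nonzero invariant nondegenerate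
`X` contains an invariant nondegenerate `P` of dimension 2 or 4; strong induction on `finrank X`. -/
theorem good_of_invol_char2 [FiniteDimensional F V] (h2 : (2 : F) = 0) (B : V →ₗ[F] V →ₗ[F] F)
    (hB : Alt B) (hV : Nd B ⊤) (g : V →ₗ[F] V) (hg : Isom B g) (hgg : ∀ v, g (g v) = v)
    (m : ℕ) (hme : Even m) (hm : m ≤ Module.finrank F V)
    (h4 : Module.finrank F V % 4 = 2 ∨ m % 4 = 0) : Good B g m := by
  have hgN : ∀ v, g v = v + (g - 1 : V →ₗ[F] V) v := by
    intro v
    rw [LinearMap.sub_apply, Module.End.one_apply, add_sub_cancel]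
  have hN2 : ∀ v, (g - 1 : V →ₗ[F] V) ((g - 1 : V →ₗ[F] V) v) = 0 := by
    intro v
    have h : (g - 1 : V →ₗ[F] V) ((g - 1 : V →ₗ[F] V) v) = (2 : F) • (v - g v) := by
      simp only [LinearMap.sub_apply, Module.End.one_apply, map_sub, hgg]
      rw [two_smul]
      abel
    rw [h, h2, zero_smul]
  have hadj : ∀ v w, B ((g - 1 : V →ₗ[F] V) v) w = B v ((g - 1 : V →ₗ[F] V) w) := by
    intro v w
    simp only [LinearMap.sub_apply, Module.End.one_apply, map_sub]
    have : B (g v) w = B v (g w) := by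
      conv_lhs => rw [← hgg w]
      rw [hg]
    rw [this]
  obtain ⟨_, h⟩ := b1_main B hB (g - 1 : V →ₗ[F] V) hN2 hadj (Module.finrank F V) ⊤ (finrank_top F V)
    hV (fun _ _ => Submodule.mem_top)
  obtain ⟨W, _, hWdim, hWnd, hWN⟩ := h m (Nat.even_iff.1 hme) hm h4
  refine ⟨W, hWdim, hWnd, ?_⟩
  intro w hw
  rw [hgN]
  exact W.add_mem hw (hWN w hw)

end Cfsg.Agent.Lib.Helper4.NdH
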