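import Cfsg.Agent.Lib.Helper22.Fitting
import Cfsg.Agent.Lib.Helper30.PPrimeCore
import Cfsg.Agent.Lib.Helper22.OcDefs

/-! # Oc hive (owner helper22, S2924), leaf OC3e: `O_q(H/O(H)) = 1` for odd primes `q`. -/

set_option autoImplicit false
open Cfsg Subgroup

namespace Cfsg.Agent.Lib.Helper22.Oc

universe u

/-- OC3e. `O_q(H/O(H)) = 1` for odd primes `q`. -/
theorem oc3e {H : Type u} [Group H] [Finite H] (q : ℕ) (hq : q.Prime) (hq2 : q ≠ 2) :
    pCore q (H ⧸ oddCore H) = ⊥ := by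
  have : Fact q.Prime := ⟨hq⟩
  have hn : (pCore q (H ⧸ oddCore H)).Normal :=
    Cfsg.Agent.Lib.Helper22.pCore_normal' q (H ⧸ oddCore H)
  have hp : IsPGroup q (pCore q (H ⧸ oddCore H)) :=
    Cfsg.Agent.Lib.Helper22.pCore_isPGroup' q (H ⧸ oddCore H)
  obtain ⟨k, hk⟩ := IsPGroup.iff_card.mp hp
  have hcop : (Nat.card (pCore q (H ⧸ oddCore H))).Coprime 2 := by
    rw [hk]
    apply Nat.Coprime.pow_left
    rw [Nat.coprime_primes hq Nat.prime_two]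
    exact hq2
  have hle : pCore q (H ⧸ oddCore H) ≤ pPrimeCore 2 (H ⧸ oddCore H) :=
    Cfsg.Agent.Lib.Helper30.le_pPrimeCore 2 _ hcop
  have hbot : pPrimeCore 2 (H ⧸ pPrimeCore 2 H) = ⊥ :=
    Cfsg.Agent.Lib.Helper30.pPrimeCore_quotient_eq_bot 2
  rw [eq_bot_iff]
  exact hle.trans (le_of_eq hbot)

end Cfsg.Agent.Lib.Helper22.Oc
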