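import Mathlib

/-! # Bo hive (helper37, S1083) leaf BO-BRIDGE (helper9): the generic bridge lemma (pure group theory). -/

set_option autoImplicit false

namespace Cfsg.Agent.Lib.Helper37.B2O5

/-- BO-BRIDGE (pure group theory). -/
theorem bridge {S G₁ W : Type*} [Group S] [Group G₁] [Group W] (θ : S →* G₁)
    (hθ : Function.Surjective θ) (hker : θ.ker = Subgroup.center S) (hG : IsSimpleGroup G₁)
    (ψ : S →* W) (hψ : Function.Surjective ψ) (hW : ∃ a b : W, a * b ≠ b * a) :
    Nonempty (G₁ ≃* W ⧸ Subgroup.center W) := by
  classical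
  set π : S →* W ⧸ Subgroup.center W := (QuotientGroup.mk' (Subgroup.center W)).comp ψ with hπ
  have hπs : Function.Surjective π := (QuotientGroup.mk'_surjective _).comp hψ
  have hcen : Subgroup.center S ≤ π.ker := by
    intro z hz
    rw [MonoidHom.mem_ker]
    show ((ψ z : W) : W ⧸ Subgroup.center W) = 1
    rw [QuotientGroup.eq_one_iff, Subgroup.mem_center_iff]
    intro w
    obtain ⟨s, rfl⟩ := hψ w
    rw [← map_mul, ← map_mul, (Subgroup.mem_center_iff.mp hz s)]
  have hle : π.ker ≤ Subgroup.center S := by
    have hn : (π.ker.map θ).Normal := Subgroup.Normal.map inferInstance θ hθ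
    rcases hn.eq_bot_or_eq_top with h | h
    · rw [← hker]
      intro k hk
      rw [MonoidHom.mem_ker]
      have : θ k ∈ π.ker.map θ := Subgroup.mem_map_of_mem θ hk
      rw [h] at this
      exact Subgroup.mem_bot.mp this
    · exfalso
      have htop : π.ker = ⊤ := by
        rw [eq_top_iff]
        intro s _
        have : θ s ∈ π.ker.map θ := by rw [h]; trivial
        obtain ⟨k, hk, hks⟩ := this
        have h1 : s * k⁻¹ ∈ θ.ker := by
          rw [MonoidHom.mem_ker, map_mul, map_inv, hks, mul_inv_cancel]
        rw [hker] at h1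
        have h2 := hcen h1
        have := mul_mem h2 hk
        simpa using this
      obtain ⟨a, b, hab⟩ := hW
      apply hab
      have hall : ∀ w : W, w ∈ Subgroup.center W := by
        intro w
        obtain ⟨s, rfl⟩ := hψ w
        have : s ∈ π.ker := by rw [htop]; trivial
        rw [MonoidHom.mem_ker] at this
        exact (QuotientGroup.eq_one_iff _).mp this
      exact Subgroup.mem_center_iff.mp (hall b) a
  have hkk : π.ker = θ.ker := by rw [hker]; exact le_antisymm hle hcen
  exact ⟨(QuotientGroup.quotientKerEquivOfSurjective θ hθ).symm.trans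
    ((QuotientGroup.quotientMulEquivOfEq hkk.symm).trans
      (QuotientGroup.quotientKerEquivOfSurjective π hπs))⟩

end Cfsg.Agent.Lib.Helper37.B2O5
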