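import Cfsg.Agent.Lib.Helper37.GtDefs

/-! # Gt hive (S2734, helper37): leaf GT-HDIAG-b `act_HY_b` (helper9) — the images of `h_s(t)`, `s = 4, 5, 6, 7`, are diagonal. -/

set_option autoImplicit false
set_option linter.unusedSectionVars false
set_option linter.unusedVariables false
set_option linter.unusedTactic false
set_option linter.unreachableTactic false
set_option linter.unnecessarySeqFocus false
set_option linter.unusedSimpArgs false

namespace Cfsg.Agent.Lib.Helper37.Gt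

open Matrix Module QuadraticMap
open Cfsg.Agent.Lib.Helper8 Cfsg.Agent.Lib.Helper13 Cfsg.Agent.Lib.Helper37 Cfsg.Agent.Lib.Helper37.D4O8

variable {F : Type*} [Field F]


theorem hdiagb_neg4 : Cfsg.Lie.chevG2.neg 4 = 7 := by decide

theorem hdiagb_4 (t : F) (ht : t ≠ 0) (x : I8 → F) :
    act (Q8 F) (wprodY (Cfsg.Lie.chevG2.hWord 4 t)) x =
      mk8 (hb1 4 t * ca1 x) (hb2 4 t * ca2 x) (hb3 4 t * ca3 x) (ca4 x)
        ((hb1 4 t)⁻¹ * cb1 x) ((hb2 4 t)⁻¹ * cb2 x) ((hb3 4 t)⁻¹ * cb3 x) (cb4 x) := by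
  unfold wprodY Cfsg.Lie.ChevalleyDatum.hWord Cfsg.Lie.ChevalleyDatum.nWord
  rw [hdiagb_neg4]
  simp only [List.map_cons, List.map_nil, List.prod_cons, List.prod_nil, mul_one, List.cons_append, List.nil_append]
  simp only [Yn_4, Yn_7]
  simp only [act_mul]
  simp only [act_X5, act_X10, act_X11, act_X12, act_X13, act_X18]
  apply ext8 <;> simp [hb1, hb2, hb3] <;> field_simp <;> ring

theorem hdiagb_neg5 : Cfsg.Lie.chevG2.neg 5 = 6 := by decide

theorem hdiagb_5 (t : F) (ht : t ≠ 0) (x : I8 → F) :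
    act (Q8 F) (wprodY (Cfsg.Lie.chevG2.hWord 5 t)) x =
      mk8 (hb1 5 t * ca1 x) (hb2 5 t * ca2 x) (hb3 5 t * ca3 x) (ca4 x)
        ((hb1 5 t)⁻¹ * cb1 x) ((hb2 5 t)⁻¹ * cb2 x) ((hb3 5 t)⁻¹ * cb3 x) (cb4 x) := by
  unfold wprodY Cfsg.Lie.ChevalleyDatum.hWord Cfsg.Lie.ChevalleyDatum.nWord
  rw [hdiagb_neg5]
  simp only [List.map_cons, List.map_nil, List.prod_cons, List.prod_nil, mul_one, List.cons_append, List.nil_append]
  simp only [Yn_5, Yn_6]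
  simp only [act_mul]
  simp only [act_X9, act_X14]
  apply ext8 <;> simp [hb1, hb2, hb3] <;> field_simp <;> ring

theorem hdiagb_neg6 : Cfsg.Lie.chevG2.neg 6 = 5 := by decide

theorem hdiagb_6 (t : F) (ht : t ≠ 0) (x : I8 → F) :
    act (Q8 F) (wprodY (Cfsg.Lie.chevG2.hWord 6 t)) x =
      mk8 (hb1 6 t * ca1 x) (hb2 6 t * ca2 x) (hb3 6 t * ca3 x) (ca4 x)
        ((hb1 6 t)⁻¹ * cb1 x) ((hb2 6 t)⁻¹ * cb2 x) ((hb3 6 t)⁻¹ * cb3 x) (cb4 x) := by
  unfold wprodY Cfsg.Lie.ChevalleyDatum.hWord Cfsg.Lie.ChevalleyDatum.nWord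
  rw [hdiagb_neg6]
  simp only [List.map_cons, List.map_nil, List.prod_cons, List.prod_nil, mul_one, List.cons_append, List.nil_append]
  simp only [Yn_5, Yn_6]
  simp only [act_mul]
  simp only [act_X9, act_X14]
  apply ext8 <;> simp [hb1, hb2, hb3] <;> field_simp <;> ring

theorem hdiagb_neg7 : Cfsg.Lie.chevG2.neg 7 = 4 := by decide

theorem hdiagb_7 (t : F) (ht : t ≠ 0) (x : I8 → F) :
    act (Q8 F) (wprodY (Cfsg.Lie.chevG2.hWord 7 t)) x =
      mk8 (hb1 7 t * ca1 x) (hb2 7 t * ca2 x) (hb3 7 t * ca3 x) (ca4 x)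
        ((hb1 7 t)⁻¹ * cb1 x) ((hb2 7 t)⁻¹ * cb2 x) ((hb3 7 t)⁻¹ * cb3 x) (cb4 x) := by
  unfold wprodY Cfsg.Lie.ChevalleyDatum.hWord Cfsg.Lie.ChevalleyDatum.nWord
  rw [hdiagb_neg7]
  simp only [List.map_cons, List.map_nil, List.prod_cons, List.prod_nil, mul_one, List.cons_append, List.nil_append]
  simp only [Yn_4, Yn_7]
  simp only [act_mul]
  simp only [act_X5, act_X10, act_X11, act_X12, act_X13, act_X18]
  apply ext8 <;> simp [hb1, hb2, hb3] <;> field_simp <;> ring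

/-- GT-HDIAG-b. -/
theorem act_HY_b (s : Fin 12) (hs : 4 ≤ s.val) (hs' : s.val < 8) (t : F) (ht : t ≠ 0) (x : I8 → F) :
    act (Q8 F) (wprodY (Cfsg.Lie.chevG2.hWord (s : ℕ) t)) x =
      mk8 (hb1 s t * ca1 x) (hb2 s t * ca2 x) (hb3 s t * ca3 x) (ca4 x)
        ((hb1 s t)⁻¹ * cb1 x) ((hb2 s t)⁻¹ * cb2 x) ((hb3 s t)⁻¹ * cb3 x) (cb4 x) := by
  obtain ⟨k, hk⟩ := s
  simp only at hs hs'
  interval_cases k
  · exact hdiagb_4 t ht x
  · exact hdiagb_5 t ht x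
  · exact hdiagb_6 t ht x
  · exact hdiagb_7 t ht x

end Cfsg.Agent.Lib.Helper37.Gt
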