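import Cfsg.Agent.Lib.Helper97.Gt_HDIAG_a
import Cfsg.Agent.Lib.Helper9.Gt_HDIAG_b
import Cfsg.Agent.Lib.Helper32.Gt_HDIAG_c

/-! # Gt hive (S2734, helper37): leaf GT-STAB-POS (helper9) — the positive root elements fix `e₁`, the `h_s(t)` scale it. -/

set_option autoImplicit false
set_option linter.unusedSectionVars false
set_option linter.unusedVariables false
set_option linter.unusedTactic false
set_option linter.unreachableTactic false
set_option linter.unnecessarySeqFocus false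
set_option linter.unusedSimpArgs false

namespace Cfsg.Agent.Lib.Helper37.Gt

open Matrix Module QuadraticMap
open Cfsg.Agent.Lib.Helper8 Cfsg.Agent.Lib.Helper13 Cfsg.Agent.Lib.Helper37 Cfsg.Agent.Lib.Helper37.D4O8

variable {F : Type*} [Field F]

theorem stabpos_act_HY (s : Fin 12) (t : F) (ht : t ≠ 0) (x : I8 → F) :
    act (Q8 F) (wprodY (Cfsg.Lie.chevG2.hWord (s : ℕ) t)) x =
      mk8 (hb1 s t * ca1 x) (hb2 s t * ca2 x) (hb3 s t * ca3 x) (ca4 x)
        ((hb1 s t)⁻¹ * cb1 x) ((hb2 s t)⁻¹ * cb2 x) ((hb3 s t)⁻¹ * cb3 x) (cb4 x) := by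
  by_cases h1 : s.val < 4
  · exact act_HY_a s h1 t ht x
  · by_cases h2 : s.val < 8
    · exact act_HY_b s (by omega) h2 t ht x
    · exact act_HY_c s (by omega) t ht x

theorem stabpos_hb1_ne (s : Fin 12) (t : F) (ht : t ≠ 0) : hb1 s t ≠ 0 := by
  fin_cases s <;> simp [hb1, ht]

/-- GT-STAB-POS (ii). -/
theorem P1_hY (s : ℕ) (hs : s < 12) (t : F) (ht : t ≠ 0) : P1 (wprodY (Cfsg.Lie.chevG2.hWord s t)) := by
  refine ⟨hb1 ⟨s, hs⟩ t, stabpos_hb1_ne _ t ht, ?_⟩
  have h := stabpos_act_HY ⟨s, hs⟩ t ht ve1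
  simp only at h
  rw [h]
  apply ext8 <;> simp [ve1]

/-- GT-STAB-POS (i). -/
theorem P1_Yn_pos (s : ℕ) (hs : 6 ≤ s) (t : F) : P1 (Yn s t) := by
  refine ⟨1, one_ne_zero, ?_⟩
  rw [one_smul]
  by_cases h : s < 12
  · interval_cases s
    · rw [Yn_6]; simp only [act_mul, act_X14]; apply ext8 <;> simp [ve1]
    · rw [Yn_7]; simp only [act_mul, act_X12, act_X18, act_X13]; apply ext8 <;> simp [ve1]
    · rw [Yn_8]; simp only [act_mul, act_X15, act_X19, act_X16]; apply ext8 <;> simp [ve1]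
    · rw [Yn_9]; simp only [act_mul, act_X17, act_X20, act_X21]; apply ext8 <;> simp [ve1]
    · rw [Yn_10]; simp only [act_mul, act_X22]; apply ext8 <;> simp [ve1]
    · rw [Yn_11]; simp only [act_mul, act_X23]; apply ext8 <;> simp [ve1]
  · rw [Yn_of_ge (by omega), act_one]

end Cfsg.Agent.Lib.Helper37.Gt
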