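import Cfsg.Agent.Lib.Helper41.StnDefs
import Cfsg.Agent.Lib.Helper64.StnNpermDefs
import Cfsg.Agent.Lib.Helper43.Stn_WMAT

/-! # Stn hive (S2401, helper41), sub-hive NPERM (helper64), leaf NP-KILL: core.
`npkill_core` is `ne_zero_of_ww` with the conclusions of NP-MON (`NS_monomial`) and NP-DIAGH (`std_HH_diag`)
as hypotheses. -/

set_option autoImplicit false

namespace Cfsg.Agent.Lib.Helper41.Stn

open Matrix

variable {K : Type*} [Field K] {n : ℕ}

theorem npkill_core (φ : St K n →* SpecialLinearGroup (Fin n) K) (hφ : IsStd φ) {S : Finset (Fin n)}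
    {a m : Fin n} (ha : a ∉ S) (hm : m ∈ S) {h ν' : St K n}
    (hmon : ∃ σ : Equiv.Perm (Fin n), (∀ i j : Fin n, (φ ν').1 i j ≠ 0 → i = σ j) ∧
      ∀ x : Fin n, x ∉ S → σ x = x)
    (hA : ∀ i j : Fin n, i ≠ j → (φ h).1 i j = 0) :
    (φ (h * ww a m 1 * ν')).1 m a ≠ 0 := by
  have ham : a ≠ m := fun h' => ha (h' ▸ hm)
  obtain ⟨σ, hσ, hσfix⟩ := hmon
  have hW := std_ww φ hφ ham (one_ne_zero : (1 : K) ≠ 0)
  have hdetA : (φ h).1.det = 1 := (φ h).2
  have hdetN : (φ ν').1.det = 1 := (φ ν').2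
  have hAmm : (φ h).1 m m ≠ 0 := by
    intro h0
    have h1 : (φ h).1.det = 0 := Matrix.det_eq_zero_of_row_eq_zero m (fun l => by
      by_cases hl : l = m
      · rw [hl]; exact h0
      · exact hA m l (Ne.symm hl))
    rw [hdetA] at h1
    exact one_ne_zero h1
  have hcol : ∀ k : Fin n, k ≠ a → (φ ν').1 k a = 0 := by
    intro k hk
    by_contra hk'
    have h1 := hσ k a hk'
    rw [hσfix a ha] at h1
    exact hk h1
  have hNaa : (φ ν').1 a a ≠ 0 := by
    intro h0
    have h1 : (φ ν').1.det = 0 := Matrix.det_eq_zero_of_column_eq_zero a (fun k => by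
      by_cases hk : k = a
      · rw [hk]; exact h0
      · exact hcol k hk)
    rw [hdetN] at h1
    exact one_ne_zero h1
  rw [map_mul, map_mul]
  show ((φ h).1 * (φ (ww a m 1)).1 * (φ ν').1) m a ≠ 0
  rw [Matrix.mul_apply, Finset.sum_eq_single a]
  · rw [Matrix.mul_apply, Finset.sum_eq_single m]
    · rw [hW m a]
      have h1 : m = Equiv.swap a m a := by rw [Equiv.swap_apply_left]
      rw [if_pos h1]
      have hmu : mu a m (1 : K) a = -1 := by simp [mu]
      rw [hmu]
      exact mul_ne_zero (mul_ne_zero hAmm (by simp)) hNaa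
    · intro l _ hl
      rw [hA m l (Ne.symm hl), zero_mul]
    · intro h'; exact absurd (Finset.mem_univ m) h'
  · intro k _ hk
    rw [hcol k hk, mul_zero]
  · intro h'; exact absurd (Finset.mem_univ a) h'

end Cfsg.Agent.Lib.Helper41.Stn
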