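import Mathlib
import Cfsg.Prelude.Def_ClassicalGeometry
import Cfsg.Prelude.Def_GeometricClasses
import Cfsg.Agent.Lib.Helper37.PlusType
import Cfsg.Agent.Lib.Helper9.TsOMEGAODD

/-!
# S5989 hive (On), leaf ON-ODDMEM : `mem_omegaGL_of_odd_order`.

An isometry of odd order of the hyperbolic form `Σ xᵢyᵢ` (characteristic not two, finite field)
lies in `Ω`: the general Cartan–Dieudonné / spinor norm argument
`Cfsg.Agent.Lib.Helper79.TsSwap.omegaodd_mem_omega` applied with the Gram matrix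
`Helper37.gramP` (no restriction on `d`).
-/

set_option autoImplicit false

namespace Cfsg.Agent.Lib.Helper81.On

theorem oddmem_plus_isGram {F : Type*} [Field F] (h2 : (2 : F) ≠ 0) (m : ℕ) :
    Cfsg.Agent.Lib.Helper37.IsGram (Cfsg.quadFormPlus m F) (Cfsg.Agent.Lib.Helper37.gramP m F) :=
  ⟨h2, Cfsg.Agent.Lib.Helper37.gramP_isSymm m F, Cfsg.Agent.Lib.Helper37.gramP_self m F⟩

theorem oddmem_gramP_det_ne_zero {F : Type*} [Field F] (m : ℕ) :
    (Cfsg.Agent.Lib.Helper37.gramP m F).det ≠ 0 := by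
  rw [Cfsg.Agent.Lib.Helper37.gramP_det]
  exact pow_ne_zero _ (by simp)

/-- ON-ODDMEM.  An isometry of odd order of `Σ xᵢyᵢ` (char ≠ 2) lies in `Ω`. -/
theorem mem_omegaGL_of_odd_order {F : Type*} [Field F] [Fintype F] (h2 : (2 : F) ≠ 0) (d : ℕ)
    (x : GL (Fin d ⊕ Fin d) F) (hx : x ∈ Cfsg.isometryGroup F (Cfsg.quadFormPlus d F))
    (hodd : Odd (orderOf x)) : x ∈ Cfsg.Geo.omegaGL (Cfsg.quadFormPlus d F) := by
  classical
  have hmem : (⟨x, hx⟩ : ↥(Cfsg.isometryGroup F (Cfsg.quadFormPlus d F))) ∈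
      Cfsg.Omega F (Cfsg.quadFormPlus d F) := by
    refine Cfsg.Agent.Lib.Helper79.TsSwap.omegaodd_mem_omega
      (oddmem_plus_isGram h2 d) (oddmem_gramP_det_ne_zero d)
      ⟨x, hx⟩ (orderOf x) hodd ?_
    apply Subtype.ext
    rw [Subgroup.coe_pow, Subgroup.coe_one]
    exact pow_orderOf_eq_one x
  exact ⟨⟨x, hx⟩, hmem, rfl⟩

end Cfsg.Agent.Lib.Helper81.On
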