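import Mathlib

set_option autoImplicit false

namespace Cfsg.Agent.Lib.Helper9

theorem relIndex_mul_card_inf {G : Type*} [Group G] (S N : Subgroup G) :
    S.relIndex N * Nat.card (S ⊓ N : Subgroup G) = Nat.card N := by
  have h1 := Subgroup.index_mul_card (S.subgroupOf N)
  have h2 : Nat.card (S.subgroupOf N) = Nat.card (S ⊓ N : Subgroup G) := by
    rw [← Subgroup.inf_subgroupOf_right]
    exact Nat.card_congr (Subgroup.subgroupOfEquivOfLe inf_le_right).toEquiv
  rw [h2] at h1
  exact h1

/-- For a normal subgroup `N`, `[N : N ∩ S] = [S N : S]`. -/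
theorem relIndex_sup_eq_of_normal {G : Type*} [Group G] [Finite G] (S N : Subgroup G) [N.Normal] :
    S.relIndex (S ⊔ N) = S.relIndex N := by
  have e1 := relIndex_mul_card_inf S (S ⊔ N)
  rw [inf_eq_left.mpr (le_sup_left : S ≤ S ⊔ N)] at e1
  have e2 := relIndex_mul_card_inf N (S ⊔ N)
  rw [inf_eq_left.mpr (le_sup_right : N ≤ S ⊔ N), Subgroup.relIndex_sup_right] at e2
  have e3 := relIndex_mul_card_inf N S
  have e4 := relIndex_mul_card_inf S N
  rw [inf_comm] at e3
  have hpos : 0 < Nat.card (S ⊓ N : Subgroup G) := Nat.card_pos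
  have hpos2 : 0 < N.relIndex S := by
    rcases Nat.eq_zero_or_pos (N.relIndex S) with h | h
    · rw [h, zero_mul] at e3
      have : 0 < Nat.card S := Nat.card_pos
      omega
    · exact h
  have key : S.relIndex (S ⊔ N) * (N.relIndex S * Nat.card (S ⊓ N : Subgroup G)) =
      S.relIndex N * (N.relIndex S * Nat.card (S ⊓ N : Subgroup G)) := by
    calc S.relIndex (S ⊔ N) * (N.relIndex S * Nat.card (S ⊓ N : Subgroup G))
        = S.relIndex (S ⊔ N) * Nat.card S := by rw [e3]
      _ = N.relIndex S * Nat.card N := by rw [e1, e2]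
      _ = N.relIndex S * (S.relIndex N * Nat.card (S ⊓ N : Subgroup G)) := by rw [e4]
      _ = S.relIndex N * (N.relIndex S * Nat.card (S ⊓ N : Subgroup G)) := by ring
  exact Nat.eq_of_mul_eq_mul_right (Nat.mul_pos hpos2 hpos) key

theorem relIndex_dvd_index_of_normal_right {G : Type*} [Group G] [Finite G] (S N : Subgroup G)
    [N.Normal] : S.relIndex N ∣ S.index := by
  rw [← relIndex_sup_eq_of_normal]
  exact Subgroup.relIndex_dvd_index_of_le le_sup_left

/-- A Sylow subgroup meets every subnormal subgroup in a subgroup of index prime to `p`. -/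
theorem not_dvd_relIndex_of_isSubnormal {G : Type*} [Group G] [Finite G] (p : ℕ) [Fact p.Prime]
    (S : Sylow p G) {H : Subgroup G} (hH : H.IsSubnormal) :
    ¬ p ∣ (S : Subgroup G).relIndex H := by
  induction hH with
  | top => rw [Subgroup.relIndex_top_right]; exact S.not_dvd_index
  | step H K hle hK hN ih =>
    intro hd
    apply ih
    -- work inside `K`
    have h1 : ((S : Subgroup G).subgroupOf K).relIndex (H.subgroupOf K) ∣
        ((S : Subgroup G).subgroupOf K).index :=
      relIndex_dvd_index_of_normal_right _ _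
    have h2 : ((S : Subgroup G).subgroupOf K).relIndex (H.subgroupOf K) =
        (S : Subgroup G).relIndex H := by
      rw [Subgroup.relIndex_subgroupOf hle]
    rw [h2] at h1
    exact hd.trans h1

theorem exists_sylow_eq_subgroupOf {G : Type*} [Group G] [Finite G] (p : ℕ) [Fact p.Prime]
    (H : Subgroup G) (hH : H.IsSubnormal) (S : Sylow p G) :
    ∃ Q : Sylow p H, (Q : Subgroup H) = (S : Subgroup G).subgroupOf H := by
  have h1 : IsPGroup p ((S : Subgroup G).subgroupOf H) :=
    S.isPGroup'.comap_subtype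
  have h2 : ¬ p ∣ ((S : Subgroup G).subgroupOf H).index := not_dvd_relIndex_of_isSubnormal p S hH
  exact ⟨h1.toSylow h2, rfl⟩

end Cfsg.Agent.Lib.Helper9
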