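import Mathlib
import Cfsg.Prelude.Def_ClassicalGeometry
import Cfsg.Prelude.Def_GeometricClasses
import Cfsg.Agent.Lib.Helper59.TqDefs
import Cfsg.Agent.Lib.Helper5.HyDefs
import Cfsg.Agent.Lib.Helper37.SpinorNorm
import Cfsg.Agent.Lib.Helper69.OnR2R

/-!
# TQ-TWOFIX sub-hive (helper67; Tq hive of helper59), leaf TWOFIX-SPIN `twofix_spin` (helper9)

The spinor norm of an isometry `g` with `g² = -1` is `2^n` (`card κ = 2 n`): by helper69's
`Cfsg.Agent.Lib.Helper81.On.refl_of_sq_neg_one`, `g` is a product of `2 n` reflections with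
`∏ Q v = 2^n t²`; if `g ∈ Ω` this product is a square.  (An independent route through a complex
orthogonal basis is in `Cfsg.Agent.Lib.Helper9.TqTwofixSPINcore`.)
-/

set_option autoImplicit false

namespace Cfsg.Agent.Lib.Helper59.Tq

open Module
open Cfsg.Agent.Lib.Helper2.BG Cfsg.Agent.Lib.Helper99 Cfsg.Agent.Lib.Helper48.Ti
open Cfsg.Agent.Lib.Helper5.Hy

section twofix_spin

open Cfsg.Agent.Lib.Helper37

variable {κ : Type} [Fintype κ] [DecidableEq κ] {F : Type*} [Field F] [Fintype F]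
  {Q : (κ → F) → F} {G : Matrix κ κ F}

/-- a Gram matrix whose bilinear form is nondegenerate has nonzero determinant -/
theorem twofix_spin_det_ne_zero (h : IsGram Q G) (hV : Nd (Matrix.toBilin' G) ⊤) :
    G.det ≠ 0 := by
  intro hdet
  obtain ⟨w, hw0, hw⟩ := Matrix.exists_mulVec_eq_zero_iff.2 hdet
  apply hw0
  apply hV w Submodule.mem_top
  intro u _
  rw [h.symmB, Matrix.toBilin'_apply', hw, dotProduct_zero]

/-- TWOFIX-SPIN -/
theorem twofix_spin (h : IsGram Q G) (hV : Nd (Matrix.toBilin' G) ⊤)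
    (g : ↥(Cfsg.isometryGroup F Q))
    (hgΩ : g ∈ Cfsg.Omega F Q) (hg2 : toMat Q g * toMat Q g = -1) (n : ℕ)
    (hn : Fintype.card κ = 2 * n) :
    IsSquare ((2 : F) ^ n) := by
  classical
  obtain ⟨-, n', vs, t, hcard, hvs, hprod, -, ht, hQ⟩ :=
    Cfsg.Agent.Lib.Helper81.On.refl_of_sq_neg_one h (twofix_spin_det_ne_zero h hV) g hg2
  have hn' : n' = n := by omega
  subst hn'
  obtain ⟨-, hsq⟩ := h.even_and_isSquare_of_mem_omega g vs hvs hprod hgΩ
  rw [hQ] at hsq
  obtain ⟨z, hz⟩ := hsq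
  refine ⟨z / t, ?_⟩
  field_simp
  linear_combination hz

end twofix_spin

end Cfsg.Agent.Lib.Helper59.Tq
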