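import Cfsg.Agent.Lib.Helper6.FH.ADefs

/-!
# Feit–Higman project, leaf FH-A6P: the closed form of the pairing (pure algebra in `ℂ`)
-/

set_option autoImplicit false

namespace Cfsg.Agent.Lib.Helper6.FH

open Matrix

theorem a6p_altP_even (k : ℕ) (x y : ℂ) : altP (2 * k) x y = (x * y) ^ k := by
  induction k with
  | zero => simp
  | succ k ih =>
    have : 2 * (k + 1) = (2 * k + 1) + 1 := by ring
    rw [this, altP_succ, altP_succ, ih, pow_succ]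
    ring

theorem a6p_altP_odd (k : ℕ) (x y : ℂ) : altP (2 * k + 1) x y = (x * y) ^ k * x := by
  rw [altP_succ, a6p_altP_even, mul_comm y x]
  ring

theorem a6p_sum_lin (c₁ c₂ c₃ x y : ℂ) (m : ℕ) :
    ∑ k ∈ Finset.range m, (c₁ * x ^ k + c₂ * y ^ k + c₃) =
      c₁ * ∑ k ∈ Finset.range m, x ^ k + c₂ * ∑ k ∈ Finset.range m, y ^ k + m * c₃ := by
  simp [Finset.sum_add_distrib, Finset.mul_sum]

/-- splitting a sum over `range (2m)` into even and odd indices -/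
theorem a6p_sum_range_two_mul (f : ℕ → ℂ) (m : ℕ) :
    ∑ l ∈ Finset.range (2 * m), f l =
      ∑ k ∈ Finset.range m, f (2 * k + 1) + ∑ k ∈ Finset.range m, f (2 * k) := by
  induction m with
  | zero => simp
  | succ m ih =>
    have : 2 * (m + 1) = 2 * m + 1 + 1 := by ring
    rw [this, Finset.sum_range_succ, Finset.sum_range_succ, ih, Finset.sum_range_succ,
      Finset.sum_range_succ]
    ring

theorem a6p_sum_Ico_one (f : ℕ → ℂ) (n : ℕ) (hn : 1 ≤ n) :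
    ∑ l ∈ Finset.Ico 1 n, f l = ∑ l ∈ Finset.range n, f l - f 0 := by
  rw [Finset.range_eq_Ico, Finset.sum_eq_sum_Ico_succ_bot (by omega : 0 < n)]
  ring

theorem a6p_sq_add {t s : ℂ} (hts : t * s = 1) (k : ℕ) :
    (t ^ k + s ^ k) ^ 2 = (t ^ 2) ^ k + (s ^ 2) ^ k + 2 := by
  have h1 : t ^ k * s ^ k = 1 := by rw [← mul_pow, hts, one_pow]
  have hz : (t ^ 2) ^ k = (t ^ k) ^ 2 := by rw [← pow_mul, ← pow_mul, mul_comm]
  have hzi : (s ^ 2) ^ k = (s ^ k) ^ 2 := by rw [← pow_mul, ← pow_mul, mul_comm]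
  rw [hz, hzi]
  linear_combination 2 * h1

theorem a6p_sq_sub {t s : ℂ} (hts : t * s = 1) (k : ℕ) :
    (t ^ k - s ^ k) ^ 2 = (t ^ 2) ^ k + (s ^ 2) ^ k - 2 := by
  have h1 : t ^ k * s ^ k = 1 := by rw [← mul_pow, hts, one_pow]
  have hz : (t ^ 2) ^ k = (t ^ k) ^ 2 := by rw [← pow_mul, ← pow_mul, mul_comm]
  have hzi : (s ^ 2) ^ k = (s ^ k) ^ 2 := by rw [← pow_mul, ← pow_mul, mul_comm]
  rw [hz, hzi]
  linear_combination (-2) * h1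

theorem a6p_sq_sub_succ {t s : ℂ} (hts : t * s = 1) (k : ℕ) :
    (t ^ (k + 1) - s ^ (k + 1)) ^ 2 = t ^ 2 * (t ^ 2) ^ k + s ^ 2 * (s ^ 2) ^ k - 2 := by
  have := a6p_sq_sub hts (k + 1)
  rw [this, pow_succ, pow_succ]
  ring

theorem a6p_mul_sub {t s : ℂ} (hts : t * s = 1) (k : ℕ) :
    (t ^ k - s ^ k) * (t ^ (k + 1) - s ^ (k + 1)) =
      t * (t ^ 2) ^ k + s * (s ^ 2) ^ k - (t + s) := by
  have h1 : t ^ k * s ^ k = 1 := by rw [← mul_pow, hts, one_pow]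
  have hz : (t ^ 2) ^ k = (t ^ k) ^ 2 := by rw [← pow_mul, ← pow_mul, mul_comm]
  have hzi : (s ^ 2) ^ k = (s ^ k) ^ 2 := by rw [← pow_mul, ← pow_mul, mul_comm]
  rw [hz, hzi, pow_succ, pow_succ]
  linear_combination (-(t + s)) * h1

/-- the closed form of one odd term -/
theorem a6p_odd_term {u v ρ w X Sk Sk1 : ℂ} (hu : u ≠ 0) (hv : v ≠ 0) (hρ : ρ ^ 2 = u * v)
    (k : ℕ)
    (hX : X * w * ρ = ρ ^ k * (u * (v - 1) * Sk + (u - 1) * ρ * Sk1)) :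
    X * X / ((u * v) ^ k * u) * w ^ 2 =
      (v - 1) ^ 2 / v * Sk ^ 2 + (u - 1) ^ 2 / u * Sk1 ^ 2 +
        2 * ((u - 1) * (v - 1) * ρ / (u * v)) * Sk * Sk1 := by
  have hρ0 : ρ ≠ 0 := by
    intro h
    rw [h] at hρ
    have : u * v = 0 := by rw [← hρ]; ring
    rcases mul_eq_zero.mp this with h' | h'
    · exact hu h'
    · exact hv h'
  have hP : (ρ ^ k) ^ 2 = (u * v) ^ k := by rw [← hρ, ← pow_mul, ← pow_mul, mul_comm]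
  have hQ0 : (u * v) ^ k ≠ 0 := pow_ne_zero _ (mul_ne_zero hu hv)
  set B := u * (v - 1) * Sk + (u - 1) * ρ * Sk1 with hB
  have h1 : (X * w) ^ 2 * (u * v) = (u * v) ^ k * B ^ 2 := by
    have : (X * w * ρ) ^ 2 = (ρ ^ k * B) ^ 2 := by rw [hX]
    rw [mul_pow, mul_pow (ρ ^ k), hP, hρ] at this
    exact this
  have h2 : X * X / ((u * v) ^ k * u) * w ^ 2 = B ^ 2 / (u * v * u) := by
    rw [div_mul_eq_mul_div, div_eq_div_iff (mul_ne_zero hQ0 hu) (mul_ne_zero (mul_ne_zero hu hv) hu)]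
    linear_combination u * h1
  rw [h2, hB]
  field_simp
  linear_combination ((u - 1) ^ 2 * Sk1 ^ 2) * hρ

theorem pair_closed_form {n : ℕ} (hn : 2 ≤ n) {u v ρ t : ℂ} (hu : u ≠ 0) (hv : v ≠ 0) (hρ : ρ ^ 2 = u * v)
    (ht : t ^ n = 1) (ht2 : t ^ 2 ≠ 1) (F₀ F₁ : ℕ → ℂ)
    (hF0e : ∀ k, F₀ (2 * k) = ρ ^ k * (t ^ k + t⁻¹ ^ k)) (hF1e : ∀ k, F₁ (2 * k) = ρ ^ k * (t ^ k + t⁻¹ ^ k))
    (hF0o : ∀ k, F₀ (2 * k + 1) * (t - t⁻¹) * ρ =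
      ρ ^ k * (u * (v - 1) * (t ^ k - t⁻¹ ^ k) + (u - 1) * ρ * (t ^ (k + 1) - t⁻¹ ^ (k + 1))))
    (hF1o : ∀ k, F₁ (2 * k + 1) * (t - t⁻¹) * ρ =
      ρ ^ k * (v * (u - 1) * (t ^ k - t⁻¹ ^ k) + (v - 1) * ρ * (t ^ (k + 1) - t⁻¹ ^ (k + 1)))) :
    pair n u v F₀ F₁ F₀ F₁ * (t - t⁻¹) ^ 2 =
      -2 * n * ((u - 1) ^ 2 / u + (v - 1) ^ 2 / v + (u - 1) * (v - 1) * ρ / (u * v) * (t + t⁻¹) - (t - t⁻¹) ^ 2) := by
  have ht0 : t ≠ 0 := by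
    rintro rfl
    rw [zero_pow (by omega)] at ht
    exact zero_ne_one ht
  have hts : t * t⁻¹ = 1 := mul_inv_cancel₀ ht0
  have hρ' : ρ ^ 2 = v * u := by rw [hρ, mul_comm]
  have hP : ∀ k, (ρ ^ k) ^ 2 = (u * v) ^ k := fun k => by
    rw [← hρ, ← pow_mul, ← pow_mul, mul_comm]
  have hQ0 : ∀ k, (u * v) ^ k ≠ 0 := fun k => pow_ne_zero _ (mul_ne_zero hu hv)
  -- the even terms
  have hE0 : ∀ k, F₀ (2 * k) * F₀ (2 * k) / altP (2 * k) u v = (t ^ 2) ^ k + (t⁻¹ ^ 2) ^ k + 2 := by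
    intro k
    rw [a6p_altP_even, hF0e, ← a6p_sq_add hts k, div_eq_iff (hQ0 k)]
    linear_combination (t ^ k + t⁻¹ ^ k) ^ 2 * hP k
  have hE1 : ∀ k, F₁ (2 * k) * F₁ (2 * k) / altP (2 * k) v u = (t ^ 2) ^ k + (t⁻¹ ^ 2) ^ k + 2 := by
    intro k
    rw [a6p_altP_even, hF1e, ← a6p_sq_add hts k, mul_comm v u, div_eq_iff (hQ0 k)]
    linear_combination (t ^ k + t⁻¹ ^ k) ^ 2 * hP k
  -- the odd terms
  have hO0 : ∀ k, F₀ (2 * k + 1) * F₀ (2 * k + 1) / altP (2 * k + 1) u v * (t - t⁻¹) ^ 2 =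
      (v - 1) ^ 2 / v * ((t ^ 2) ^ k + (t⁻¹ ^ 2) ^ k - 2) +
      (u - 1) ^ 2 / u * (t ^ 2 * (t ^ 2) ^ k + t⁻¹ ^ 2 * (t⁻¹ ^ 2) ^ k - 2) +
      2 * ((u - 1) * (v - 1) * ρ / (u * v)) * (t * (t ^ 2) ^ k + t⁻¹ * (t⁻¹ ^ 2) ^ k - (t + t⁻¹)) := by
    intro k
    rw [a6p_altP_odd, a6p_odd_term hu hv hρ k (hF0o k), a6p_sq_sub hts, a6p_sq_sub_succ hts,
      mul_assoc _ (t ^ k - t⁻¹ ^ k), a6p_mul_sub hts]
  have hO1 : ∀ k, F₁ (2 * k + 1) * F₁ (2 * k + 1) / altP (2 * k + 1) v u * (t - t⁻¹) ^ 2 =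
      (u - 1) ^ 2 / u * ((t ^ 2) ^ k + (t⁻¹ ^ 2) ^ k - 2) +
      (v - 1) ^ 2 / v * (t ^ 2 * (t ^ 2) ^ k + t⁻¹ ^ 2 * (t⁻¹ ^ 2) ^ k - 2) +
      2 * ((v - 1) * (u - 1) * ρ / (v * u)) * (t * (t ^ 2) ^ k + t⁻¹ * (t⁻¹ ^ 2) ^ k - (t + t⁻¹)) := by
    intro k
    rw [a6p_altP_odd, a6p_odd_term hv hu hρ' k (hF1o k), a6p_sq_sub hts, a6p_sq_sub_succ hts,
      mul_assoc _ (t ^ k - t⁻¹ ^ k), a6p_mul_sub hts]

  set f : ℕ → ℂ := fun l => F₀ l * F₀ l / altP l u v + F₁ l * F₁ l / altP l v u with hf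
  have hfe : ∀ k, f (2 * k) = 2 * (t ^ 2) ^ k + 2 * (t⁻¹ ^ 2) ^ k + 4 := by
    intro k
    simp only [hf]
    rw [hE0, hE1]
    ring
  have hfo : ∀ k, f (2 * k + 1) * (t - t⁻¹) ^ 2 =
      (((u - 1) ^ 2 / u + (v - 1) ^ 2 / v) * (1 + t ^ 2) + 4 * ((u - 1) * (v - 1) * ρ / (u * v)) * t) * (t ^ 2) ^ k +
      (((u - 1) ^ 2 / u + (v - 1) ^ 2 / v) * (1 + t⁻¹ ^ 2) + 4 * ((u - 1) * (v - 1) * ρ / (u * v)) * t⁻¹) * (t⁻¹ ^ 2) ^ k +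
      (-4 * ((u - 1) ^ 2 / u + (v - 1) ^ 2 / v) - 4 * ((u - 1) * (v - 1) * ρ / (u * v)) * (t + t⁻¹)) := by
    intro k
    simp only [hf]
    rw [add_mul, hO0, hO1]
    field_simp
    ring
  have hF00 : F₀ 0 * F₀ 0 = 4 := by
    have := hF0e 0
    simp at this
    rw [this]
    norm_num
  have hf0 : f 0 = 8 := by
    have := hfe 0
    simp at this
    rw [this]
    norm_num
  have hzi2 : t⁻¹ ^ 2 ≠ 1 := by
    intro h
    apply ht2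
    rw [inv_pow, inv_eq_one] at h
    exact h
  have htp1 : t + 1 ≠ 0 := by
    intro h
    apply ht2
    have : t = -1 := by linear_combination h
    rw [this]; norm_num
  have htm1 : t - 1 ≠ 0 := by
    intro h
    apply ht2
    have : t = 1 := by linear_combination h
    rw [this]; norm_num
  unfold pair
  change (F₀ 0 * F₀ 0 + ∑ l ∈ Finset.Ico 1 n, f l + F₀ n * F₀ n / altP n u v) * (t - t⁻¹) ^ 2 = _
  rcases Nat.even_or_odd' n with ⟨m, rfl | rfl⟩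
  · -- n = 2 m
    have hm : 1 ≤ m := by omega
    have hzm : (t ^ 2) ^ m = 1 := by rw [← pow_mul]; exact ht
    have hzim : (t⁻¹ ^ 2) ^ m = 1 := by rw [← pow_mul, inv_pow, ht, inv_one]
    have hG : ∑ k ∈ Finset.range m, (t ^ 2) ^ k = 0 := by
      rw [geom_sum_eq ht2, hzm, sub_self, zero_div]
    have hGi : ∑ k ∈ Finset.range m, (t⁻¹ ^ 2) ^ k = 0 := by
      rw [geom_sum_eq hzi2, hzim, sub_self, zero_div]
    rw [a6p_sum_Ico_one f _ (by omega), a6p_sum_range_two_mul, hE0, hzm, hzim, hF00, hf0]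
    have h1 : (∑ k ∈ Finset.range m, f (2 * k + 1)) * (t - t⁻¹) ^ 2 =
        m * (-4 * ((u - 1) ^ 2 / u + (v - 1) ^ 2 / v) - 4 * ((u - 1) * (v - 1) * ρ / (u * v)) * (t + t⁻¹)) := by
      rw [Finset.sum_mul, Finset.sum_congr rfl (fun k _ => hfo k), a6p_sum_lin, hG, hGi]
      ring
    have h2 : ∑ k ∈ Finset.range m, f (2 * k) = m * 4 := by
      rw [Finset.sum_congr rfl (fun k _ => hfe k), a6p_sum_lin, hG, hGi]
      ring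
    rw [h2]
    push_cast
    linear_combination h1
  · -- n = 2 m + 1
    have hm : 1 ≤ m := by omega
    have hzm : (t ^ 2) ^ m = t⁻¹ := by
      rw [← pow_mul]
      apply eq_inv_of_mul_eq_one_left
      rw [← pow_succ]; exact ht
    have hzim : (t⁻¹ ^ 2) ^ m = t := by
      rw [inv_pow, inv_pow, hzm, inv_inv]
    have hG : ∑ k ∈ Finset.range m, (t ^ 2) ^ k = (t⁻¹ - 1) / (t ^ 2 - 1) := by
      rw [geom_sum_eq ht2, hzm]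
    have hGi : ∑ k ∈ Finset.range m, (t⁻¹ ^ 2) ^ k = (t - 1) / (t⁻¹ ^ 2 - 1) := by
      rw [geom_sum_eq hzi2, hzim]
    have hsplit : ∑ l ∈ Finset.range (2 * m + 1), f l =
        ∑ k ∈ Finset.range m, f (2 * k + 1) + ∑ k ∈ Finset.range m, f (2 * k) + f (2 * m) := by
      rw [Finset.sum_range_succ, a6p_sum_range_two_mul]
    rw [a6p_sum_Ico_one f _ (by omega), hsplit, hfe m, hzm, hzim, hF00, hf0]
    have h1 : (∑ k ∈ Finset.range m, f (2 * k + 1)) * (t - t⁻¹) ^ 2 =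
        (((u - 1) ^ 2 / u + (v - 1) ^ 2 / v) * (1 + t ^ 2) + 4 * ((u - 1) * (v - 1) * ρ / (u * v)) * t) * ((t⁻¹ - 1) / (t ^ 2 - 1)) +
        (((u - 1) ^ 2 / u + (v - 1) ^ 2 / v) * (1 + t⁻¹ ^ 2) + 4 * ((u - 1) * (v - 1) * ρ / (u * v)) * t⁻¹) * ((t - 1) / (t⁻¹ ^ 2 - 1)) +
        m * (-4 * ((u - 1) ^ 2 / u + (v - 1) ^ 2 / v) - 4 * ((u - 1) * (v - 1) * ρ / (u * v)) * (t + t⁻¹)) := by
      rw [Finset.sum_mul, Finset.sum_congr rfl (fun k _ => hfo k), a6p_sum_lin, hG, hGi]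
    have h2 : ∑ k ∈ Finset.range m, f (2 * k) =
        2 * ((t⁻¹ - 1) / (t ^ 2 - 1)) + 2 * ((t - 1) / (t⁻¹ ^ 2 - 1)) + m * 4 := by
      rw [Finset.sum_congr rfl (fun k _ => hfe k), a6p_sum_lin, hG, hGi]
    have h3 := hO0 m
    rw [hzm, hzim] at h3
    rw [h2]
    have ht21 : t ^ 2 - 1 ≠ 0 := sub_ne_zero.mpr ht2
    have hzi21 : t⁻¹ ^ 2 - 1 ≠ 0 := sub_ne_zero.mpr hzi2
    push_cast
    have key : (4 + ((2 * ((t⁻¹ - 1) / (t ^ 2 - 1)) + 2 * ((t - 1) / (t⁻¹ ^ 2 - 1)) + (m : ℂ) * 4) +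
          (2 * t⁻¹ + 2 * t + 4) - 8)) * (t - t⁻¹) ^ 2 +
        ((((u - 1) ^ 2 / u + (v - 1) ^ 2 / v) * (1 + t ^ 2) + 4 * ((u - 1) * (v - 1) * ρ / (u * v)) * t) * ((t⁻¹ - 1) / (t ^ 2 - 1)) +
        (((u - 1) ^ 2 / u + (v - 1) ^ 2 / v) * (1 + t⁻¹ ^ 2) + 4 * ((u - 1) * (v - 1) * ρ / (u * v)) * t⁻¹) * ((t - 1) / (t⁻¹ ^ 2 - 1)) +
        (m : ℂ) * (-4 * ((u - 1) ^ 2 / u + (v - 1) ^ 2 / v) - 4 * ((u - 1) * (v - 1) * ρ / (u * v)) * (t + t⁻¹))) +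
        ((v - 1) ^ 2 / v * (t⁻¹ + t - 2) + (u - 1) ^ 2 / u * (t ^ 2 * t⁻¹ + t⁻¹ ^ 2 * t - 2) +
          2 * ((u - 1) * (v - 1) * ρ / (u * v)) * (t * t⁻¹ + t⁻¹ * t - (t + t⁻¹))) =
        -2 * (2 * (m : ℂ) + 1) *
          ((u - 1) ^ 2 / u + (v - 1) ^ 2 / v + (u - 1) * (v - 1) * ρ / (u * v) * (t + t⁻¹) - (t - t⁻¹) ^ 2) := by
      have e1 : (t⁻¹ - 1) / (t ^ 2 - 1) = -1 / (t * (t + 1)) := by
        rw [div_eq_div_iff ht21 (mul_ne_zero ht0 htp1)]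
        field_simp
        ring
      have e2 : (t - 1) / (t⁻¹ ^ 2 - 1) = -t ^ 2 / (t + 1) := by
        rw [div_eq_div_iff hzi21 htp1]
        field_simp
        ring
      rw [e1, e2]
      field_simp
      ring
    linear_combination h1 + h3 + key

end Cfsg.Agent.Lib.Helper6.FH
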