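import Cfsg.Agent.Lib.Helper6.FH.BDefs
import Cfsg.Agent.Lib.Helper80.Conv
import Cfsg.Agent.Lib.Helper3.CharOps
import Cfsg.Agent.Lib.Helper97.FH_W3
import Cfsg.Agent.Lib.Helper34.FH_B7
import Cfsg.Agent.Lib.Helper4.FH_G1
import Cfsg.Agent.Lib.Helper4.FH_G2
import Cfsg.Agent.Lib.Helper80.FH_A0
import Cfsg.Agent.Lib.Helper68.FH_A4core

/-! # Feit–Higman hive (helper6), leaf FH-G3: the orthogonality relation in terms of `pair` -/

set_option autoImplicit false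

namespace Cfsg.Agent.Lib.Helper6.FH

open Cfsg Cfsg.Agent.Lib.Helper6 Cfsg.Agent.Lib.Helper6.St Cfsg.Agent.S0320 Cfsg.Agent.Lib.Helper6.Exch
open Matrix

/-- casting an alternating product of natural numbers -/
theorem g3_cast_altP (l : ℕ) (a b : ℕ) : ((altP l a b : ℕ) : ℂ) = altP l (a : ℂ) (b : ℂ) := by
  induction l generalizing a b with
  | zero => simp
  | succ l ih => rw [altP_succ, altP_succ, Nat.cast_mul, ih]

section G3
variable {G : Type*} [Group G] [Fintype G] {P : Cfsg.BNPair G} {s₁ s₂ : P.S}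

/-- the cell sums at the two alternating words of the same even length agree -/
theorem g3_fz_even_swap (hr : Rank2 P s₁ s₂) (ζ : Cfsg.IrrCharacter G) {l : ℕ}
    (hl : l ≤ orderOf (sig P s₁ * sig P s₂)) (he : Even l) :
    fz P (ζ : G → ℂ) (altP l (sig P s₂) (sig P s₁)) = fz P (ζ : G → ℂ) (altP l (sig P s₁) (sig P s₂)) := by
  obtain ⟨m, a, b, -, -, htr⟩ := exists_heckeRep hr ζ
  obtain ⟨h1, h2⟩ := htr l hl
  rw [h1, h2]
  obtain ⟨k, rfl⟩ := he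
  have e : k + k = 2 * k := by ring
  rw [e]
  exact trace_altP_even_comm a b k

/-- the cell sum at the inverse of an alternating word -/
theorem g3_fz_inv (hr : Rank2 P s₁ s₂) (ζ : Cfsg.IrrCharacter G) {l : ℕ}
    (hl : l ≤ orderOf (sig P s₁ * sig P s₂)) :
    fz P (ζ : G → ℂ) (altP l (sig P s₁) (sig P s₂))⁻¹ = fz P (ζ : G → ℂ) (altP l (sig P s₁) (sig P s₂)) ∧
    fz P (ζ : G → ℂ) (altP l (sig P s₂) (sig P s₁))⁻¹ = fz P (ζ : G → ℂ) (altP l (sig P s₂) (sig P s₁)) := by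
  have hx : sig P s₁ * sig P s₁ = 1 := (exSys_sig P).sq s₁
  have hy : sig P s₂ * sig P s₂ = 1 := (exSys_sig P).sq s₂
  rw [altP_inv hx hy l, altP_inv hy hx l]
  by_cases he : Even l
  · rw [if_pos he, if_pos he]
    exact ⟨g3_fz_even_swap hr ζ hl he, (g3_fz_even_swap hr ζ hl he).symm⟩
  · rw [if_neg he, if_neg he]
    exact ⟨rfl, rfl⟩

/-- one term of the sum -/
theorem g3_term (hr : Rank2 P s₁ s₂) (ζ ζ' : Cfsg.IrrCharacter G) {l : ℕ}
    (hl : l ≤ orderOf (sig P s₁ * sig P s₂)) :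
    ((qidx P (altP l (sig P s₁) (sig P s₂)) : ℂ)⁻¹ * fz P (ζ : G → ℂ) (altP l (sig P s₁) (sig P s₂)) *
        fz P (ζ' : G → ℂ) (altP l (sig P s₁) (sig P s₂))⁻¹ =
      fz P (ζ : G → ℂ) (altP l (sig P s₁) (sig P s₂)) * fz P (ζ' : G → ℂ) (altP l (sig P s₁) (sig P s₂)) /
        altP l (qidx P (sig P s₁) : ℂ) (qidx P (sig P s₂) : ℂ)) ∧
    ((qidx P (altP l (sig P s₂) (sig P s₁)) : ℂ)⁻¹ * fz P (ζ : G → ℂ) (altP l (sig P s₂) (sig P s₁)) *
        fz P (ζ' : G → ℂ) (altP l (sig P s₂) (sig P s₁))⁻¹ =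
      fz P (ζ : G → ℂ) (altP l (sig P s₂) (sig P s₁)) * fz P (ζ' : G → ℂ) (altP l (sig P s₂) (sig P s₁)) /
        altP l (qidx P (sig P s₂) : ℂ) (qidx P (sig P s₁) : ℂ)) := by
  obtain ⟨q1, q2⟩ := qidx_altP hr hl
  obtain ⟨i1, i2⟩ := g3_fz_inv hr ζ' hl
  rw [q1, q2, i1, i2, g3_cast_altP, g3_cast_altP]
  constructor <;> ring

theorem pairing_pair [Fintype (Wg P)] (hr : Rank2 P s₁ s₂) (ζ ζ' : Cfsg.IrrCharacter G) :
    pair (orderOf (sig P s₁ * sig P s₂)) (qidx P (sig P s₁) : ℂ) (qidx P (sig P s₂) : ℂ)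
      (fun l => fz P (ζ : G → ℂ) (altP l (sig P s₁) (sig P s₂)))
      (fun l => fz P (ζ : G → ℂ) (altP l (sig P s₂) (sig P s₁)))
      (fun l => fz P (ζ' : G → ℂ) (altP l (sig P s₁) (sig P s₂)))
      (fun l => fz P (ζ' : G → ℂ) (altP l (sig P s₂) (sig P s₁))) =
      if ζ = ζ' then ((∑ w : Wg P, qidx P w : ℕ) : ℂ) * fz P (ζ : G → ℂ) 1 / (ζ : G → ℂ) 1 else 0 := by
  have hB : (Nat.card P.B : ℂ) ≠ 0 := by
    have : 0 < Nat.card P.B := Nat.card_pos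
    exact_mod_cast this.ne'
  have hcard : (Nat.card G : ℂ) / (Nat.card P.B : ℂ) = ((∑ w : Wg P, qidx P w : ℕ) : ℂ) := by
    rw [card_eq_sum_qidx P, Nat.cast_mul, mul_div_cancel_left₀ _ hB]
  rw [← hcard, ← pairing P ζ ζ',
    sum_dihedral (exSys_sig P) hr.hall hr.hne
      (fun w => (qidx P w : ℂ)⁻¹ * fz P (ζ : G → ℂ) w * fz P (ζ' : G → ℂ) w⁻¹)]
  unfold pair
  congr 1
  · congr 1
    · simp only [altP_zero, inv_one]
      rw [qidx_one]
      simp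
    · apply Finset.sum_congr rfl
      intro l hl
      have hl' : l ≤ orderOf (sig P s₁ * sig P s₂) := (Finset.mem_Ico.mp hl).2.le
      obtain ⟨t1, t2⟩ := g3_term hr ζ ζ' hl'
      simp only []
      rw [t1, t2]
  · exact ((g3_term hr ζ ζ' le_rfl).1).symm

end G3

end Cfsg.Agent.Lib.Helper6.FH
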