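import Mathlib
import Cfsg.Agent.S0040
import Cfsg.Agent.Lib.Helper32.PGroupCenter
import Cfsg.Agent.Lib.Helper73.MaxClass

/-!
# PF1542 mini-hive (S1542), leaf EXC : `exceptional_excluded`.

A Frobenius group `N` of odd order with kernel `H` a non-abelian `p`-group and `exp(N/H) ∣ p - 1`
has `4 e² + 1 < [H : H']`, `e = [N : H]`.
-/

set_option autoImplicit false

namespace Cfsg.Agent.Lib.Helper62.PF1542

open Subgroup Cfsg
open scoped commutatorElement

universe u

/-- A finite group all of whose Sylow subgroups are cyclic has order dividing its exponent. -/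
theorem exc_card_dvd_exponent {E : Type u} [Group E] [Finite E]
    (h : ∀ (l : ℕ) [Fact l.Prime] (P : Sylow l E), IsCyclic P) :
    Nat.card E ∣ Monoid.exponent E := by
  have hexp0 : Monoid.exponent E ≠ 0 := Monoid.exponent_ne_zero_of_finite
  have hcard0 : Nat.card E ≠ 0 := Nat.card_pos.ne'
  rw [← Nat.factorization_le_iff_dvd hcard0 hexp0]
  intro l
  by_cases hl : l.Prime
  · have : Fact l.Prime := ⟨hl⟩
    obtain ⟨P⟩ := (inferInstance : Nonempty (Sylow l E))
    have := h l P
    obtain ⟨g, hg⟩ := IsCyclic.exists_generator (α := P)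
    have h1 : orderOf g = Nat.card P := orderOf_eq_card_of_forall_mem_zpowers hg
    have h2 : Nat.card P = l ^ (Nat.card E).factorization l := P.card_eq_multiplicity
    have h3 : orderOf (g : E) ∣ Monoid.exponent E := Monoid.order_dvd_exponent _
    rw [Subgroup.orderOf_coe, h1, h2] at h3
    exact (hl.pow_dvd_iff_le_factorization hexp0).1 h3
  · rw [Nat.factorization_eq_zero_of_not_prime _ hl]
    exact Nat.zero_le _

/-- **LEAF EXC** (`exceptional_excluded`). -/
theorem exceptional_excluded {N : Type u} [Group N] [Fintype N] (H : Subgroup N) [H.Normal]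
    (hodd : Odd (Nat.card N)) (hH2 : H ≠ ⊤)
    (hC : ∀ h ∈ H, h ≠ 1 → Subgroup.centralizer ({h} : Set N) ≤ H)
    (p : ℕ) (hp : p.Prime) (hHp : ∃ m : ℕ, Nat.card H = p ^ m) (hna : ¬ IsMulCommutative H)
    (hexp : Monoid.exponent (N ⧸ H) ∣ p - 1) :
    4 * H.index ^ 2 + 1 < (⁅H, H⁆.subgroupOf H).index := by
  classical
  have : Fact p.Prime := ⟨hp⟩
  obtain ⟨m, hm⟩ := hHp
  have hHpg : IsPGroup p H := IsPGroup.of_card hm
  -- `H ≠ ⊥`
  have hHne : H ≠ ⊥ := by
    intro h0
    apply hna
    refine ⟨⟨fun a b => ?_⟩⟩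
    have key : ∀ a : H, a = 1 := fun a =>
      Subtype.ext ((Subgroup.eq_bot_iff_forall H).1 h0 a a.2)
    rw [key a, key b]
  -- `p ∤ [N : H]`
  have hpidx : ¬ p ∣ H.index := by
    intro hdvd
    obtain ⟨P, hHP⟩ := hHpg.exists_le_sylow
    have hne : (H : Subgroup N) ≠ (P : Subgroup N) := by
      intro heq
      apply P.not_dvd_index
      rw [← heq]; exact hdvd
    have hex : ∃ y ∈ (P : Subgroup N), y ∉ H := by
      by_contra hcon
      push Not at hcon
      exact hne (le_antisymm hHP hcon)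
    obtain ⟨y, hyP, hyH⟩ := hex
    have hbot : H.subgroupOf (P : Subgroup N) ≠ ⊥ := by
      rw [Ne, Subgroup.subgroupOf_eq_bot, disjoint_iff, inf_eq_left.2 hHP]
      exact hHne
    obtain ⟨x, hxH, hxZ, hx1⟩ := Cfsg.Agent.Lib.Helper32.exists_ne_one_mem_normal_inf_center
      (p := p) P.isPGroup' (H.subgroupOf (P : Subgroup N)) hbot
    have hxH' : (x : N) ∈ H := Subgroup.mem_subgroupOf.1 hxH
    have hx1' : (x : N) ≠ 1 := fun h => hx1 (Subtype.ext h)
    apply hyH
    apply hC (x : N) hxH' hx1'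
    rw [Subgroup.mem_centralizer_singleton_iff]
    have := (Subgroup.mem_center_iff.1 hxZ) ⟨y, hyP⟩
    have h2 := congrArg Subtype.val this
    simpa using h2
  have hcop : Nat.Coprime (Nat.card H) H.index := by
    rw [hm]
    exact Nat.Coprime.pow_left _ ((Nat.Prime.coprime_iff_not_dvd hp).2 hpidx)
  obtain ⟨E, hE⟩ := Subgroup.exists_left_complement'_of_coprime hcop
  -- fixed-point-free action
  have hfpf : ∀ x ∈ E, x ≠ 1 → H ⊓ Subgroup.centralizer {x} = ⊥ := by
    intro x hxE hx1
    rw [eq_bot_iff]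
    intro h hh
    rw [Subgroup.mem_bot]
    by_contra hne
    obtain ⟨hhH, hhc⟩ := Subgroup.mem_inf.1 hh
    rw [Subgroup.mem_centralizer_singleton_iff] at hhc
    have hxH : x ∈ H := by
      apply hC h hhH hne
      rw [Subgroup.mem_centralizer_singleton_iff]
      exact hhc.symm
    have : x ∈ E ⊓ H := ⟨hxE, hxH⟩
    rw [hE.disjoint.eq_bot, Subgroup.mem_bot] at this
    exact hx1 this
  have hEcard : Nat.card E = H.index := hE.index_eq_card.symm
  have hEodd : Odd (Nat.card E) := by
    have : Nat.card E ∣ Nat.card N := Subgroup.card_subgroup_dvd_card E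
    exact Odd.of_dvd_nat hodd this
  -- Sylow subgroups of `E` are cyclic
  have hcyc : ∀ (l : ℕ) [Fact l.Prime] (P : Sylow l E), IsCyclic P := by
    intro l _ P
    rcases Cfsg.Agent.S0040.result H E hE.symm hHne hfpf l P with h | ⟨n, ⟨e⟩⟩
    · exact h
    · exfalso
      have h1 : Nat.card P = Nat.card (QuaternionGroup (2 ^ n)) := Nat.card_congr e.toEquiv
      rw [Nat.card_eq_fintype_card (α := QuaternionGroup (2 ^ n)), QuaternionGroup.card] at h1
      have h2 : Nat.card P ∣ Nat.card E := Subgroup.card_subgroup_dvd_card _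
      have h3 : Odd (Nat.card P) := Odd.of_dvd_nat hEodd h2
      rw [h1] at h3
      exact (Nat.not_odd_iff_even.2 ⟨2 * 2 ^ n, by ring⟩) h3
  have h1 : Nat.card E ∣ Monoid.exponent E := exc_card_dvd_exponent hcyc
  have h2 : Monoid.exponent (N ⧸ H) = Monoid.exponent E :=
    Monoid.exponent_eq_of_mulEquiv hE.QuotientMulEquiv
  have hedvd : H.index ∣ p - 1 := by
    rw [← hEcard]
    exact h1.trans (h2 ▸ hexp)
  -- arithmetic
  have hidxodd : Odd H.index := hEcard ▸ hEodd
  have hpodd : Odd p := by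
    have hpH : p ∣ Nat.card H := by
      rw [hm]
      have hm0 : m ≠ 0 := by
        intro h0
        rw [h0, pow_zero] at hm
        exact hHne ((Subgroup.card_eq_one).1 hm)
      exact dvd_pow_self p hm0
    exact Odd.of_dvd_nat hodd (hpH.trans (Subgroup.card_subgroup_dvd_card H))
  have hp2 : 2 ∣ p - 1 := by
    obtain ⟨k, hk⟩ := hpodd
    exact ⟨k, by omega⟩
  have h2e : 2 * H.index ∣ p - 1 := by
    have hc2 : Nat.Coprime 2 H.index := (Nat.coprime_primes Nat.prime_two hp).1 |> fun _ =>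
      Nat.Coprime.symm (Nat.Coprime.symm (Odd.coprime_two_left hidxodd))
    exact Nat.Coprime.mul_dvd_of_dvd_of_dvd hc2 hp2 hedvd
  have hp1 : 0 < p - 1 := by have := hp.two_le; omega
  have hle : 2 * H.index ≤ p - 1 := Nat.le_of_dvd hp1 h2e
  -- `p ^ 2 ∣ [H : H']`
  have hcomm : (⁅H, H⁆.subgroupOf H) = commutator H := by
    rw [← Subgroup.map_subtype_commutator, Subgroup.subgroupOf,
      Subgroup.comap_map_eq_self_of_injective (Subgroup.subtype_injective H)]
  have hD1 : commutator H ≠ ⊥ := by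
    intro h0
    apply hna
    refine ⟨⟨fun a b => ?_⟩⟩
    have : ⁅a, b⁆ ∈ commutator H := Subgroup.commutator_mem_commutator (Subgroup.mem_top a)
      (Subgroup.mem_top b)
    rw [h0, Subgroup.mem_bot, commutatorElement_eq_one_iff_mul_comm] at this
    exact this
  have hsq : p ^ 2 ∣ (commutator H).index :=
    Cfsg.Agent.Lib.Helper73.sq_dvd_index_commutator hHpg hD1
  rw [hcomm]
  have hidx0 : 0 < (commutator H).index := Nat.pos_of_ne_zero Subgroup.index_ne_zero_of_finite
  have hge : p ^ 2 ≤ (commutator H).index := Nat.le_of_dvd hidx0 hsq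
  have hpos : 0 < H.index := Nat.pos_of_ne_zero Subgroup.index_ne_zero_of_finite
  have h3 : 2 * H.index + 1 ≤ p := by omega
  nlinarith [h3, hge, hpos]

end Cfsg.Agent.Lib.Helper62.PF1542
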