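import Mathlib
import Cfsg.Prelude.Def_Classical
import Cfsg.Prelude.Def_LieClassical
import Cfsg.Agent.Lib.Helper65.UndDefs
import Cfsg.Agent.Lib.Helper44.HermUnipotent
import Cfsg.Agent.Lib.Helper99.JordanDecomp

/-!
# S5954 hive ("Und"), leaf UND-A1 : `partCond_of_allFix`.

Given `μ` (parts in `[1, p]`, sum `n`), take a unitary unipotent `A` of Jordan type `μ`
(`Helper44.HU.exists_unipotent_of_type`).  Then `(A - 1) ^ p = 0`, `A ^ p = 1`, `det A = 1`.
If `A` is scalar every subspace is invariant; otherwise `AllFix` gives an invariant nondegenerate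
`W`, and `W^⊥` is an invariant complement.  `Helper99.exists_submultiset_of_invariant` finishes.
-/

set_option autoImplicit false

namespace Cfsg.Agent.Lib.Helper65.Und

open Cfsg.Agent.Lib.Helper40.Herm Cfsg.Agent.Lib.Helper2.BG Cfsg.Agent.Lib.Helper14.Tu Polynomial Module

theorem a1_exists_finrank {F : Type*} [Field F] (n m : ℕ) (hm : m ≤ n) :
    ∃ W : Submodule F (Fin n → F), finrank F W = m := by
  let b := Pi.basisFun F (Fin n)
  have hli : LinearIndependent F (fun i : Fin m => b (Fin.castLE hm i)) :=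
    b.linearIndependent.comp _ (Fin.castLE_injective hm)
  refine ⟨Submodule.span F (Set.range (fun i : Fin m => b (Fin.castLE hm i))), ?_⟩
  rw [finrank_span_eq_card hli, Fintype.card_fin]

section caseA
variable {F : Type*} [Field F] [Fintype F] {p : ℕ} [Fact p.Prime] [CharP F p] {q : ℕ}

theorem partCond_of_allFix (hq : Fintype.card F = q ^ 2) (n m : ℕ) (hm : m ≤ n)
    (h : AllFix F n q m p) : PartCond p n m := by
  classical
  intro μ hμ hsum
  have hp : p.Prime := Fact.out
  rcases Nat.eq_zero_or_pos n with hn0 | hnpos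
  · refine ⟨0, Multiset.zero_le _, ?_⟩
    rw [Multiset.sum_zero]; omega
  have : NeZero n := ⟨hnpos.ne'⟩
  obtain ⟨A, hdag, hnil, hdk⟩ := Cfsg.Agent.Lib.Helper44.HU.exists_unipotent_of_type hq μ
    (fun b hb => (hμ b hb).1) n hsum
  -- `T ^ p = 0`
  have hTp : (Matrix.toLin' (A - 1) : Module.End F (Fin n → F)) ^ p = 0 := by
    have h1 : Cfsg.Agent.Lib.Helper99.dker (Matrix.toLin' (A - 1)) p = n := by
      rw [hdk p]
      have : μ.map (fun b => min b p) = μ := by
        conv_rhs => rw [← Multiset.map_id μ]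
        apply Multiset.map_congr rfl
        intro b hb
        exact min_eq_left (hμ b hb).2
      rw [this, hsum]
    have h2 : LinearMap.ker ((Matrix.toLin' (A - 1) : Module.End F (Fin n → F)) ^ p) = ⊤ := by
      apply Submodule.eq_top_of_finrank_eq
      rw [Module.finrank_fintype_fun_eq_card, Fintype.card_fin]
      exact h1
    exact LinearMap.ker_eq_top.1 h2
  -- `(A - 1) ^ p = 0`
  have hAp0 : (A - 1) ^ p = 0 := by
    apply (Matrix.toLin' (R := F)).injective
    rw [Matrix.toLin'_pow, map_zero]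
    exact hTp
  -- `A ^ p = 1`
  have hAp : A ^ p = 1 := by
    have h1 := sub_pow_char_of_commute p (Commute.one_right A)
    rw [hAp0, one_pow] at h1
    exact (sub_eq_zero.1 h1.symm)
  -- `det A = 1`
  have hdet : A.det = 1 := by
    have h1 : A.det ^ p = 1 := by rw [← Matrix.det_pow, hAp, Matrix.det_one]
    apply frobenius_inj F p
    rw [frobenius_def, frobenius_def, h1, one_pow]
  have hIsU : IsU n q A := fun u v => Cfsg.Agent.Lib.Helper44.HU.unitary_isometry hq A hdag u v
  by_cases hsc : ∃ z : F, A = z • 1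
  · obtain ⟨z, hz⟩ := hsc
    have hTv : ∀ v, (Matrix.toLin' (A - 1) : Module.End F (Fin n → F)) v = (z - 1) • v := by
      intro v
      rw [Matrix.toLin'_apply, hz, Matrix.sub_mulVec, Matrix.smul_mulVec, Matrix.one_mulVec,
        sub_smul, one_smul]
    obtain ⟨U, hU⟩ := a1_exists_finrank (F := F) n m hm
    obtain ⟨U', hc⟩ := Submodule.exists_isCompl U
    exact Cfsg.Agent.Lib.Helper99.exists_submultiset_of_invariant _ p hTp U U' hc
      (fun v hv => by rw [hTv]; exact U.smul_mem _ hv)
      (fun v hv => by rw [hTv]; exact U'.smul_mem _ hv) μ hdk m hU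
  · push Not at hsc
    obtain ⟨W, hWm, hWnd, hWinv⟩ := h A hIsU hdet ⟨1, by rw [hAp, one_smul]⟩ hsc
    have hH := Cfsg.Agent.Lib.Helper44.isHermSpace_std (q := q) hq n
    have hq0 : q ≠ 0 := by
      intro h0
      rw [h0] at hq
      simp at hq
    have hW' : ∀ w ∈ W, (∀ u ∈ W, Cfsg.hermForm n F q u w = 0) → w = 0 := by
      intro w hw hall
      by_contra hne
      obtain ⟨v, hv, hvne⟩ := hWnd w hw hne
      exact hvne (Cfsg.Agent.Lib.Helper44.HU.herm_symm_zero hq0 hH v w (hall v hv))
    obtain ⟨-, -, hc⟩ := Cfsg.Agent.Lib.Helper44.HU.isCompl_hermOrth hq hH W hW'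
    have hAW : ∀ w ∈ W, A.mulVec w ∈ W := by
      intro w hw
      have := hWinv (Submodule.mem_map_of_mem hw)
      rwa [Matrix.toLin'_apply] at this
    have hAkW : ∀ k : ℕ, ∀ w ∈ W, (A ^ k).mulVec w ∈ W := by
      intro k
      induction k with
      | zero => intro w hw; rw [pow_zero, Matrix.one_mulVec]; exact hw
      | succ k ih =>
        intro w hw
        rw [pow_succ', ← Matrix.mulVec_mulVec]
        exact hAW _ (ih w hw)
    have hAorth : ∀ v ∈ Cfsg.Agent.Lib.Helper44.hermOrth hH W,
        A.mulVec v ∈ Cfsg.Agent.Lib.Helper44.hermOrth hH W := by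
      intro v hv w hw
      have hw' : A.mulVec ((A ^ (p - 1)).mulVec w) = w := by
        rw [Matrix.mulVec_mulVec, ← pow_succ', Nat.sub_add_cancel hp.one_le, hAp,
          Matrix.one_mulVec]
      rw [← hw', hIsU]
      exact hv _ (hAkW _ w hw)
    have hTv : ∀ v, (Matrix.toLin' (A - 1) : Module.End F (Fin n → F)) v = A.mulVec v - v := by
      intro v
      rw [Matrix.toLin'_apply, Matrix.sub_mulVec, Matrix.one_mulVec]
    exact Cfsg.Agent.Lib.Helper99.exists_submultiset_of_invariant _ p hTp W _ hc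
      (fun v hv => by rw [hTv]; exact W.sub_mem (hAW v hv) hv)
      (fun v hv => by rw [hTv]; exact Submodule.sub_mem _ (hAorth v hv) hv) μ hdk m hWm

end caseA

end Cfsg.Agent.Lib.Helper65.Und
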