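import Mathlib

set_option autoImplicit false
set_option linter.unusedSectionVars false

namespace Cfsg.Agent.Lib.Helper9

open MulAction

section

variable {G : Type*} [Group G] [Finite G] [Group.IsSolvable G]

/-- A minimal normal subgroup of a solvable group is commutative. -/
theorem minimal_normal_comm (M : Subgroup G) [hMn : M.Normal] (hM : M ≠ ⊥)
    (hmin : ∀ K : Subgroup G, K.Normal → K ≤ M → K = ⊥ ∨ K = M) :
    ∀ x ∈ M, ∀ y ∈ M, x * y = y * x := by
  have hlt : ⁅M, M⁆ < M := Group.IsSolvable.commutator_lt_of_ne_bot hM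
  have hn : (⁅M, M⁆ : Subgroup G).Normal := Subgroup.commutator_normal M M
  rcases hmin _ hn hlt.le with h | h
  · rw [Subgroup.commutator_eq_bot_iff_le_centralizer] at h
    intro x hx y hy
    exact ((Subgroup.mem_centralizer_iff.mp (h hx)) y hy).symm
  · exact absurd h hlt.ne

/-- A minimal normal subgroup of a finite solvable group has prime power order. -/
theorem minimal_normal_card (M : Subgroup G) [hMn : M.Normal] (hM : M ≠ ⊥)
    (hmin : ∀ K : Subgroup G, K.Normal → K ≤ M → K = ⊥ ∨ K = M) :
    ∃ p d : ℕ, p.Prime ∧ 0 < d ∧ Nat.card M = p ^ d := by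
  have hcomm := minimal_normal_comm M hM hmin
  have hnt : Nontrivial M := (Subgroup.nontrivial_iff_ne_bot M).mpr hM
  have h1 : 1 < Nat.card M := Finite.one_lt_card_iff_nontrivial.mpr hnt
  obtain ⟨p, hp, hpd⟩ := Nat.exists_prime_and_dvd h1.ne'
  have hfact : Fact p.Prime := ⟨hp⟩
  obtain ⟨P⟩ : Nonempty (Sylow p M) := inferInstance
  have hPn : (P : Subgroup M).Normal := by
    constructor
    intro n hn g
    have : g * n = n * g := by
      apply Subtype.ext
      simpa using hcomm g g.2 n n.2
    rw [this, mul_inv_cancel_right]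
    exact hn
  have hchar : (P : Subgroup M).Characteristic := P.characteristic_of_normal hPn
  have hPG : ((P : Subgroup M).map M.subtype).Normal :=
    ConjAct.normal_of_characteristic_of_normal
  have hPne : (P : Subgroup M) ≠ ⊥ := P.ne_bot_of_dvd_card hpd
  have hPGne : (P : Subgroup M).map M.subtype ≠ ⊥ := by
    intro h
    apply hPne
    rwa [Subgroup.map_eq_bot_iff_of_injective _ M.subtype_injective] at h
  rcases hmin _ hPG (Subgroup.map_subtype_le _) with h | h
  · exact absurd h hPGne
  · have hcard : Nat.card M = Nat.card P := by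
      rw [← Subgroup.card_subtype M (P : Subgroup M), h]
    obtain ⟨d, hd⟩ := (IsPGroup.iff_card.mp P.isPGroup')
    refine ⟨p, d, hp, ?_, by rw [hcard, hd]⟩
    rcases Nat.eq_zero_or_pos d with h0 | h0
    · rw [h0, pow_zero] at hd
      omega
    · exact h0

end

section

variable {G : Type*} [Group G] [Finite G] [Group.IsSolvable G] {Ω : Type*} [MulAction G Ω]
  [FaithfulSMul G Ω]

theorem minimal_normal_isPretransitive (hprim : IsPreprimitive G Ω) (M : Subgroup G)
    [hMn : M.Normal] (hM : M ≠ ⊥) : IsPretransitive M Ω := by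
  apply IsQuasiPreprimitive.isPretransitive_of_normal (G := G) (X := Ω) (N := M)
  intro hfix
  apply hM
  rw [eq_bot_iff]
  intro m hm
  rw [Subgroup.mem_bot]
  apply FaithfulSMul.eq_of_smul_eq_smul (α := Ω)
  intro a
  have : a ∈ fixedPoints M Ω := by rw [hfix]; trivial
  rw [mem_fixedPoints] at this
  rw [one_smul]
  exact this ⟨m, hm⟩

theorem minimal_normal_smul_eq_of_comm (M : Subgroup G) [hMt : IsPretransitive M Ω]
    (g : G) (hg : ∀ m ∈ M, g * m = m * g) (ω : Ω) (hω : g • ω = ω) : g = 1 := by
  apply FaithfulSMul.eq_of_smul_eq_smul (α := Ω)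
  intro a
  obtain ⟨m, rfl⟩ := MulAction.exists_smul_eq M ω a
  rw [one_smul, Subgroup.smul_def, ← mul_smul, hg _ m.2, mul_smul, hω]

theorem minimal_normal_stabilizer_eq_bot (hprim : IsPreprimitive G Ω) (M : Subgroup G)
    [hMn : M.Normal] (hM : M ≠ ⊥)
    (hmin : ∀ K : Subgroup G, K.Normal → K ≤ M → K = ⊥ ∨ K = M) (ω : Ω) :
    stabilizer M ω = ⊥ := by
  have hMt := minimal_normal_isPretransitive hprim M hM
  have hcomm := minimal_normal_comm M hM hmin
  rw [eq_bot_iff]
  intro m hm
  rw [Subgroup.mem_bot]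
  rw [mem_stabilizer_iff] at hm
  apply Subtype.ext
  exact minimal_normal_smul_eq_of_comm M (m : G) (fun n hn => hcomm _ m.2 _ hn) ω hm

end

end Cfsg.Agent.Lib.Helper9
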