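import Mathlib

set_option autoImplicit false

namespace Cfsg.Agent.Lib.Helper9

/-- A Sylow `p`-subgroup of index less than `p` is normal. -/
theorem sylow_normal_of_index_lt {K : Type*} [Group K] [Finite K] {p : ℕ} [hp : Fact p.Prime]
    (P : Sylow p K) (h : (P : Subgroup K).index < p) : (P : Subgroup K).Normal := by
  have h1 : Nat.card (Sylow p K) ∣ (P : Subgroup K).index := P.card_dvd_index
  have h2 : Nat.card (Sylow p K) ≡ 1 [MOD p] := card_sylow_modEq_one p K
  have h3 : (P : Subgroup K).index ≠ 0 := Subgroup.index_ne_zero_of_finite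
  have h4 : Nat.card (Sylow p K) ≤ (P : Subgroup K).index :=
    Nat.le_of_dvd (Nat.pos_of_ne_zero h3) h1
  have h5 : Nat.card (Sylow p K) < p := lt_of_le_of_lt h4 h
  have h6 : Nat.card (Sylow p K) = 1 := by
    have := h2
    unfold Nat.ModEq at this
    rw [Nat.mod_eq_of_lt h5, Nat.mod_eq_of_lt hp.out.one_lt] at this
    exact this
  have : Subsingleton (Sylow p K) := (Nat.card_eq_one_iff_unique.mp h6).1
  exact P.normal_of_subsingleton

/-- A normal Sylow subgroup of a normal subgroup is normal in the whole group. -/
theorem sylow_map_subtype_normal {G : Type*} [Group G] [Finite G] {p : ℕ} [hp : Fact p.Prime]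
    (K : Subgroup G) [hK : K.Normal] (P : Sylow p K) (hP : (P : Subgroup K).Normal) :
    ((P : Subgroup K).map K.subtype).Normal := by
  have : (P : Subgroup K).Characteristic := P.characteristic_of_normal hP
  exact ConjAct.normal_of_characteristic_of_normal

/-- In a group of order `p * r` with `r < p` primes, there is a characteristic-like normal subgroup
of order `p`; we state it for a normal subgroup `K` of `G` and get normality in `G`. -/
theorem exists_normal_card_eq_of_card_eq_mul {G : Type*} [Group G] [Finite G] {p r : ℕ}
    (hp : p.Prime) (hr : r.Prime) (hrp : r < p) (K : Subgroup G) [hK : K.Normal]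
    (hcard : Nat.card K = p * r) : ∃ A : Subgroup G, A ≤ K ∧ A.Normal ∧ Nat.card A = p := by
  have : Fact p.Prime := ⟨hp⟩
  obtain ⟨P⟩ : Nonempty (Sylow p K) := inferInstance
  have hfac : (Nat.card K).factorization p = 1 := by
    rw [hcard, Nat.factorization_mul hp.ne_zero hr.ne_zero]
    have h1 : p.factorization p = 1 := hp.factorization_self
    have h2 : r.factorization p = 0 := by
      apply Nat.factorization_eq_zero_of_not_dvd
      intro hd
      have := (Nat.prime_dvd_prime_iff_eq hp hr).mp hd
      omega
    simp [h1, h2]
  have hPcard : Nat.card P = p := by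
    rw [P.card_eq_multiplicity, hfac, pow_one]
  have hidx : (P : Subgroup K).index = r := by
    have := Subgroup.index_mul_card (P : Subgroup K)
    rw [hPcard, hcard, mul_comm p r] at this
    exact Nat.eq_of_mul_eq_mul_right hp.pos this
  have hPn : (P : Subgroup K).Normal := sylow_normal_of_index_lt P (by rw [hidx]; exact hrp)
  refine ⟨(P : Subgroup K).map K.subtype, ?_, sylow_map_subtype_normal K P hPn, ?_⟩
  · exact Subgroup.map_subtype_le _
  · rw [Subgroup.card_subtype]; exact hPcard

end Cfsg.Agent.Lib.Helper9
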