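import Mathlib
import Cfsg.Prelude.Def_SolvableStructure
import Cfsg.Agent.Lib.Helper9.SylowAux

set_option autoImplicit false

namespace Cfsg.Agent.Lib.Helper9

theorem hasSubgroupOfEveryOrder_of_mulEquiv {A B : Type*} [Group A] [Group B] (e : A ≃* B)
    (h : Cfsg.HasSubgroupOfEveryOrder A) : Cfsg.HasSubgroupOfEveryOrder B := by
  intro d hd
  rw [← Nat.card_congr e.toEquiv] at hd
  obtain ⟨X, hX⟩ := h d hd
  refine ⟨X.map e.toMonoidHom, ?_⟩
  rw [Subgroup.card_map_of_injective e.injective, hX]

/-- Hereditary CLT passes to subgroups. -/
theorem hereditary_clt_subgroup {G : Type*} [Group G]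
    (h : ∀ H : Subgroup G, Cfsg.HasSubgroupOfEveryOrder H) (H : Subgroup G) :
    ∀ L : Subgroup H, Cfsg.HasSubgroupOfEveryOrder L := by
  intro L
  have := h (L.map H.subtype)
  exact hasSubgroupOfEveryOrder_of_mulEquiv
    (L.equivMapOfInjective H.subtype H.subtype_injective).symm this

theorem hasSubgroupOfEveryOrder_of_top {G : Type*} [Group G]
    (h : Cfsg.HasSubgroupOfEveryOrder (⊤ : Subgroup G)) : Cfsg.HasSubgroupOfEveryOrder G :=
  hasSubgroupOfEveryOrder_of_mulEquiv Subgroup.topEquiv h

/-- If every subgroup of a finite group satisfies the converse of Lagrange's theorem, then the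
Sylow subgroups for the largest prime are normal. -/
theorem sylow_normal_of_hereditary_clt : ∀ (n : ℕ) (G : Type*) [Group G] [Finite G],
    Nat.card G = n → (∀ H : Subgroup G, Cfsg.HasSubgroupOfEveryOrder H) →
    ∀ p : ℕ, p.Prime → p ∣ Nat.card G → (∀ q : ℕ, q.Prime → q ∣ Nat.card G → q ≤ p) →
    ∀ P : Sylow p G, (P : Subgroup G).Normal := by
  intro n
  induction n using Nat.strong_induction_on with
  | _ n ih =>
    intro G _ _ hcard h p hp hpd hmax P
    have hfact : Fact p.Prime := ⟨hp⟩
    have hpos : 0 < Nat.card G := Nat.card_pos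
    have hne1 : Nat.card G ≠ 1 := by
      intro h1
      rw [h1] at hpd
      exact hp.one_lt.ne' (Nat.dvd_one.mp hpd)
    have hq : (Nat.card G).minFac.Prime := Nat.minFac_prime hne1
    have hqd : (Nat.card G).minFac ∣ Nat.card G := Nat.minFac_dvd _
    have hqp : (Nat.card G).minFac ≤ p := hmax _ hq hqd
    rcases eq_or_lt_of_le hqp with heq | hlt
    · -- G is a p-group
      have hall : ∀ {d : ℕ}, d.Prime → d ∣ Nat.card G → d = p := by
        intro d hd hdd
        apply le_antisymm (hmax d hd hdd)
        rw [← heq]
        exact Nat.minFac_le_of_dvd hd.two_le hdd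
      have hpow := Nat.eq_prime_pow_of_unique_prime_dvd hpos.ne' hall
      have hpg : IsPGroup p G := IsPGroup.of_card hpow
      have hpt : IsPGroup p (⊤ : Subgroup G) := hpg.to_subgroup ⊤
      have : (⊤ : Subgroup G) = P := P.is_maximal' hpt le_top
      rw [← this]
      infer_instance
    · -- a normal subgroup of index the smallest prime
      set q := (Nat.card G).minFac with hqdef
      obtain ⟨c, hc⟩ := hqd
      have hcd : c ∣ Nat.card G := ⟨q, by rw [hc, mul_comm]⟩
      obtain ⟨H, hH⟩ := hasSubgroupOfEveryOrder_of_top (h ⊤) c hcd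
      have hidx : H.index = q := by
        have := Subgroup.index_mul_card H
        rw [hH] at this
        rw [hc] at this
        have hcpos : 0 < c := by
          rcases Nat.eq_zero_or_pos c with h0 | h0
          · rw [h0, mul_zero] at hc; omega
          · exact h0
        exact Nat.eq_of_mul_eq_mul_right hcpos this
      have hHn : H.Normal := Subgroup.normal_of_index_eq_minFac_card hidx
      have hHlt : Nat.card H < n := by
        rw [← hcard, hH, hc]
        have := hq.two_le
        have hcpos : 0 < c := by
          rcases Nat.eq_zero_or_pos c with h0 | h0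
          · rw [h0, mul_zero] at hc; omega
          · exact h0
        nlinarith
      have hpH : p ∣ Nat.card H := by
        rw [hc] at hpd
        rcases (Nat.Prime.dvd_mul hp).mp hpd with h1 | h1
        · have := (Nat.prime_dvd_prime_iff_eq hp hq).mp h1
          omega
        · rw [hH]; exact h1
      have hmaxH : ∀ r : ℕ, r.Prime → r ∣ Nat.card H → r ≤ p := by
        intro r hr hrd
        exact hmax r hr (hrd.trans (Subgroup.card_subgroup_dvd_card H))
      obtain ⟨Q⟩ : Nonempty (Sylow p H) := inferInstance
      have hQn : (Q : Subgroup H).Normal :=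
        ih _ hHlt H rfl (hereditary_clt_subgroup h H) p hp hpH hmaxH Q
      have hQG : ((Q : Subgroup H).map H.subtype).Normal := sylow_map_subtype_normal H Q hQn
      have hfac : (Nat.card G).factorization p = (Nat.card H).factorization p := by
        rw [hc, hH, Nat.factorization_mul hq.ne_zero (by
          intro h0; rw [h0, mul_zero] at hc; omega)]
        have : q.factorization p = 0 := by
          apply Nat.factorization_eq_zero_of_not_dvd
          intro hd
          have := (Nat.prime_dvd_prime_iff_eq hp hq).mp hd
          omega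
        simp [this]
      have hQcard : Nat.card ((Q : Subgroup H).map H.subtype) = p ^ (Nat.card G).factorization p := by
        rw [Subgroup.card_subtype, Q.card_eq_multiplicity, hfac]
      set P₀ : Sylow p G := Sylow.ofCard _ hQcard with hP₀
      have hP₀n : (P₀ : Subgroup G).Normal := by
        rw [hP₀, Sylow.coe_ofCard]; exact hQG
      have := Sylow.unique_of_normal P₀ hP₀n
      rw [Subsingleton.elim P P₀]
      exact hP₀n

end Cfsg.Agent.Lib.Helper9
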