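import Mathlib

set_option autoImplicit false

namespace Cfsg.Agent.Lib.Helper9

theorem card_quotient_mul_card {G : Type*} [Group G] (A : Subgroup G) :
    Nat.card (G ⧸ A) * Nat.card A = Nat.card G := by
  rw [← Subgroup.index_eq_card, Subgroup.index_mul_card]

theorem card_comap_mk' {G : Type*} [Group G] [Finite G] (A : Subgroup G) [A.Normal]
    (H : Subgroup (G ⧸ A)) :
    Nat.card (H.comap (QuotientGroup.mk' A)) = Nat.card H * Nat.card A := by
  have h1 : (H.comap (QuotientGroup.mk' A)).index = H.index :=
    Subgroup.index_comap_of_surjective H (QuotientGroup.mk'_surjective A)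
  have h2 := Subgroup.index_mul_card (H.comap (QuotientGroup.mk' A))
  have h3 := Subgroup.index_mul_card H
  have h4 := card_quotient_mul_card A
  have h5 : H.index ≠ 0 := Subgroup.index_ne_zero_of_finite
  rw [h1] at h2
  rw [← h4, ← h3, mul_assoc] at h2
  exact Nat.eq_of_mul_eq_mul_left (Nat.pos_of_ne_zero h5) h2

theorem card_quotient_lt {G : Type*} [Group G] [Finite G] (A : Subgroup G)
    (hA : 2 ≤ Nat.card A) : Nat.card (G ⧸ A) < Nat.card G := by
  have h1 := card_quotient_mul_card A
  have h3 : 0 < Nat.card (G ⧸ A) := Nat.card_pos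
  rw [← h1]
  nlinarith

end Cfsg.Agent.Lib.Helper9
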