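import Mathlib
import Cfsg.Prelude.Def_SolvableStructure

set_option autoImplicit false

namespace Cfsg.Agent.Lib.Helper9

open Subgroup

/-- Reachability of a subgroup from `⊥` by a chain of normal subgroups with cyclic steps. -/
inductive SSReach {G : Type*} [Group G] : Subgroup G → Prop
  | bot : SSReach ⊥
  | step (H : Subgroup G) (g : G) : SSReach H → (H ⊔ zpowers g).Normal → SSReach (H ⊔ zpowers g)

theorem SSReach.normal {G : Type*} [Group G] {H : Subgroup G} (h : SSReach H) : H.Normal := by
  cases h with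
  | bot => exact inferInstance
  | step H g _ hn => exact hn

theorem ssreach_of_chain {G : Type*} [Group G] (n : ℕ) (H : Fin (n + 1) → Subgroup G)
    (h0 : H 0 = ⊥) (hn : ∀ i, (H i).Normal)
    (hs : ∀ i : Fin n, ∃ g : G, H i.succ = H i.castSucc ⊔ zpowers g) :
    ∀ i : Fin (n + 1), SSReach (H i) := by
  intro i
  induction i using Fin.induction with
  | zero => rw [h0]; exact SSReach.bot
  | succ i ih =>
    obtain ⟨g, hg⟩ := hs i
    rw [hg]
    apply SSReach.step _ _ ih
    rw [← hg]
    exact hn _

theorem chain_of_ssreach {G : Type*} [Group G] {K : Subgroup G} (h : SSReach K) :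
    ∃ (n : ℕ) (H : Fin (n + 1) → Subgroup G),
      H 0 = ⊥ ∧ H (Fin.last n) = K ∧ (∀ i, (H i).Normal) ∧
        ∀ i : Fin n, ∃ g : G, H i.succ = H i.castSucc ⊔ zpowers g := by
  induction h with
  | bot =>
    refine ⟨0, fun _ => ⊥, rfl, rfl, fun _ => inferInstance, fun i => i.elim0⟩
  | step K g hK hn ih =>
    obtain ⟨n, H, h0, hl, hnorm, hstep⟩ := ih
    refine ⟨n + 1, Fin.snoc (α := fun _ => Subgroup G) H (K ⊔ zpowers g), ?_, ?_, ?_, ?_⟩
    · rw [← Fin.castSucc_zero, Fin.snoc_castSucc]; exact h0
    · rw [Fin.snoc_last]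
    · intro i
      induction i using Fin.lastCases with
      | last => rw [Fin.snoc_last]; exact hn
      | cast j => rw [Fin.snoc_castSucc]; exact hnorm j
    · intro i
      induction i using Fin.lastCases with
      | last =>
        refine ⟨g, ?_⟩
        rw [Fin.succ_last, Fin.snoc_last, Fin.snoc_castSucc, hl]
      | cast j =>
        obtain ⟨g', hg'⟩ := hstep j
        refine ⟨g', ?_⟩
        rw [← Fin.castSucc_succ, Fin.snoc_castSucc, Fin.snoc_castSucc, hg']

theorem isSupersolvable_iff {G : Type*} [Group G] :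
    Cfsg.IsSupersolvable G ↔ SSReach (⊤ : Subgroup G) := by
  constructor
  · rintro ⟨n, H, h0, hl, hn, hs⟩
    rw [← hl]
    exact ssreach_of_chain n H h0 hn hs _
  · intro h
    obtain ⟨n, H, h0, hl, hn, hs⟩ := chain_of_ssreach h
    exact ⟨n, H, h0, hl, hn, hs⟩


theorem SSReach.map' {G G' : Type*} [Group G] [Group G'] (f : G →* G')
    (hf : ∀ K : Subgroup G, K.Normal → (K.map f).Normal) {K : Subgroup G} (h : SSReach K) :
    SSReach (K.map f) := by
  induction h with
  | bot => rw [Subgroup.map_bot]; exact SSReach.bot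
  | step K g hK hn ih =>
    have : (K ⊔ zpowers g).map f = K.map f ⊔ zpowers (f g) := by
      rw [Subgroup.map_sup, MonoidHom.map_zpowers]
    rw [this]
    apply SSReach.step _ _ ih
    rw [← this]
    exact hf _ hn

theorem SSReach.map {G G' : Type*} [Group G] [Group G'] (f : G →* G')
    (hf : Function.Surjective f) {K : Subgroup G} (h : SSReach K) :
    SSReach (K.map f) :=
  h.map' f (fun _ hK => hK.map f hf)

theorem SSReach.comap {G Q : Type*} [Group G] [Group Q] (f : G →* Q)
    (hf : Function.Surjective f) (hker : SSReach f.ker) {K : Subgroup Q} (h : SSReach K) :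
    SSReach (K.comap f) := by
  induction h with
  | bot => rw [MonoidHom.comap_bot]; exact hker
  | step K q hK hn ih =>
    obtain ⟨g, rfl⟩ := hf q
    have hle : f.ker ≤ K.comap f := by
      rw [← MonoidHom.comap_bot]
      exact Subgroup.comap_mono bot_le
    have : (K ⊔ zpowers (f g)).comap f = K.comap f ⊔ zpowers g := by
      have h1 : K ⊔ zpowers (f g) = (K.comap f ⊔ zpowers g).map f := by
        rw [Subgroup.map_sup, MonoidHom.map_zpowers, Subgroup.map_comap_eq_self_of_surjective hf]
      rw [h1, Subgroup.comap_map_eq]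
      apply le_antisymm
      · exact sup_le le_rfl (hle.trans le_sup_left)
      · exact le_sup_left
    rw [this]
    apply SSReach.step _ _ ih
    rw [← this]
    exact hn.comap f

theorem SSReach.subgroupOf {G : Type*} [Group G] (L : Subgroup G) {K : Subgroup G}
    (h : SSReach K) : SSReach (K.subgroupOf L) := by
  induction h with
  | bot => rw [Subgroup.bot_subgroupOf]; exact SSReach.bot
  | step K g hK hn ih =>
    have hKn : K.Normal := hK.normal
    set π := QuotientGroup.mk' K with hπ
    set K' := K ⊔ zpowers g with hK'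
    have hM : (L ⊓ K').map π ≤ zpowers (π g) := by
      have : K'.map π = zpowers (π g) := by
        rw [hK', Subgroup.map_sup, MonoidHom.map_zpowers]
        have : K.map π = ⊥ := by
          apply (Subgroup.map_eq_bot_iff _).mpr
          rw [hπ, QuotientGroup.ker_mk' K]
        rw [this, bot_sup_eq]
      rw [← this]
      exact Subgroup.map_mono inf_le_right
    have hcyc : IsCyclic ((L ⊓ K').map π) := Subgroup.isCyclic_of_le hM
    obtain ⟨y, hy⟩ := (Subgroup.isCyclic_iff_exists_zpowers_eq_top _).mp hcyc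
    have hyM : y ∈ (L ⊓ K').map π := by rw [← hy]; exact Subgroup.mem_zpowers y
    obtain ⟨l₀, hl₀, rfl⟩ := hyM
    have key : K'.subgroupOf L = K.subgroupOf L ⊔ zpowers (⟨l₀, hl₀.1⟩ : L) := by
      apply le_antisymm
      · intro x hx
        have hx' : (x : G) ∈ L ⊓ K' := ⟨x.2, hx⟩
        have : π x ∈ zpowers (π l₀) := by rw [hy]; exact Subgroup.mem_map_of_mem _ hx'
        obtain ⟨j, hj⟩ := Subgroup.mem_zpowers_iff.mp this
        rw [← map_zpow] at hj
        have h2 : (l₀ ^ j)⁻¹ * (x : G) ∈ K := by
          have := QuotientGroup.eq.mp hj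
          simpa using this
        have h3 : x = (⟨l₀, hl₀.1⟩ : L) ^ j * ((⟨l₀, hl₀.1⟩ : L) ^ j)⁻¹ * x := by group
        rw [h3, mul_assoc]
        apply Subgroup.mul_mem _
        · exact (le_sup_right : zpowers (⟨l₀, hl₀.1⟩ : L) ≤ _) (Subgroup.zpow_mem_zpowers _ j)
        · apply (le_sup_left : K.subgroupOf L ≤ _)
          rw [Subgroup.mem_subgroupOf]
          simpa using h2
      · apply sup_le
        · intro x hx
          rw [Subgroup.mem_subgroupOf] at hx ⊢
          exact (le_sup_left : K ≤ K') hx
        · rw [Subgroup.zpowers_le, Subgroup.mem_subgroupOf]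
          exact hl₀.2
    rw [key]
    apply SSReach.step _ _ ih
    rw [← key]
    exact hn.subgroupOf L


theorem isSupersolvable_of_surjective {G G' : Type*} [Group G] [Group G'] (f : G →* G')
    (hf : Function.Surjective f) (h : Cfsg.IsSupersolvable G) : Cfsg.IsSupersolvable G' := by
  rw [isSupersolvable_iff] at *
  have := h.map f hf
  rwa [Subgroup.map_top_of_surjective f hf] at this

theorem isSupersolvable_of_mulEquiv {G G' : Type*} [Group G] [Group G'] (e : G ≃* G')
    (h : Cfsg.IsSupersolvable G) : Cfsg.IsSupersolvable G' :=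
  isSupersolvable_of_surjective e.toMonoidHom e.surjective h

theorem isSupersolvable_subgroup {G : Type*} [Group G] (L : Subgroup G)
    (h : Cfsg.IsSupersolvable G) : Cfsg.IsSupersolvable L := by
  rw [isSupersolvable_iff] at *
  have := h.subgroupOf L
  rwa [Subgroup.top_subgroupOf] at this

theorem isSupersolvable_quotient {G : Type*} [Group G] (N : Subgroup G) [N.Normal]
    (h : Cfsg.IsSupersolvable G) : Cfsg.IsSupersolvable (G ⧸ N) :=
  isSupersolvable_of_surjective (QuotientGroup.mk' N) (QuotientGroup.mk'_surjective N) h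

theorem isSupersolvable_of_ker {G Q : Type*} [Group G] [Group Q] (f : G →* Q)
    (hf : Function.Surjective f) (hker : SSReach f.ker) (h : Cfsg.IsSupersolvable Q) :
    Cfsg.IsSupersolvable G := by
  rw [isSupersolvable_iff] at h ⊢
  have := SSReach.comap f hf hker h
  rwa [Subgroup.comap_top] at this

theorem ssreach_of_isCyclic_normal {G : Type*} [Group G] (N : Subgroup G) [hN : N.Normal]
    [hc : IsCyclic N] : SSReach N := by
  obtain ⟨g, hg⟩ := (Subgroup.isCyclic_iff_exists_zpowers_eq_top N).mp hc
  have : N = ⊥ ⊔ zpowers g := by rw [bot_sup_eq, hg]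
  rw [this]
  apply SSReach.step _ _ SSReach.bot
  rw [← this]
  exact hN

theorem isSupersolvable_of_cyclic_normal_quotient {G : Type*} [Group G] (N : Subgroup G)
    [hN : N.Normal] [hc : IsCyclic N] (h : Cfsg.IsSupersolvable (G ⧸ N)) :
    Cfsg.IsSupersolvable G := by
  apply isSupersolvable_of_ker (QuotientGroup.mk' N) (QuotientGroup.mk'_surjective N) _ h
  rw [QuotientGroup.ker_mk']
  exact ssreach_of_isCyclic_normal N

theorem isSupersolvable_prod {G H : Type*} [Group G] [Group H]
    (hG : Cfsg.IsSupersolvable G) (hH : Cfsg.IsSupersolvable H) : Cfsg.IsSupersolvable (G × H) := by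
  apply isSupersolvable_of_ker (MonoidHom.snd G H) Prod.snd_surjective _ hH
  rw [MonoidHom.ker_snd]
  rw [isSupersolvable_iff] at hG
  have hmap : ∀ K : Subgroup G, K.map (MonoidHom.inl G H) = K.prod ⊥ := by
    intro K
    ext ⟨a, b⟩
    simp only [Subgroup.mem_map, MonoidHom.inl_apply, Prod.mk.injEq, Subgroup.mem_prod,
      Subgroup.mem_bot]
    constructor
    · rintro ⟨x, hx, rfl, rfl⟩
      exact ⟨hx, rfl⟩
    · rintro ⟨ha, rfl⟩
      exact ⟨a, ha, rfl, rfl⟩
  have := hG.map' (MonoidHom.inl G H) (fun K hK => by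
    rw [hmap]
    infer_instance)
  rwa [hmap] at this

theorem isSupersolvable_of_subsingleton {G : Type*} [Group G] [Subsingleton G] :
    Cfsg.IsSupersolvable G := by
  rw [isSupersolvable_iff]
  have : (⊤ : Subgroup G) = ⊥ := Subsingleton.elim _ _
  rw [this]
  exact SSReach.bot

end Cfsg.Agent.Lib.Helper9
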