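import Mathlib
import Cfsg.Agent.Lib.Helper9.Supersolvable

set_option autoImplicit false

namespace Cfsg.Agent.Lib.Helper9

theorem zpowers_zpow_normal {G : Type*} [Group G] (g : G) (h : (Subgroup.zpowers g).Normal)
    (m : ℤ) : (Subgroup.zpowers (g ^ m)).Normal := by
  constructor
  intro y hy x
  obtain ⟨j, rfl⟩ := Subgroup.mem_zpowers_iff.mp hy
  obtain ⟨k, hk⟩ := Subgroup.mem_zpowers_iff.mp (h.conj_mem g (Subgroup.mem_zpowers g) x)
  rw [Subgroup.mem_zpowers_iff]
  refine ⟨k * j, ?_⟩
  rw [← conj_zpow, ← conj_zpow, ← hk, ← zpow_mul, ← zpow_mul, ← zpow_mul]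
  congr 1
  ring

theorem zpowers_pow_normal {G : Type*} [Group G] (g : G) (h : (Subgroup.zpowers g).Normal)
    (m : ℕ) : (Subgroup.zpowers (g ^ m)).Normal := by
  have := zpowers_zpow_normal g h (m : ℤ)
  rwa [zpow_natCast] at this

theorem SSReach.exists_normal_prime_card {G : Type*} [Group G] [Finite G] {K : Subgroup G}
    (h : SSReach K) (hne : K ≠ ⊥) :
    ∃ A : Subgroup G, A ≤ K ∧ A.Normal ∧ (Nat.card A).Prime := by
  induction h with
  | bot => exact absurd rfl hne
  | step K g hK hn ih =>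
    by_cases hKb : K = ⊥
    · subst hKb
      rw [bot_sup_eq] at hn hne ⊢
      have hg : g ≠ 1 := by
        intro h1
        apply hne
        rw [h1, Subgroup.zpowers_one_eq_bot]
      have hpos : orderOf g ≠ 0 := (orderOf_pos g).ne'
      have hne1 : orderOf g ≠ 1 := by
        intro h1
        exact hg (orderOf_eq_one_iff.mp h1)
      have hp : (orderOf g).minFac.Prime := Nat.minFac_prime hne1
      have hdvd : (orderOf g).minFac ∣ orderOf g := Nat.minFac_dvd _
      refine ⟨Subgroup.zpowers (g ^ (orderOf g / (orderOf g).minFac)), ?_, ?_, ?_⟩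
      · rw [Subgroup.zpowers_le]
        exact Subgroup.pow_mem _ (Subgroup.mem_zpowers g) _
      · exact zpowers_pow_normal g hn _
      · rw [Nat.card_zpowers, orderOf_pow_orderOf_div hpos hdvd]
        exact hp
    · obtain ⟨A, hA, hAn, hAp⟩ := ih hKb
      exact ⟨A, hA.trans le_sup_left, hAn, hAp⟩

theorem exists_normal_prime_card_of_isSupersolvable {G : Type*} [Group G] [Finite G]
    [Nontrivial G] (hG : Cfsg.IsSupersolvable G) :
    ∃ A : Subgroup G, A.Normal ∧ (Nat.card A).Prime := by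
  rw [isSupersolvable_iff] at hG
  obtain ⟨A, -, hAn, hAp⟩ := hG.exists_normal_prime_card top_ne_bot
  exact ⟨A, hAn, hAp⟩

end Cfsg.Agent.Lib.Helper9
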