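import Mathlib
import Cfsg.Agent.Lib.Helper9.Supersolvable3
import Cfsg.Agent.Lib.Helper9.Basic
import Cfsg.Agent.Lib.Helper9.SylowAux

set_option autoImplicit false

namespace Cfsg.Agent.Lib.Helper9

/-- In a finite supersolvable group there is a normal subgroup whose order is the largest prime
divisor of the group order. -/
theorem exists_normal_card_eq_largest_prime : ∀ (n : ℕ) (G : Type*) [Group G] [Finite G],
    Nat.card G = n → Cfsg.IsSupersolvable G → ∀ p : ℕ, p.Prime → p ∣ Nat.card G →
    (∀ q : ℕ, q.Prime → q ∣ Nat.card G → q ≤ p) →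
    ∃ A : Subgroup G, A.Normal ∧ Nat.card A = p := by
  intro n
  induction n using Nat.strong_induction_on with
  | _ n ih =>
    intro G _ _ hcard hG p hp hpd hmax
    have hnt : Nontrivial G := by
      rw [← Finite.one_lt_card_iff_nontrivial]
      have : p ≤ Nat.card G := Nat.le_of_dvd Nat.card_pos hpd
      have := hp.two_le
      omega
    obtain ⟨B, hBn, hBp⟩ := exists_normal_prime_card_of_isSupersolvable hG
    by_cases hrp : Nat.card B = p
    · exact ⟨B, hBn, hrp⟩
    have hBd : Nat.card B ∣ Nat.card G := Subgroup.card_subgroup_dvd_card B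
    have hlt : Nat.card B < p := lt_of_le_of_ne (hmax _ hBp hBd) hrp
    have hQ : Cfsg.IsSupersolvable (G ⧸ B) := isSupersolvable_quotient B hG
    have hcardQ : Nat.card (G ⧸ B) < n := by
      rw [← hcard]; exact card_quotient_lt B hBp.two_le
    have hmul := card_quotient_mul_card B
    have hpQ : p ∣ Nat.card (G ⧸ B) := by
      rw [← hmul] at hpd
      rcases (Nat.Prime.dvd_mul hp).mp hpd with h | h
      · exact h
      · exact absurd ((Nat.prime_dvd_prime_iff_eq hp hBp).mp h).symm hrp
    have hmaxQ : ∀ q : ℕ, q.Prime → q ∣ Nat.card (G ⧸ B) → q ≤ p := by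
      intro q hq hqd
      apply hmax q hq
      rw [← hmul]
      exact Dvd.dvd.mul_right hqd _
    obtain ⟨Abar, hAn, hAcard⟩ := ih _ hcardQ (G ⧸ B) rfl hQ p hp hpQ hmaxQ
    set K := Abar.comap (QuotientGroup.mk' B) with hK
    have hKn : K.Normal := hAn.comap _
    have hKcard : Nat.card K = p * Nat.card B := by
      rw [hK, card_comap_mk', hAcard]
    obtain ⟨A, -, hA, hAc⟩ := exists_normal_card_eq_of_card_eq_mul hp hBp hlt K hKcard
    exact ⟨A, hA, hAc⟩

theorem exists_largest_prime_factor {n : ℕ} (hn : 1 < n) :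
    ∃ p : ℕ, p.Prime ∧ p ∣ n ∧ ∀ q : ℕ, q.Prime → q ∣ n → q ≤ p := by
  have hne : n.primeFactors.Nonempty := Nat.nonempty_primeFactors.mpr hn
  refine ⟨n.primeFactors.max' hne, ?_, ?_, ?_⟩
  · exact Nat.prime_of_mem_primeFactors (Finset.max'_mem _ hne)
  · exact Nat.dvd_of_mem_primeFactors (Finset.max'_mem _ hne)
  · intro q hq hqd
    apply Finset.le_max'
    exact Nat.mem_primeFactors.mpr ⟨hq, hqd, by omega⟩

end Cfsg.Agent.Lib.Helper9
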