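import Mathlib
import Cfsg.Agent.Lib.Helper9.Supersolvable3
import Cfsg.Agent.Lib.Helper9.Basic

set_option autoImplicit false

namespace Cfsg.Agent.Lib.Helper9

/-- A nontrivial cyclic normal subgroup contains a normal subgroup of prime order. -/
theorem exists_normal_prime_card_le_of_isCyclic {G : Type*} [Group G] [Finite G]
    (C : Subgroup G) [hCn : C.Normal] (hC : IsCyclic C) (hne : C ≠ ⊥) :
    ∃ A : Subgroup G, A ≤ C ∧ A.Normal ∧ (Nat.card A).Prime := by
  obtain ⟨g, hg⟩ := (Subgroup.isCyclic_iff_exists_zpowers_eq_top C).mp hC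
  subst hg
  have hg : g ≠ 1 := by
    intro h1
    apply hne
    rw [h1, Subgroup.zpowers_one_eq_bot]
  have hpos : orderOf g ≠ 0 := (orderOf_pos g).ne'
  have hne1 : orderOf g ≠ 1 := by
    intro h1
    exact hg (orderOf_eq_one_iff.mp h1)
  have hp : (orderOf g).minFac.Prime := Nat.minFac_prime hne1
  have hdvd : (orderOf g).minFac ∣ orderOf g := Nat.minFac_dvd _
  refine ⟨Subgroup.zpowers (g ^ (orderOf g / (orderOf g).minFac)), ?_, ?_, ?_⟩
  · rw [Subgroup.zpowers_le]
    exact Subgroup.pow_mem _ (Subgroup.mem_zpowers g) _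
  · exact zpowers_pow_normal g hCn _
  · rw [Nat.card_zpowers, orderOf_pow_orderOf_div hpos hdvd]
    exact hp

/-- In a finite supersolvable group, every nontrivial normal subgroup contains a normal subgroup
of prime order. -/
theorem SSReach.exists_normal_prime_card_le {G : Type*} [Group G] [Finite G] {K : Subgroup G}
    (h : SSReach K) (N : Subgroup G) [hN : N.Normal] (hne : N ⊓ K ≠ ⊥) :
    ∃ A : Subgroup G, A ≤ N ∧ A.Normal ∧ (Nat.card A).Prime := by
  induction h with
  | bot => rw [inf_bot_eq] at hne; exact absurd rfl hne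
  | step K g hK hn ih =>
    by_cases hKb : N ⊓ K = ⊥
    · have hKn : K.Normal := hK.normal
      set π := QuotientGroup.mk' K with hπ
      set K' := K ⊔ Subgroup.zpowers g with hK'
      have hM : (N ⊓ K').map π ≤ Subgroup.zpowers (π g) := by
        have : K'.map π = Subgroup.zpowers (π g) := by
          rw [hK', Subgroup.map_sup, MonoidHom.map_zpowers]
          have : K.map π = ⊥ := by
            apply (Subgroup.map_eq_bot_iff _).mpr
            rw [hπ, QuotientGroup.ker_mk' K]
          rw [this, bot_sup_eq]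
        rw [← this]
        exact Subgroup.map_mono inf_le_right
      have hcyc : IsCyclic ((N ⊓ K').map π) := Subgroup.isCyclic_of_le hM
      have hinj : Function.Injective (π.subgroupMap (N ⊓ K')) := by
        rw [injective_iff_map_eq_one]
        intro x hx
        have h1 : π (x : G) = 1 := by
          have := congrArg Subtype.val hx
          simpa using this
        have h2 : (x : G) ∈ K := by
          rw [hπ] at h1
          exact (QuotientGroup.eq_one_iff _).mp h1
        have h3 : (x : G) ∈ N ⊓ K := ⟨x.2.1, h2⟩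
        rw [hKb, Subgroup.mem_bot] at h3
        exact Subtype.ext h3
      have hcyc' : IsCyclic (N ⊓ K' : Subgroup G) := isCyclic_of_injective _ hinj
      have hnorm : (N ⊓ K').Normal := Subgroup.normal_inf_normal N K'
      obtain ⟨A, hA, hAn, hAp⟩ := exists_normal_prime_card_le_of_isCyclic (N ⊓ K') hcyc' hne
      exact ⟨A, hA.trans inf_le_left, hAn, hAp⟩
    · exact ih hKb

theorem exists_normal_prime_card_le_of_isSupersolvable {G : Type*} [Group G] [Finite G]
    (hG : Cfsg.IsSupersolvable G) (N : Subgroup G) [hN : N.Normal] (hne : N ≠ ⊥) :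
    ∃ A : Subgroup G, A ≤ N ∧ A.Normal ∧ (Nat.card A).Prime := by
  rw [isSupersolvable_iff] at hG
  exact hG.exists_normal_prime_card_le N (by rwa [inf_top_eq])

/-- Existence of a minimal normal subgroup below a nontrivial normal subgroup. -/
theorem exists_minimal_normal_le {G : Type*} [Group G] [Finite G] (P : Subgroup G)
    [hP : P.Normal] (hne : P ≠ ⊥) :
    ∃ N : Subgroup G, N.Normal ∧ N ≠ ⊥ ∧ N ≤ P ∧
      ∀ N' : Subgroup G, N'.Normal → N' ≠ ⊥ → N' ≤ N → N' = N := by
  classical
  let S : Set (Subgroup G) := {N | N.Normal ∧ N ≠ ⊥ ∧ N ≤ P}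
  have hS : S.Nonempty := ⟨P, hP, hne, le_rfl⟩
  obtain ⟨N, hNS, hmin⟩ := S.toFinite.exists_minimal hS
  refine ⟨N, hNS.1, hNS.2.1, hNS.2.2, ?_⟩
  intro N' hN'n hN'ne hle
  exact le_antisymm hle (hmin ⟨hN'n, hN'ne, hle.trans hNS.2.2⟩ hle)

/-- A normal `p`-subgroup centralizes every minimal normal subgroup it contains. -/
theorem le_centralizer_of_minimal_normal {G : Type*} [Group G] [Finite G] (p : ℕ)
    [hp : Fact p.Prime] (P : Subgroup G) [hP : P.Normal] (hPp : IsPGroup p P)
    (N : Subgroup G) [hN : N.Normal] (hne : N ≠ ⊥) (hle : N ≤ P)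
    (hmin : ∀ N' : Subgroup G, N'.Normal → N' ≠ ⊥ → N' ≤ N → N' = N) :
    P ≤ Subgroup.centralizer (N : Set G) := by
  -- the action of P on N by conjugation
  let φ : P →* MulAut N := (MulAut.conjNormal (H := N)).comp P.subtype
  let _ : MulAction P N := MulAction.compHom N φ
  have hsmul : ∀ (x : P) (n : N), ((x • n : N) : G) = (x : G) * n * (x : G)⁻¹ := by
    intro x n
    rfl
  have hNp : IsPGroup p N := hPp.to_le hle
  have hNnt : Nontrivial N := (Subgroup.nontrivial_iff_ne_bot N).mpr hne
  have hdvd : p ∣ Nat.card N := by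
    obtain ⟨k, hk⟩ := hNp.exists_card_eq
    rw [hk]
    have : k ≠ 0 := by
      rintro rfl
      rw [pow_zero] at hk
      have := Finite.one_lt_card_iff_nontrivial.mpr hNnt
      omega
    exact dvd_pow_self p this
  have h1 : (1 : N) ∈ MulAction.fixedPoints P N := by
    intro x
    apply Subtype.ext
    rw [hsmul]
    simp
  obtain ⟨b, hb, hb1⟩ := hPp.exists_fixed_point_of_prime_dvd_card_of_fixed_point N hdvd h1
  -- C = N ⊓ centralizer P is normal and nontrivial
  have hCn : (Subgroup.centralizer (P : Set G)).Normal := inferInstance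
  have hC : (N ⊓ Subgroup.centralizer (P : Set G)).Normal := Subgroup.normal_inf_normal _ _
  have hbC : (b : G) ∈ N ⊓ Subgroup.centralizer (P : Set G) := by
    refine ⟨b.2, ?_⟩
    show (b : G) ∈ Subgroup.centralizer (P : Set G)
    rw [Subgroup.mem_centralizer_iff]
    intro x hx
    have := congrArg Subtype.val (hb ⟨x, hx⟩)
    rw [hsmul] at this
    simp only at this
    calc x * (b : G) = (x * (b : G) * x⁻¹) * x := by group
      _ = (b : G) * x := by rw [this]
  have hCne : N ⊓ Subgroup.centralizer (P : Set G) ≠ ⊥ := by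
    intro h
    rw [h, Subgroup.mem_bot] at hbC
    exact hb1 (Subtype.ext hbC.symm)
  have := hmin _ hC hCne inf_le_left
  intro x hx
  rw [Subgroup.mem_centralizer_iff]
  intro n hn
  have hn' : n ∈ N ⊓ Subgroup.centralizer (P : Set G) := by rw [this]; exact hn
  exact ((Subgroup.mem_centralizer_iff.mp hn'.2) x hx).symm

end Cfsg.Agent.Lib.Helper9
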