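import Mathlib
import Cfsg.Agent.Lib.Helper9.Supersolvable6
import Cfsg.Agent.Lib.Helper9.SubnormalSylow

set_option autoImplicit false

namespace Cfsg.Agent.Lib.Helper9

theorem eq_top_of_index_prime_of_lt {G : Type*} [Group G] [Finite G] (M L : Subgroup G)
    (hp : M.index.Prime) (hle : M ≤ L) (hne : ¬ L ≤ M) : L = ⊤ := by
  have h1 := Subgroup.relIndex_mul_index hle
  have h2 : L.index ∣ M.index := Dvd.intro_left _ h1
  rcases (Nat.dvd_prime hp).mp h2 with h | h
  · exact Subgroup.index_eq_one.mp h
  · exfalso
    rw [h] at h1
    have : M.relIndex L = 1 := by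
      have hpos : 0 < M.index := hp.pos
      nlinarith
    exact hne (Subgroup.relIndex_eq_one.mp this)

/-- Key extension lemma: a group with a normal `p`-subgroup `P`, supersolvable quotient `G/P`
and a supersolvable subgroup `M` of index `p` supplementing `P` is supersolvable. -/
theorem isSupersolvable_of_index_prime_supplement (p : ℕ) [hp : Fact p.Prime] :
    ∀ (n : ℕ) (G : Type*) [Group G] [Finite G], Nat.card G = n →
    ∀ (P : Subgroup G) [P.Normal], IsPGroup p P → Cfsg.IsSupersolvable (G ⧸ P) →
    ∀ M : Subgroup G, Cfsg.IsSupersolvable M → M.index = p → M ⊔ P = ⊤ →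
    Cfsg.IsSupersolvable G := by
  intro n
  induction n using Nat.strong_induction_on with
  | _ n ih =>
    intro G _ _ hcard P hPn hPp hQ M hM hMi hMP
    by_cases hPb : P = ⊥
    · subst hPb
      have : IsCyclic (⊥ : Subgroup G) := inferInstance
      exact isSupersolvable_of_cyclic_normal_quotient ⊥ hQ
    obtain ⟨N, hNn, hNne, hNle, hNmin⟩ := exists_minimal_normal_le P hPb
    have hcent := le_centralizer_of_minimal_normal p P hPp N hNne hNle hNmin
    have key : ∀ A : Subgroup G, A ≤ N → M ≤ Subgroup.normalizer (A : Set G) → A.Normal := by
      intro A hA hMA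
      have h1 : P ≤ Subgroup.normalizer (A : Set G) :=
        hcent.trans ((Subgroup.centralizer_le (by exact_mod_cast hA)).trans
          (Subgroup.centralizer_le_normalizer _))
      rw [← Subgroup.normalizer_eq_top_iff, eq_top_iff, ← hMP]
      exact sup_le hMA h1
    have hfin : ∀ (hcyc : IsCyclic N), Cfsg.IsSupersolvable (G ⧸ N) → Cfsg.IsSupersolvable G := by
      intro hcyc h
      exact isSupersolvable_of_cyclic_normal_quotient N h
    by_cases hNM : N ≤ M
    · -- case 1
      have hN'ne : N.subgroupOf M ≠ ⊥ := by
        intro h
        rw [Subgroup.subgroupOf_eq_bot, disjoint_iff, inf_eq_left.mpr hNM] at h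
        exact hNne h
      obtain ⟨A, hA, hAn, hAp⟩ :=
        exists_normal_prime_card_le_of_isSupersolvable hM (N.subgroupOf M) hN'ne
      have hA'le : A.map M.subtype ≤ N := by
        rintro _ ⟨a, ha, rfl⟩
        exact hA ha
      have hA'M : A.map M.subtype ≤ M := by
        rintro _ ⟨a, ha, rfl⟩
        exact a.2
      have hA'card : Nat.card (A.map M.subtype) = Nat.card A :=
        Subgroup.card_map_of_injective M.subtype_injective
      have hA'n : (A.map M.subtype).Normal := by
        apply key _ hA'le
        rw [← Subgroup.normal_subgroupOf_iff_le_normalizer hA'M]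
        have : (A.map M.subtype).subgroupOf M = A :=
          Subgroup.comap_map_eq_self_of_injective M.subtype_injective A
        rw [this]
        exact hAn
      have hA'ne : A.map M.subtype ≠ ⊥ := by
        intro h
        rw [h, Subgroup.card_bot] at hA'card
        rw [← hA'card] at hAp
        exact Nat.not_prime_one hAp
      have hNA := hNmin _ hA'n hA'ne hA'le
      have hNp : (Nat.card N).Prime := by rw [← hNA, hA'card]; exact hAp
      have : Fact (Nat.card N).Prime := ⟨hNp⟩
      have hcyc : IsCyclic N := isCyclic_of_prime_card rfl
      apply hfin hcyc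
      set π := QuotientGroup.mk' N with hπ
      have hπs : Function.Surjective π := QuotientGroup.mk'_surjective N
      have hlt : Nat.card (G ⧸ N) < n := by
        rw [← hcard]; exact card_quotient_lt N hNp.two_le
      have hPn' : (P.map π).Normal := hPn.map π hπs
      refine ih _ hlt (G ⧸ N) rfl (P.map π) (hPp.map π) ?_ (M.map π) ?_ ?_ ?_
      · -- quotient
        let f : G ⧸ P →* (G ⧸ N) ⧸ P.map π :=
          QuotientGroup.map P (P.map π) π (Subgroup.le_comap_map π P)
        have hf : Function.Surjective f := by
          intro y
          induction y using QuotientGroup.induction_on with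
          | H z =>
            obtain ⟨g, rfl⟩ := hπs z
            exact ⟨(g : G ⧸ P), rfl⟩
        exact isSupersolvable_of_surjective f hf hQ
      · exact isSupersolvable_of_surjective (π.subgroupMap M) (π.subgroupMap_surjective M) hM
      · rw [Subgroup.index_map_eq M hπs (by rw [hπ, QuotientGroup.ker_mk']; exact hNM), hMi]
      · rw [← Subgroup.map_sup, hMP, Subgroup.map_top_of_surjective π hπs]
    · -- case 2
      have hMNn : (M ⊓ N).Normal := by
        apply key _ inf_le_right
        intro m hm
        rw [Subgroup.mem_normalizer_iff]
        intro a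
        constructor
        · intro ha
          exact ⟨M.mul_mem (M.mul_mem hm ha.1) (M.inv_mem hm), hNn.conj_mem a ha.2 m⟩
        · intro ha
          constructor
          · have h1 := (Subgroup.mul_mem_cancel_right M (M.inv_mem hm)).mp ha.1
            exact (Subgroup.mul_mem_cancel_left M hm).mp h1
          · have := hNn.conj_mem _ ha.2 m⁻¹
            simpa [mul_assoc] using this
      have hMNb : M ⊓ N = ⊥ := by
        by_contra h
        have := hNmin _ hMNn h inf_le_right
        exact hNM (inf_eq_right.mp this)
      have hpM : M.index.Prime := by rw [hMi]; exact hp.out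
      have hMNt : M ⊔ N = ⊤ :=
        eq_top_of_index_prime_of_lt M (M ⊔ N) hpM le_sup_left
          (fun h => hNM (le_sup_right.trans h))
      have hNcard : Nat.card N = p := by
        have h1 := relIndex_sup_eq_of_normal M N
        rw [hMNt, Subgroup.relIndex_top_right, hMi] at h1
        have h2 := relIndex_mul_card_inf M N
        rw [hMNb, Subgroup.card_bot, mul_one, ← h1] at h2
        exact h2.symm
      have : Fact (Nat.card N).Prime := ⟨by rw [hNcard]; exact hp.out⟩
      have hcyc : IsCyclic N := isCyclic_of_prime_card rfl
      apply hfin hcyc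
      let f : M →* G ⧸ N := (QuotientGroup.mk' N).comp M.subtype
      have hf : Function.Surjective f := by
        intro y
        obtain ⟨g, rfl⟩ := QuotientGroup.mk'_surjective N y
        have hg : g ∈ M ⊔ N := by rw [hMNt]; exact Subgroup.mem_top g
        rw [Subgroup.mem_sup_of_normal_right] at hg
        obtain ⟨m, hm, x, hx, rfl⟩ := hg
        refine ⟨⟨m, hm⟩, ?_⟩
        show ((m : G) : G ⧸ N) = ((m * x : G) : G ⧸ N)
        rw [QuotientGroup.eq]
        simpa using hx
      exact isSupersolvable_of_surjective f hf hM

end Cfsg.Agent.Lib.Helper9
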