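import Mathlib
import Cfsg.Agent.Lib.Helper9.Supersolvable7
import Cfsg.Agent.Lib.Helper9.Supersolvable4
import Cfsg.Agent.Lib.Helper9.CLT

set_option autoImplicit false

namespace Cfsg.Agent.Lib.Helper9

theorem isSupersolvable_quotient_of_sup_eq_top {G : Type*} [Group G] (M N : Subgroup G)
    [hNn : N.Normal] (h : M ⊔ N = ⊤) (hM : Cfsg.IsSupersolvable M) :
    Cfsg.IsSupersolvable (G ⧸ N) := by
  let f : M →* G ⧸ N := (QuotientGroup.mk' N).comp M.subtype
  have hf : Function.Surjective f := by
    intro y
    obtain ⟨g, rfl⟩ := QuotientGroup.mk'_surjective N y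
    have hg : g ∈ M ⊔ N := by rw [h]; exact Subgroup.mem_top g
    rw [Subgroup.mem_sup_of_normal_right] at hg
    obtain ⟨m, hm, x, hx, rfl⟩ := hg
    refine ⟨⟨m, hm⟩, ?_⟩
    show ((m : G) : G ⧸ N) = ((m * x : G) : G ⧸ N)
    rw [QuotientGroup.eq]
    simpa using hx
  exact isSupersolvable_of_surjective f hf hM

/-- A finite group all of whose subgroups satisfy the converse of Lagrange's theorem is
supersolvable. -/
theorem isSupersolvable_of_hereditary_clt : ∀ (n : ℕ) (G : Type*) [Group G] [Finite G],
    Nat.card G = n → (∀ H : Subgroup G, Cfsg.HasSubgroupOfEveryOrder H) →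
    Cfsg.IsSupersolvable G := by
  intro n
  induction n using Nat.strong_induction_on with
  | _ n ih =>
    intro G _ _ hcard h
    by_cases h1 : Nat.card G ≤ 1
    · have : Subsingleton G := Finite.card_le_one_iff_subsingleton.mp h1
      exact isSupersolvable_of_subsingleton
    have h1' : 1 < Nat.card G := by omega
    obtain ⟨p, hp, hpd, hmax⟩ := exists_largest_prime_factor h1'
    have hfact : Fact p.Prime := ⟨hp⟩
    let P : Sylow p G := default
    have hPn : (P : Subgroup G).Normal := sylow_normal_of_hereditary_clt _ G rfl h p hp hpd hmax P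
    have hprop : ∀ L : Subgroup G, L.index ≠ 1 → Cfsg.IsSupersolvable L := by
      intro L hL
      have hlt : Nat.card L < n := by
        rw [← hcard, ← Subgroup.card_mul_index L]
        have : 0 < L.index := Nat.pos_of_ne_zero (Subgroup.index_ne_zero_of_finite)
        have : 0 < Nat.card L := Nat.card_pos
        have : 2 ≤ L.index := by omega
        nlinarith
      exact ih _ hlt L rfl (hereditary_clt_subgroup h L)
    -- the quotient G/P
    obtain ⟨K, hK⟩ := Subgroup.exists_left_complement'_of_coprime (N := (P : Subgroup G))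
      P.card_coprime_index
    have hPne : (P : Subgroup G) ≠ ⊥ := P.ne_bot_of_dvd_card hpd
    have hKi : K.index ≠ 1 := by
      intro hK1
      rw [Subgroup.index_eq_one] at hK1
      have := hK.disjoint
      rw [hK1, disjoint_iff, top_inf_eq] at this
      exact hPne this
    have hKs : Cfsg.IsSupersolvable K := hprop K hKi
    have hQ : Cfsg.IsSupersolvable (G ⧸ (P : Subgroup G)) :=
      isSupersolvable_quotient_of_sup_eq_top K P hK.sup_eq_top hKs
    -- subgroup of index p
    have hG : Cfsg.HasSubgroupOfEveryOrder G := hasSubgroupOfEveryOrder_of_top (h ⊤)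
    obtain ⟨M, hMc⟩ := hG (Nat.card G / p) (Nat.div_dvd_of_dvd hpd)
    have hMi : M.index = p := by
      have h2 := Subgroup.card_mul_index M
      rw [hMc] at h2
      have h3 : Nat.card G / p * p = Nat.card G := Nat.div_mul_cancel hpd
      have hpos : 0 < Nat.card G / p := Nat.div_pos (Nat.le_of_dvd Nat.card_pos hpd) hp.pos
      exact Nat.eq_of_mul_eq_mul_left hpos (h2.trans h3.symm)
    have hMs : Cfsg.IsSupersolvable M := hprop M (by rw [hMi]; exact hp.one_lt.ne')
    have hMP : M ⊔ (P : Subgroup G) = ⊤ := by
      apply eq_top_of_index_prime_of_lt M _ (by rw [hMi]; exact hp) le_sup_left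
      intro hle
      have hPM : (P : Subgroup G) ≤ M := le_sup_right.trans hle
      have := Subgroup.index_dvd_of_le hPM
      rw [hMi] at this
      exact P.not_dvd_index this
    exact isSupersolvable_of_index_prime_supplement p _ G rfl P P.isPGroup' hQ M hMs hMi hMP

end Cfsg.Agent.Lib.Helper9
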