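import Mathlib
import Cfsg.Agent.Lib.Helper9.Supersolvable8
import Cfsg.Agent.Lib.Helper9.PrimitiveSolvable
import Cfsg.Agent.S0580
import Cfsg.Agent.S4381

set_option autoImplicit false

namespace Cfsg.Agent.Lib.Helper9

open scoped commutatorElement

/-- The prime-index property of maximal subgroups passes to quotients. -/
theorem coatom_index_prime_quotient {G : Type*} [Group G]
    (h : ∀ M : Subgroup G, IsCoatom M → M.index.Prime) (N : Subgroup G) [N.Normal] :
    ∀ M : Subgroup (G ⧸ N), IsCoatom M → M.index.Prime := by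
  intro M hM
  have h1 := Subgroup.isCoatom_comap_of_surjective (QuotientGroup.mk'_surjective N) hM
  have h2 := Subgroup.index_comap_of_surjective M (QuotientGroup.mk'_surjective N)
  rw [← h2]
  exact h _ h1

/-- A minimal normal abelian subgroup not contained in a maximal subgroup of prime index is
cyclic. -/
theorem isCyclic_of_not_le_coatom {G : Type*} [Group G] [Finite G] (N : Subgroup G)
    [hN : N.Normal] (hcomm : ∀ x ∈ N, ∀ y ∈ N, x * y = y * x)
    (hmin : ∀ N' : Subgroup G, N'.Normal → N' ≠ ⊥ → N' ≤ N → N' = N)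
    (M : Subgroup G) (hM : IsCoatom M) (hMi : M.index.Prime) (hNM : ¬ N ≤ M) :
    IsCyclic N := by
  have hsup : M ⊔ N = ⊤ := by
    by_contra hne
    have hlt : M < M ⊔ N := by
      refine lt_of_le_of_ne le_sup_left ?_
      intro heq
      apply hNM
      rw [heq]
      exact le_sup_right
    exact hne (hM.2 _ hlt)
  have hnorm : (M ⊓ N).Normal := by
    rw [← Subgroup.normalizer_eq_top_iff, eq_top_iff, ← hsup]
    apply sup_le
    · intro m hm
      rw [Subgroup.mem_normalizer_iff]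
      intro x
      constructor
      · rintro ⟨h1, h2⟩
        exact ⟨M.mul_mem (M.mul_mem hm h1) (M.inv_mem hm), hN.conj_mem x h2 m⟩
      · rintro ⟨h1, h2⟩
        refine ⟨?_, ?_⟩
        · have := M.mul_mem (M.mul_mem (M.inv_mem hm) h1) hm
          simpa [mul_assoc] using this
        · have := hN.conj_mem _ h2 m⁻¹
          simpa [mul_assoc] using this
    · intro n hn
      rw [Subgroup.mem_normalizer_iff]
      intro x
      constructor
      · rintro ⟨h1, h2⟩
        have : n * x * n⁻¹ = x := by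
          rw [hcomm n hn x h2, mul_assoc, mul_inv_cancel, mul_one]
        rw [this]
        exact ⟨h1, h2⟩
      · rintro ⟨h1, h2⟩
        have hx : x ∈ N := by
          have := hN.conj_mem _ h2 n⁻¹
          simpa [mul_assoc] using this
        have : n * x * n⁻¹ = x := by
          rw [hcomm n hn x hx, mul_assoc, mul_inv_cancel, mul_one]
        rw [this] at h1
        exact ⟨h1, hx⟩
  have hbot : M ⊓ N = ⊥ := by
    by_contra hne
    have := hmin _ hnorm hne inf_le_right
    apply hNM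
    rw [← this]
    exact inf_le_left
  have hcompl : N.IsComplement' M := by
    apply Subgroup.isComplement'_of_disjoint_and_mul_eq_univ
    · rw [disjoint_iff, inf_comm]
      exact hbot
    · rw [← Subgroup.normal_mul, sup_comm, hsup]
      rfl
  have hcard : Nat.card N = M.index := hcompl.index_eq_card.symm
  have : Fact (M.index).Prime := ⟨hMi⟩
  exact isCyclic_of_prime_card hcard

/-- A minimal normal abelian `p`-subgroup has exponent `p`. -/
theorem pow_eq_one_of_minimal_normal {G : Type*} [Group G] [Finite G] (p : ℕ)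
    [hp : Fact p.Prime] (N : Subgroup G)
    [hN : N.Normal] (hcomm : ∀ x ∈ N, ∀ y ∈ N, x * y = y * x)
    (hmin : ∀ N' : Subgroup G, N'.Normal → N' ≠ ⊥ → N' ≤ N → N' = N)
    (hpd : p ∣ Nat.card N) :
    ∀ x ∈ N, x ^ p = 1 := by
  let Ω : Subgroup G :=
    { carrier := {x | x ∈ N ∧ x ^ p = 1}
      mul_mem' := by
        rintro a b ⟨ha, ha'⟩ ⟨hb, hb'⟩
        refine ⟨N.mul_mem ha hb, ?_⟩
        have hc : Commute a b := hcomm a ha b hb
        rw [hc.mul_pow, ha', hb', one_mul]
      one_mem' := ⟨N.one_mem, one_pow _⟩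
      inv_mem' := by
        rintro a ⟨ha, ha'⟩
        exact ⟨N.inv_mem ha, by rw [inv_pow, ha', inv_one]⟩ }
  have hΩn : Ω.Normal := by
    constructor
    rintro x ⟨hx, hx'⟩ g
    refine ⟨hN.conj_mem x hx g, ?_⟩
    rw [conj_pow, hx', mul_one, mul_inv_cancel]
  have hΩle : Ω ≤ N := fun x hx => hx.1
  have hΩne : Ω ≠ ⊥ := by
    have := Fintype.ofFinite N
    obtain ⟨x, hx⟩ := exists_prime_orderOf_dvd_card (G := N) p (by
      rw [← Nat.card_eq_fintype_card]; exact hpd)
    intro hbot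
    have hmem : (x : G) ∈ Ω := by
      refine ⟨x.2, ?_⟩
      have : x ^ p = 1 := by rw [← hx]; exact pow_orderOf_eq_one x
      have h2 := congrArg (fun y : N => (y : G)) this
      simpa using h2
    rw [hbot, Subgroup.mem_bot] at hmem
    have hx1 : x = 1 := by
      ext
      simpa using hmem
    rw [hx1, orderOf_one] at hx
    exact hp.out.one_lt.ne hx
  have heq := hmin Ω hΩn hΩne hΩle
  intro x hx
  have : x ∈ Ω := by rw [heq]; exact hx
  exact this.2

/-- Structure of the preimage of a subgroup of prime order in a quotient. -/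
theorem exists_zpow_mul_of_prime_card {G : Type*} [Group G] (A : Subgroup G) [A.Normal]
    (B : Subgroup (G ⧸ A)) (hB : (Nat.card B).Prime) (b₀ : G)
    (hb₀ : (QuotientGroup.mk' A) b₀ ∈ B) (hb₀A : b₀ ∉ A) :
    ∀ x : G, (QuotientGroup.mk' A) x ∈ B → ∃ i : ℤ, ∃ a ∈ A, x = b₀ ^ i * a := by
  intro x hx
  have : Fact (Nat.card B).Prime := ⟨hB⟩
  have hne : (⟨_, hb₀⟩ : B) ≠ 1 := by
    intro h1
    apply hb₀A
    have h2 := congrArg (fun y : B => (y : G ⧸ A)) h1
    simp only [QuotientGroup.mk'_apply, OneMemClass.coe_one] at h2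
    exact (QuotientGroup.eq_one_iff b₀).mp h2
  have htop := zpowers_eq_top_of_prime_card (G := B) rfl hne
  have hmem : (⟨_, hx⟩ : B) ∈ Subgroup.zpowers (⟨_, hb₀⟩ : B) := by
    rw [htop]; trivial
  obtain ⟨i, hi⟩ := Subgroup.mem_zpowers_iff.mp hmem
  have h2 := congrArg (fun y : B => (y : G ⧸ A)) hi
  simp only [Subgroup.coe_zpow] at h2
  refine ⟨i, (b₀ ^ i)⁻¹ * x, ?_, by group⟩
  have h3 : (QuotientGroup.mk' A) ((b₀ ^ i)⁻¹ * x) = 1 := by
    rw [map_mul, map_inv, map_zpow, h2, inv_mul_cancel]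
  exact (QuotientGroup.eq_one_iff _).mp h3

/-- Case (i): some `p`-th power in `L` is nontrivial. -/
theorem isCyclic_of_pow_ne_one {G : Type*} [Group G] [Finite G] (p : ℕ)
    (N L : Subgroup G) [hN : N.Normal] [hL : L.Normal] (hNL : N ≤ L)
    (hLcomm : ∀ x ∈ L, ∀ y ∈ L, x * y = y * x)
    (hmin : ∀ N' : Subgroup G, N'.Normal → N' ≠ ⊥ → N' ≤ N → N' = N)
    (hNp : ∀ n ∈ N, n ^ p = 1)
    (ℓ : G) (hℓ : ℓ ∈ L) (hℓp : ℓ ^ p ∈ N)
    (hstruct : ∀ x ∈ L, ∃ i : ℤ, ∃ n ∈ N, x = ℓ ^ i * n)
    (hex : ∃ x ∈ L, x ^ p ≠ 1) : IsCyclic N := by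
  let Lp : Subgroup G :=
    { carrier := {y | ∃ x ∈ L, x ^ p = y}
      mul_mem' := by
        rintro _ _ ⟨a, ha, rfl⟩ ⟨b, hb, rfl⟩
        refine ⟨a * b, L.mul_mem ha hb, ?_⟩
        have hc : Commute a b := hLcomm a ha b hb
        rw [hc.mul_pow]
      one_mem' := ⟨1, L.one_mem, one_pow _⟩
      inv_mem' := by
        rintro _ ⟨a, ha, rfl⟩
        exact ⟨a⁻¹, L.inv_mem ha, inv_pow _ _⟩ }
  have hLpn : Lp.Normal := by
    constructor
    rintro _ ⟨x, hx, rfl⟩ g
    exact ⟨g * x * g⁻¹, hL.conj_mem x hx g, conj_pow⟩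
  have hLpz : Lp ≤ Subgroup.zpowers (ℓ ^ p) := by
    rintro _ ⟨x, hx, rfl⟩
    obtain ⟨i, n, hn, rfl⟩ := hstruct x hx
    have hc : Commute (ℓ ^ i) n := hLcomm _ (L.zpow_mem hℓ i) n (hNL hn)
    rw [hc.mul_pow, hNp n hn, mul_one]
    have : (ℓ ^ i) ^ p = (ℓ ^ p) ^ i := by
      rw [← zpow_natCast, ← zpow_natCast, ← zpow_mul, ← zpow_mul, mul_comm]
    rw [this]
    exact Subgroup.zpow_mem_zpowers _ i
  have hLpN : Lp ≤ N := by
    intro y hy
    obtain ⟨i, hi⟩ := Subgroup.mem_zpowers_iff.mp (hLpz hy)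
    rw [← hi]
    exact N.zpow_mem hℓp i
  have hLpne : Lp ≠ ⊥ := by
    obtain ⟨x, hx, hxp⟩ := hex
    intro hbot
    have hmem : x ^ p ∈ Lp := ⟨x, hx, rfl⟩
    rw [hbot, Subgroup.mem_bot] at hmem
    exact hxp hmem
  have heq := hmin Lp hLpn hLpne hLpN
  rw [heq] at hLpz
  exact Subgroup.isCyclic_of_le hLpz

open scoped IsMulCommutative in
/-- Case (ii-a): `L` elementary abelian and centralized by `P`. -/
theorem exists_normal_card_eq_of_le_centralizer {G : Type*} [Group G] [Finite G] (p : ℕ)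
    [hp : Fact p.Prime]
    (N L P H : Subgroup G) [hN : N.Normal] [hL : L.Normal]
    (hNL : N ≤ L)
    (hLcomm : ∀ x ∈ L, ∀ y ∈ L, x * y = y * x)
    (hLp : ∀ x ∈ L, x ^ p = 1)
    (hcard : Nat.card L = p * Nat.card N)
    (hcop : (Nat.card H).Coprime (Nat.card L))
    (hPL : P ≤ Subgroup.centralizer (L : Set G))
    (hPH : P ⊔ H = ⊤) :
    ∃ W : Subgroup G, W.Normal ∧ Nat.card W = p := by
  have : IsMulCommutative L :=
    Subgroup.le_centralizer_iff_isMulCommutative.mp (fun x hx y hy => hLcomm y hy x hx)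
  have hnorm : ∀ a : H, (a : G) ∈ Subgroup.normalizer (L : Set G) := fun a => by
    rw [Subgroup.normalizer_eq_top_iff.mpr hL]; trivial
  let φ : H → (↥L →* ↥L) := fun a => Cfsg.Agent.S0660.conjHom L a (hnorm a)
  have hφ1 : ∀ v, φ 1 v = v := by
    intro v; ext; simp [φ, Cfsg.Agent.S0660.conjHom_coe]
  have hφmul : ∀ a b v, φ (a * b) v = φ a (φ b v) := by
    intro a b v; ext; simp [φ, Cfsg.Agent.S0660.conjHom_coe, mul_assoc]
  have hexp : ∀ x : L, x ^ p = 1 := fun x => Subtype.ext (by simpa using hLp x x.2)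
  have hU : ∀ a, ∀ u ∈ N.subgroupOf L, φ a u ∈ N.subgroupOf L := by
    intro a u hu
    rw [Subgroup.mem_subgroupOf] at hu ⊢
    rw [Cfsg.Agent.S0660.conjHom_coe]
    exact hN.conj_mem _ hu _
  obtain ⟨W', hW1, hW2, hW3⟩ :=
    Cfsg.Agent.S4381.exists_inv_compl p hexp φ hφ1 hφmul hcop (N.subgroupOf L) hU
  refine ⟨W'.map L.subtype, ?_, ?_⟩
  · rw [← Subgroup.normalizer_eq_top_iff, eq_top_iff, ← hPH]
    apply sup_le
    · intro x hx
      have hxc : ∀ w ∈ W'.map L.subtype, x * w * x⁻¹ = w := by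
        rintro _ ⟨w, _, rfl⟩
        have h1 := Subgroup.mem_centralizer_iff.mp (hPL hx) (w : G) w.2
        simp only [Subgroup.coe_subtype]
        rw [← h1, mul_assoc, mul_inv_cancel, mul_one]
      rw [Subgroup.mem_normalizer_iff]
      intro y
      constructor
      · intro hy
        rw [hxc y hy]; exact hy
      · intro hy
        have h2 := hxc _ hy
        have h3 : y = x * y * x⁻¹ := by
          have h4 : x⁻¹ * (x * (x * y * x⁻¹) * x⁻¹) * x = x⁻¹ * (x * y * x⁻¹) * x := by rw [h2]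
          have h5 : x⁻¹ * (x * (x * y * x⁻¹) * x⁻¹) * x = x * y * x⁻¹ := by group
          have h6 : x⁻¹ * (x * y * x⁻¹) * x = y := by group
          rw [h5, h6] at h4
          exact h4.symm
        rw [h3]; exact hy
    · intro a ha
      have hconj : ∀ b ∈ H, ∀ x ∈ W'.map L.subtype, b * x * b⁻¹ ∈ W'.map L.subtype := by
        rintro b hb _ ⟨k, hk, rfl⟩
        exact ⟨φ ⟨b, hb⟩ k, hW1 ⟨b, hb⟩ k hk, rfl⟩
      rw [Subgroup.mem_normalizer_iff]
      intro x
      constructor
      · exact hconj a ha x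
      · intro hx
        have := hconj a⁻¹ (inv_mem ha) _ hx
        have h2 : a⁻¹ * (a * x * a⁻¹) * a⁻¹⁻¹ = x := by group
        rwa [h2] at this
  · rw [Subgroup.card_map_of_injective L.subtype_injective]
    have hcompl : (N.subgroupOf L).IsComplement' W' := by
      apply Subgroup.isComplement'_of_disjoint_and_mul_eq_univ
      · rw [disjoint_iff]; exact hW2
      · have : (N.subgroupOf L).Normal := inferInstance
        rw [← Subgroup.normal_mul, hW3]
        rfl
    have h1 := hcompl.card_mul_card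
    have h2 : Nat.card (N.subgroupOf L) = Nat.card N :=
      Nat.card_congr (Subgroup.subgroupOfEquivOfLe hNL).toEquiv
    rw [h2, hcard] at h1
    have hpos : 0 < Nat.card N := Nat.card_pos
    have h3 : Nat.card N * Nat.card W' = Nat.card N * p := by rw [h1, mul_comm]
    exact Nat.eq_of_mul_eq_mul_left hpos h3

/-- Case (ii-b): `P` does not centralize `L`. -/
theorem isCyclic_of_not_le_centralizer {G : Type*} [Group G] [Finite G]
    (N L P Y : Subgroup G) [hN : N.Normal] [hL : L.Normal] [hY : Y.Normal]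
    (hmin : ∀ N' : Subgroup G, N'.Normal → N' ≠ ⊥ → N' ≤ N → N' = N)
    (hNL : N ≤ L) (hLP : L ≤ P) (hYP : Y ≤ P)
    (hNZ : P ≤ Subgroup.centralizer (N : Set G))
    (hcomm : ∀ l ∈ L, ∀ y ∈ P, ⁅l, y⁆ ∈ N)
    (ℓ : G) (hℓ : ℓ ∈ L)
    (hLs : ∀ x ∈ L, ∃ i : ℤ, ∃ n ∈ N, x = ℓ ^ i * n)
    (y₀ : G) (hy₀ : y₀ ∈ Y) (hy₀C : y₀ ∉ Subgroup.centralizer (L : Set G))
    (hYs : ∀ y ∈ Y, ∃ i : ℤ, ∃ c ∈ P ⊓ Subgroup.centralizer (L : Set G), y = y₀ ^ i * c) :
    IsCyclic N := by
  have ha : ∀ n ∈ N, ∀ y ∈ P, n * y = y * n := fun n hn y hy =>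
    Subgroup.mem_centralizer_iff.mp (hNZ hy) n hn
  have hy₀P : y₀ ∈ P := hYP hy₀
  -- for fixed `l ∈ L`, `y ↦ ⁅l, y⁆` is a homomorphism on `P`
  have hb : ∀ l ∈ L, ∀ y ∈ P, ∀ y' ∈ P, ⁅l, y * y'⁆ = ⁅l, y⁆ * ⁅l, y'⁆ := by
    intro l hl y hy y' hy'
    have h1 : ⁅l, y * y'⁆ = ⁅l, y⁆ * (y * ⁅l, y'⁆ * y⁻¹) := by
      simp only [commutatorElement_def]; group
    have h2 : y * ⁅l, y'⁆ * y⁻¹ = ⁅l, y'⁆ := by
      rw [← ha _ (hcomm l hl y' hy') y hy, mul_assoc, mul_inv_cancel, mul_one]
    rw [h1, h2]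
  have hb' : ∀ l ∈ L, ∀ i : ℤ, ⁅l, y₀ ^ i⁆ = ⁅l, y₀⁆ ^ i := by
    intro l hl i
    let f : P →* G := MonoidHom.mk' (fun y => ⁅l, (y : G)⁆)
      (fun a b => hb l hl a a.2 b b.2)
    have := map_zpow f ⟨y₀, hy₀P⟩ i
    simpa [f] using this
  -- for fixed `y₀`, `l ↦ ⁅l, y₀⁆` is a homomorphism on `L`
  have hc : ∀ l ∈ L, ∀ l' ∈ L, ⁅l * l', y₀⁆ = ⁅l, y₀⁆ * ⁅l', y₀⁆ := by
    intro l hl l' hl'
    have h1 : ⁅l * l', y₀⁆ = (l * ⁅l', y₀⁆ * l⁻¹) * ⁅l, y₀⁆ := by
      simp only [commutatorElement_def]; group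
    have h2 : l * ⁅l', y₀⁆ * l⁻¹ = ⁅l', y₀⁆ := by
      rw [← ha _ (hcomm l' hl' y₀ hy₀P) l (hLP hl), mul_assoc, mul_inv_cancel, mul_one]
    have h3 : ⁅l, y₀⁆ ∈ P := by
      rw [commutatorElement_def]
      exact P.mul_mem (P.mul_mem (P.mul_mem (hLP hl) hy₀P) (P.inv_mem (hLP hl))) (P.inv_mem hy₀P)
    rw [h1, h2, ha _ (hcomm l' hl' y₀ hy₀P) _ h3]
  have hc' : ∀ j : ℤ, ⁅ℓ ^ j, y₀⁆ = ⁅ℓ, y₀⁆ ^ j := by
    intro j
    let f : L →* G := MonoidHom.mk' (fun l => ⁅(l : G), y₀⁆)
      (fun a b => hc a a.2 b b.2)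
    have := map_zpow f ⟨ℓ, hℓ⟩ j
    simpa [f] using this
  have hd : ∀ l ∈ L, ∀ y : G, ∀ c ∈ Subgroup.centralizer (L : Set G), ⁅l, y * c⁆ = ⁅l, y⁆ := by
    intro l hl y c hc
    have h1 := Subgroup.mem_centralizer_iff.mp hc l⁻¹ (L.inv_mem hl)
    simp only [commutatorElement_def]
    have h2 : l * (y * c) * l⁻¹ * (y * c)⁻¹ = l * y * (c * l⁻¹) * c⁻¹ * y⁻¹ := by group
    rw [h2, ← h1]
    group
  have hz : ⁅ℓ, y₀⁆ ∈ N := hcomm ℓ hℓ y₀ hy₀P
  have hle : ⁅L, Y⁆ ≤ Subgroup.zpowers ⁅ℓ, y₀⁆ := by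
    rw [Subgroup.commutator_le]
    intro l hl y hy
    obtain ⟨i, c, hcC, rfl⟩ := hYs y hy
    obtain ⟨j, n, hn, rfl⟩ := hLs l hl
    rw [hd _ hl _ c hcC.2, hb' _ hl i, hc _ (L.zpow_mem hℓ j) n (hNL hn), hc' j]
    have h1 : ⁅n, y₀⁆ = 1 := by
      rw [commutatorElement_def, ha n hn y₀ hy₀P, mul_assoc, mul_assoc, mul_inv_cancel_left,
        mul_inv_cancel]
    rw [h1, mul_one]
    exact (Subgroup.zpowers _).zpow_mem (Subgroup.zpow_mem_zpowers _ j) i
  have hleN : ⁅L, Y⁆ ≤ N := by
    intro x hx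
    obtain ⟨i, hi⟩ := Subgroup.mem_zpowers_iff.mp (hle hx)
    rw [← hi]
    exact N.zpow_mem hz i
  have hne : ⁅L, Y⁆ ≠ ⊥ := by
    intro hbot
    apply hy₀C
    rw [Subgroup.mem_centralizer_iff]
    intro l hl
    have h1 : ⁅l, y₀⁆ ∈ ⁅L, Y⁆ := Subgroup.commutator_mem_commutator hl hy₀
    rw [hbot, Subgroup.mem_bot, commutatorElement_eq_one_iff_mul_comm] at h1
    exact h1
  have hnorm : (⁅L, Y⁆ : Subgroup G).Normal := Subgroup.commutator_normal L Y
  have heq := hmin _ hnorm hne hleN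
  rw [heq] at hle
  exact Subgroup.isCyclic_of_le hle

/-- In a `p`-subgroup `P ⊲ G` strictly above `A ⊲ G` with `G ⧸ A` supersolvable, there is a
normal subgroup `L` with `A < L ≤ P`, `|L : A| = p`, `[L, P] ≤ A`, generated by one
element over `A`. -/
theorem exists_normal_above {G : Type*} [Group G] [Finite G] (p : ℕ) [hp : Fact p.Prime]
    (A P : Subgroup G) [hA : A.Normal] [hP : P.Normal] (hPp : IsPGroup p P) (hAP : A ≤ P)
    (hne : A ≠ P) (hQ : Cfsg.IsSupersolvable (G ⧸ A)) :
    ∃ L : Subgroup G, L.Normal ∧ A ≤ L ∧ L ≤ P ∧ Nat.card L = p * Nat.card A ∧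
      (∀ l ∈ L, ∀ y ∈ P, ⁅l, y⁆ ∈ A) ∧
      ∃ ℓ ∈ L, ℓ ∉ A ∧ ℓ ^ p ∈ A ∧ ∀ x ∈ L, ∃ i : ℤ, ∃ a ∈ A, x = ℓ ^ i * a := by
  have hπs : Function.Surjective (QuotientGroup.mk' A) := QuotientGroup.mk'_surjective A
  have hPbn : (P.map (QuotientGroup.mk' A)).Normal := hP.map _ hπs
  have hPbne : P.map (QuotientGroup.mk' A) ≠ ⊥ := by
    intro hbot
    rw [Subgroup.map_eq_bot_iff, QuotientGroup.ker_mk'] at hbot
    exact hne (le_antisymm hAP hbot)
  obtain ⟨Lb, hLbP, hLbn, hLbp⟩ :=
    exists_normal_prime_card_le_of_isSupersolvable hQ (P.map (QuotientGroup.mk' A)) hPbne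
  have hLP : Lb.comap (QuotientGroup.mk' A) ≤ P := by
    calc Lb.comap (QuotientGroup.mk' A)
        ≤ (P.map (QuotientGroup.mk' A)).comap (QuotientGroup.mk' A) := Subgroup.comap_mono hLbP
      _ = P ⊔ (QuotientGroup.mk' A).ker := Subgroup.comap_map_eq _ P
      _ = P := by rw [QuotientGroup.ker_mk']; exact sup_eq_left.mpr hAP
  have hAL : A ≤ Lb.comap (QuotientGroup.mk' A) := by
    have := Subgroup.ker_le_comap (QuotientGroup.mk' A) Lb
    rwa [QuotientGroup.ker_mk'] at this
  have hcardL : Nat.card (Lb.comap (QuotientGroup.mk' A)) = Nat.card Lb * Nat.card A :=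
    card_comap_mk' A Lb
  have hLbcard : Nat.card Lb = p := by
    obtain ⟨k, hk⟩ := IsPGroup.iff_card.mp hPp
    have h1 : Nat.card (Lb.comap (QuotientGroup.mk' A)) ∣ Nat.card P := Subgroup.card_dvd_of_le hLP
    have h2 : Nat.card Lb ∣ p ^ k := by
      rw [← hk]
      exact (Dvd.intro _ hcardL.symm).trans h1
    exact (Nat.prime_dvd_prime_iff_eq hLbp hp.out).mp (hLbp.dvd_of_dvd_pow h2)
  have hLbne : Lb ≠ ⊥ := by
    intro hbot
    rw [hbot, Subgroup.card_bot] at hLbcard
    exact hp.out.one_lt.ne hLbcard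
  have hLbmin : ∀ N' : Subgroup (G ⧸ A), N'.Normal → N' ≠ ⊥ → N' ≤ Lb → N' = Lb := by
    intro N' _ hN'ne hN'le
    have h1 : Nat.card N' ∣ Nat.card Lb := Subgroup.card_dvd_of_le hN'le
    rcases (Nat.dvd_prime hLbp).mp h1 with h2 | h2
    · exact absurd (Subgroup.card_eq_one.mp h2) hN'ne
    · exact Subgroup.eq_of_le_of_card_ge hN'le h2.ge
  have hcent := le_centralizer_of_minimal_normal p (P.map (QuotientGroup.mk' A))
    (hPp.map (QuotientGroup.mk' A)) Lb hLbne hLbP hLbmin
  refine ⟨Lb.comap (QuotientGroup.mk' A), hLbn.comap _, hAL, hLP, ?_, ?_, ?_⟩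
  · rw [hcardL, hLbcard]
  · intro l hl y hy
    have h1 : (QuotientGroup.mk' A) y ∈ Subgroup.centralizer (Lb : Set (G ⧸ A)) :=
      hcent (Subgroup.mem_map_of_mem _ hy)
    have h2 := Subgroup.mem_centralizer_iff.mp h1 ((QuotientGroup.mk' A) l) hl
    have h3 : (QuotientGroup.mk' A) ⁅l, y⁆ = 1 := by
      rw [map_commutatorElement, commutatorElement_eq_one_iff_mul_comm]
      exact h2
    exact (QuotientGroup.eq_one_iff _).mp h3
  · have hlt : A < Lb.comap (QuotientGroup.mk' A) := by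
      refine lt_of_le_of_ne hAL ?_
      intro heq
      have h1 := congrArg (fun S : Subgroup G => Nat.card S) heq
      simp only [hcardL, hLbcard] at h1
      have hpos : 0 < Nat.card A := Nat.card_pos
      have h2 := hp.out.one_lt
      nlinarith
    obtain ⟨ℓ, hℓ, hℓA⟩ := SetLike.exists_of_lt hlt
    refine ⟨ℓ, hℓ, hℓA, ?_, ?_⟩
    · have h1 : (⟨_, hℓ⟩ : Lb) ^ p = 1 := by
        rw [← hLbcard]; exact pow_card_eq_one'
      have h2 := congrArg (fun y : Lb => (y : G ⧸ A)) h1
      simp only [Subgroup.coe_pow, OneMemClass.coe_one] at h2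
      have h3 : (QuotientGroup.mk' A) (ℓ ^ p) = 1 := by
        rw [map_pow]; exact h2
      exact (QuotientGroup.eq_one_iff _).mp h3
    · intro x hx
      exact exists_zpow_mul_of_prime_card A Lb hLbp ℓ hℓ hℓA x hx

universe u

theorem huppert_aux : ∀ n : ℕ, ∀ (G : Type u) [Group G] [Finite G], Nat.card G = n →
    (∀ M : Subgroup G, IsCoatom M → M.index.Prime) → Cfsg.IsSupersolvable G := by
  intro n
  induction n using Nat.strong_induction_on with
  | _ n ih =>
    intro G _ _ hn h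
    by_cases h1 : Nat.card G = 1
    · have : Subsingleton G := (Nat.card_eq_one_iff_unique.mp h1).1
      exact isSupersolvable_of_subsingleton
    · have hsolv : Group.IsSolvable G := Cfsg.Agent.S0580.result h
      have hpos : Nat.card G ≠ 0 := Nat.card_pos.ne'
      have hne : (Nat.card G).primeFactors.Nonempty := by
        rw [Nat.nonempty_primeFactors]
        omega
      set p := (Nat.card G).primeFactors.max' hne with hp
      have hpmem : p ∈ (Nat.card G).primeFactors := Finset.max'_mem _ hne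
      have hpp : p.Prime := Nat.prime_of_mem_primeFactors hpmem
      have hpd : p ∣ Nat.card G := Nat.dvd_of_mem_primeFactors hpmem
      have : Fact p.Prime := ⟨hpp⟩
      have hmax : ∀ q : ℕ, q.Prime → q ∣ Nat.card G → q ≤ p := by
        intro q hq hqd
        exact Finset.le_max' _ q (Nat.mem_primeFactors.mpr ⟨hq, hqd, hpos⟩)
      obtain ⟨P⟩ : Nonempty (Sylow p G) := inferInstance
      have hPn : (P : Subgroup G).Normal := Cfsg.Agent.S0580.sylow_normal_of_max h p hmax P
      have hPne : (P : Subgroup G) ≠ ⊥ := P.ne_bot_of_dvd_card hpd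
      obtain ⟨N, hNn, hNne, hNP, hmin⟩ := exists_minimal_normal_le (P : Subgroup G) hPne
      have hNZ := le_centralizer_of_minimal_normal p (P : Subgroup G) P.2 N hNne hNP hmin
      have hNcomm : ∀ x ∈ N, ∀ y ∈ N, x * y = y * x := fun x hx y hy =>
        Subgroup.mem_centralizer_iff.mp (hNZ (hNP hy)) x hx
      have hNcard : 2 ≤ Nat.card N := by
        have h1 : Nat.card N ≠ 1 := fun h => hNne (Subgroup.card_eq_one.mp h)
        have h2 : 0 < Nat.card N := Nat.card_pos
        omega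
      have hQ : Cfsg.IsSupersolvable (G ⧸ N) :=
        ih _ (by rw [← hn]; exact card_quotient_lt N hNcard) (G ⧸ N) rfl
          (coatom_index_prime_quotient h N)
      have key : IsCyclic N ∨ Cfsg.IsSupersolvable G := by
        by_cases hcoat : ∃ M : Subgroup G, IsCoatom M ∧ ¬ N ≤ M
        · obtain ⟨M, hM, hNM⟩ := hcoat
          exact Or.inl (isCyclic_of_not_le_coatom N hNcomm hmin M hM (h M hM) hNM)
        · push Not at hcoat
          obtain ⟨H, hH⟩ := Subgroup.exists_left_complement'_of_coprime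
            (N := (P : Subgroup G)) P.card_coprime_index
          have hPH : (P : Subgroup G) ⊔ H = ⊤ := by
            rw [sup_comm]; exact hH.sup_eq_top
          have hHcard : Nat.card H = (P : Subgroup G).index := hH.index_eq_card.symm
          have hNneP : N ≠ (P : Subgroup G) := by
            intro heq
            have hHtop : H ≠ ⊤ := by
              intro htop
              apply hPne
              rw [← Subgroup.card_eq_one]
              have h2 := Subgroup.index_mul_card (P : Subgroup G)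
              rw [← hHcard, htop, Subgroup.card_top] at h2
              have h3 : 0 < Nat.card G := Nat.card_pos
              exact Nat.eq_of_mul_eq_mul_left h3 (by rw [h2, mul_one])
            obtain ⟨M, hM, hHM⟩ := (eq_top_or_exists_le_coatom H).resolve_left hHtop
            have h2 := hcoat M hM
            rw [heq] at h2
            have h3 : (⊤ : Subgroup G) ≤ M := by
              rw [← hPH]; exact sup_le h2 hHM
            exact hM.1 (top_le_iff.mp h3)
          obtain ⟨L, hLn, hNL, hLP, hLcard, hLPN, ℓ, hℓ, hℓN, hℓp, hLs⟩ :=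
            exists_normal_above p N (P : Subgroup G) P.2 hNP hNneP hQ
          have hLcomm : ∀ x ∈ L, ∀ y ∈ L, x * y = y * x := by
            intro x hx y hy
            obtain ⟨i, n, hn', rfl⟩ := hLs x hx
            have hc1 : Commute n y := Subgroup.mem_centralizer_iff.mp (hNZ (hLP hy)) n hn'
            have hc2 : Commute (ℓ ^ i) y := by
              obtain ⟨j, n', hn'', rfl⟩ := hLs y hy
              have hc3 : Commute (ℓ ^ i) n' :=
                (Subgroup.mem_centralizer_iff.mp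
                  (hNZ (hLP (L.zpow_mem hℓ i))) n' hn'').symm
              exact (Commute.zpow_zpow_self ℓ i j).mul_right hc3
            exact hc2.mul_left hc1
          by_cases hPL : (P : Subgroup G) ≤ Subgroup.centralizer (L : Set G)
          · by_cases hexp : ∀ x ∈ L, x ^ p = 1
            · have hcop : (Nat.card H).Coprime (Nat.card L) := by
                rw [hHcard]
                exact (P.card_coprime_index.coprime_dvd_left (Subgroup.card_dvd_of_le hLP)).symm
              obtain ⟨W, hWn, hWcard⟩ := exists_normal_card_eq_of_le_centralizer p N L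
                (P : Subgroup G) H hNL hLcomm hexp hLcard hcop hPL hPH
              have hWc : IsCyclic W := isCyclic_of_prime_card hWcard
              have hQW : Cfsg.IsSupersolvable (G ⧸ W) :=
                ih _ (by rw [← hn]; exact card_quotient_lt W (by rw [hWcard]; exact hpp.two_le))
                  (G ⧸ W) rfl (coatom_index_prime_quotient h W)
              exact Or.inr (isSupersolvable_of_cyclic_normal_quotient W hQW)
            · push Not at hexp
              have hNpd : p ∣ Nat.card N := by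
                rcases (P.2.to_le hNP).card_eq_or_dvd with h2 | h2
                · omega
                · exact h2
              have hNp := pow_eq_one_of_minimal_normal p N hNcomm hmin hNpd
              exact Or.inl (isCyclic_of_pow_ne_one p N L hNL hLcomm hmin hNp ℓ hℓ hℓp hLs hexp)
          · -- `P` does not centralize `L`
            have hCn : ((P : Subgroup G) ⊓ Subgroup.centralizer (L : Set G)).Normal :=
              inferInstance
            have hNC : N ≤ (P : Subgroup G) ⊓ Subgroup.centralizer (L : Set G) := by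
              refine le_inf hNP ?_
              intro n hn'
              rw [Subgroup.mem_centralizer_iff]
              intro l hl
              exact hLcomm l hl n (hNL hn')
            have hCne : (P : Subgroup G) ⊓ Subgroup.centralizer (L : Set G) ≠ (P : Subgroup G) := by
              intro heq
              apply hPL
              rw [← heq]; exact inf_le_right
            have hCcard : 2 ≤ Nat.card ↥((P : Subgroup G) ⊓ Subgroup.centralizer (L : Set G)) :=
              hNcard.trans (Nat.le_of_dvd Nat.card_pos (Subgroup.card_dvd_of_le hNC))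
            have hQC : Cfsg.IsSupersolvable
                (G ⧸ ((P : Subgroup G) ⊓ Subgroup.centralizer (L : Set G))) :=
              ih _ (by rw [← hn]; exact card_quotient_lt _ hCcard) _ rfl
                (coatom_index_prime_quotient h _)
            obtain ⟨Y, hYn, hCY, hYP, hYcard, -, y₀, hy₀, hy₀C, -, hYs⟩ :=
              exists_normal_above p ((P : Subgroup G) ⊓ Subgroup.centralizer (L : Set G))
                (P : Subgroup G) P.2 inf_le_left hCne hQC
            have hy₀C' : y₀ ∉ Subgroup.centralizer (L : Set G) := fun hc =>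
              hy₀C ⟨hYP hy₀, hc⟩
            exact Or.inl (isCyclic_of_not_le_centralizer N L (P : Subgroup G) Y hmin hNL hLP hYP
              hNZ hLPN ℓ hℓ hLs y₀ hy₀ hy₀C' hYs)
      rcases key with hc | hs
      · exact isSupersolvable_of_cyclic_normal_quotient N hQ
      · exact hs

end Cfsg.Agent.Lib.Helper9
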