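import Cfsg.Agent.Lib.Helper70.SpUDefs
import Cfsg.Agent.Lib.Helper41.SpBNMain
import Cfsg.Agent.S0245

/-! # S2316 hive (helper70), leaf SPU-SYL, core: `Usp_sylow` with `card_Usp` as a hypothesis. -/

set_option autoImplicit false

namespace Cfsg.Agent.Lib.Helper70.SpU

open Matrix Cfsg Cfsg.Agent.Lib.Helper13 Cfsg.Agent.Lib.Helper41.SpBN

universe u

variable {F : Type u} [Field F] {m : ℕ}

/-- SPU-SYL with SPU-CARD as a hypothesis. -/
theorem syl_core [Fintype F] (p : ℕ) [Fact p.Prime] [CharP F p]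
    (hcard : Nat.card (Usp F m) = Fintype.card F ^ (m ^ 2)) :
    IsPGroup p (Usp F m) ∧ ¬ p ∣ (Usp F m).index := by
  obtain ⟨k, hp, hk⟩ := FiniteField.card F p
  constructor
  · apply IsPGroup.of_card (n := (k : ℕ) * m ^ 2)
    rw [hcard, hk, ← pow_mul]
  · have hG : Nat.card (SpG F m) =
        Fintype.card F ^ (m ^ 2) * ∏ i ∈ Finset.range m, (Fintype.card F ^ (2 * (i + 1)) - 1) :=
      Cfsg.Agent.S0245.result (F := F) rfl m
    have hidx : Nat.card (Usp F m) * (Usp F m).index = Nat.card (SpG F m) :=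
      Subgroup.card_mul_index _
    rw [hcard, hG] at hidx
    have hpos : 0 < Fintype.card F ^ (m ^ 2) := pow_pos Fintype.card_pos _
    have hi : (Usp F m).index = ∏ i ∈ Finset.range m, (Fintype.card F ^ (2 * (i + 1)) - 1) :=
      Nat.eq_of_mul_eq_mul_left hpos hidx
    rw [hi]
    refine not_dvd_prod_sub_one hp Fintype.card_pos ?_ m
    rw [hk]
    exact dvd_pow_self p k.ne_zero

end Cfsg.Agent.Lib.Helper70.SpU
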