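import Mathlib
import Cfsg.Agent.Lib.Helper9.Supersolvable4
import Cfsg.Agent.Lib.Helper9.CLT
import Cfsg.Agent.S0531

set_option autoImplicit false

namespace Cfsg.Agent.Lib.Helper9

open scoped Pointwise

/-- Sylow subgroups for the largest prime of a supersolvable group are normal. -/
theorem sylow_normal_of_isSupersolvable {X : Type*} [Group X] [Finite X]
    (hX : Cfsg.IsSupersolvable X) (p : ℕ) (hp : p.Prime) (hpd : p ∣ Nat.card X)
    (hmax : ∀ q : ℕ, q.Prime → q ∣ Nat.card X → q ≤ p) (S : Sylow p X) :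
    (S : Subgroup X).Normal :=
  sylow_normal_of_hereditary_clt _ X rfl
    (fun L => Cfsg.Agent.S0531.result (isSupersolvable_subgroup L hX)) p hp hpd hmax S

/-- (2a) A supersolvable subgroup has a normal Sylow subgroup for its largest prime. -/
theorem exists_normal_sylow_of_isSupersolvable {G : Type*} [Group G] [Finite G] (X : Subgroup G)
    (hX : Cfsg.IsSupersolvable X) (p : ℕ) [hp : Fact p.Prime] (hpd : p ∣ Nat.card X)
    (hmax : ∀ q : ℕ, q.Prime → q ∣ Nat.card X → q ≤ p) :
    ∃ P : Subgroup G, P ≤ X ∧ X ≤ Subgroup.normalizer (P : Set G) ∧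
      Nat.card P = p ^ (Nat.card X).factorization p := by
  let S : Sylow p X := default
  have hSn : (S : Subgroup X).Normal := sylow_normal_of_isSupersolvable hX p hp.out hpd hmax S
  have hle : (S : Subgroup X).map X.subtype ≤ X := by
    rintro _ ⟨a, -, rfl⟩
    exact a.2
  refine ⟨(S : Subgroup X).map X.subtype, hle, ?_, ?_⟩
  · rw [← Subgroup.normal_subgroupOf_iff_le_normalizer hle]
    have : ((S : Subgroup X).map X.subtype).subgroupOf X = S :=
      Subgroup.comap_map_eq_self_of_injective X.subtype_injective _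
    rw [this]
    exact hSn
  · rw [Subgroup.card_map_of_injective X.subtype_injective]
    exact S.card_eq_multiplicity

/-- (2b) Schur–Zassenhaus complement of a normal Sylow subgroup, inside the ambient group. -/
theorem exists_complement_of_normal_sylow {G : Type*} [Group G] [Finite G] (X P : Subgroup G)
    (p : ℕ) [hp : Fact p.Prime] (hPX : P ≤ X) (hn : X ≤ Subgroup.normalizer (P : Set G))
    (hcard : Nat.card P = p ^ (Nat.card X).factorization p) :
    ∃ C : Subgroup G, C ≤ X ∧ P ⊔ C = X ∧ Nat.card C * Nat.card P = Nat.card X := by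
  have hP'n : (P.subgroupOf X).Normal := (Subgroup.normal_subgroupOf_iff_le_normalizer hPX).mpr hn
  have hP'card : Nat.card (P.subgroupOf X) = Nat.card P :=
    Nat.card_congr (Subgroup.subgroupOfEquivOfLe hPX).toEquiv
  have hc : Nat.card (P.subgroupOf X) = p ^ (Nat.card X).factorization p := by
    rw [hP'card, hcard]
  have hcop : (Nat.card (P.subgroupOf X)).Coprime (P.subgroupOf X).index :=
    (Sylow.ofCard (P.subgroupOf X) hc).card_coprime_index
  obtain ⟨C', hC'⟩ := Subgroup.exists_left_complement'_of_coprime hcop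
  have hle : C'.map X.subtype ≤ X := by
    rintro _ ⟨a, -, rfl⟩
    exact a.2
  refine ⟨C'.map X.subtype, hle, ?_, ?_⟩
  · have h1 : (P.subgroupOf X).map X.subtype = P := Subgroup.map_subgroupOf_eq_of_le hPX
    have h2 := hC'.sup_eq_top
    have h3 : (C' ⊔ P.subgroupOf X).map X.subtype = X := by
      rw [h2, ← MonoidHom.range_eq_map, Subgroup.range_subtype]
    rw [Subgroup.map_sup, h1, sup_comm] at h3
    exact h3
  · rw [Subgroup.card_map_of_injective X.subtype_injective, ← hP'card]
    exact hC'.card_mul_card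

/-- Two subgroups of the full `p`-power order are conjugate. -/
theorem exists_conj_of_card_eq_sylow {G : Type*} [Group G] [Finite G] (p : ℕ) [hp : Fact p.Prime]
    (P Q : Subgroup G) (hP : Nat.card P = p ^ (Nat.card G).factorization p)
    (hQ : Nat.card Q = p ^ (Nat.card G).factorization p) :
    ∃ g : G, MulAut.conj g • P = Q := by
  obtain ⟨g, hg⟩ := MulAction.exists_smul_eq G (Sylow.ofCard P hP) (Sylow.ofCard Q hQ)
  refine ⟨g, ?_⟩
  have := congrArg (fun S : Sylow p G => (S : Subgroup G)) hg
  simpa [Sylow.coe_subgroup_smul] using this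

theorem smul_le_normalizer_smul {G : Type*} [Group G] (g : G) (H P : Subgroup G)
    (h : H ≤ Subgroup.normalizer (P : Set G)) :
    MulAut.conj g • H ≤ Subgroup.normalizer ((MulAut.conj g • P : Subgroup G) : Set G) := by
  intro y hy
  obtain ⟨x, hx, rfl⟩ := hy
  have hxn := h hx
  rw [Subgroup.mem_normalizer_iff] at hxn ⊢
  intro z
  simp only [MulDistribMulAction.toMonoidEnd_apply, MulDistribMulAction.toMonoidHom_apply,
    MulAut.smul_def, MulAut.conj_apply]
  rw [Subgroup.mem_pointwise_smul_iff_inv_smul_mem, Subgroup.mem_pointwise_smul_iff_inv_smul_mem]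
  simp only [MulAut.smul_def, ← map_inv, MulAut.conj_apply, inv_inv]
  rw [hxn (g⁻¹ * z * g)]
  have : g⁻¹ * (g * x * g⁻¹ * z * (g * x * g⁻¹)⁻¹) * g = x * (g⁻¹ * z * g) * x⁻¹ := by group
  rw [this]

end Cfsg.Agent.Lib.Helper9
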