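import Mathlib
import Cfsg.Agent.Lib.Helper9.Supersolvable
import Cfsg.Agent.Lib.Helper9.Basic

set_option autoImplicit false

namespace Cfsg.Agent.Lib.Helper9

/-- Finite `p`-groups are supersolvable. -/
theorem isSupersolvable_of_isPGroup (p : ℕ) [hp : Fact p.Prime] : ∀ (n : ℕ) (G : Type*) [Group G]
    [Finite G], Nat.card G = n → IsPGroup p G → Cfsg.IsSupersolvable G := by
  intro n
  induction n using Nat.strong_induction_on with
  | _ n ih =>
    intro G _ _ hcard hG
    rcases subsingleton_or_nontrivial G with hsub | hnt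
    · exact isSupersolvable_of_subsingleton
    have hc := hG.center_nontrivial
    obtain ⟨⟨z, hz⟩, hz1⟩ := exists_ne (1 : Subgroup.center G)
    have hz1' : z ≠ 1 := fun h => hz1 (Subtype.ext h)
    have hle : Subgroup.zpowers z ≤ Subgroup.center G := by
      rw [Subgroup.zpowers_le]; exact hz
    have hN : (Subgroup.zpowers z).Normal := by
      constructor
      intro y hy g
      have hyc := hle hy
      rw [Subgroup.mem_center_iff] at hyc
      rw [hyc g, mul_inv_cancel_right]
      exact hy
    have hcardN : 2 ≤ Nat.card (Subgroup.zpowers z) := by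
      rw [Nat.card_zpowers]
      have h1 : orderOf z ≠ 1 := fun h => hz1' (orderOf_eq_one_iff.mp h)
      have h0 : 0 < orderOf z := orderOf_pos z
      omega
    have hQ : Cfsg.IsSupersolvable (G ⧸ Subgroup.zpowers z) :=
      ih _ (by rw [← hcard]; exact card_quotient_lt _ hcardN) _ rfl (hG.to_quotient _)
    exact isSupersolvable_of_cyclic_normal_quotient (Subgroup.zpowers z) hQ

/-- Normality criterion for a cyclic subgroup relative to a subgroup of index two. -/
theorem zpowers_normal_of_index_two {G : Type*} [Group G] (P : Subgroup G) (hP : P.index = 2)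
    (a t : G) (ht : t ∉ P) (hcomm : ∀ x ∈ P, x * a = a * x)
    (hta : t * a * t⁻¹ ∈ Subgroup.zpowers a) : (Subgroup.zpowers a).Normal := by
  have hcommk : ∀ x ∈ P, ∀ y ∈ Subgroup.zpowers a, x * y * x⁻¹ = y := by
    intro x hx y hy
    obtain ⟨k, rfl⟩ := Subgroup.mem_zpowers_iff.mp hy
    have : Commute x a := hcomm x hx
    rw [(this.zpow_right k).eq, mul_inv_cancel_right]
  constructor
  intro y hy g
  by_cases hg : g ∈ P
  · rw [hcommk g hg y hy]; exact hy
  · have hx : g * t⁻¹ ∈ P := by
      rw [Subgroup.mul_mem_iff_of_index_two hP]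
      constructor
      · intro h; exact absurd h hg
      · intro h; exact absurd (by simpa using P.inv_mem h) ht
    obtain ⟨k, rfl⟩ := Subgroup.mem_zpowers_iff.mp hy
    have h1 : t * a ^ k * t⁻¹ ∈ Subgroup.zpowers a := by
      rw [← conj_zpow]
      exact Subgroup.zpow_mem _ hta k
    have h2 : g * a ^ k * g⁻¹ = (g * t⁻¹) * (t * a ^ k * t⁻¹) * (g * t⁻¹)⁻¹ := by group
    rw [h2, hcommk _ hx _ h1]
    exact h1

end Cfsg.Agent.Lib.Helper9
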