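import Cfsg.Agent.Lib.Helper9.SlK3Defs

set_option autoImplicit false

/-! K3 sub-hive (Sl hive, S2332): PAR-A — the element `h(a,b,z)` of `SL_{m+3}(F)` and its coordinates. -/

namespace Cfsg.Agent.Lib.Helper76.Sl

open Matrix

variable (F : Type*) [Field F] [Fintype F] [DecidableEq F]

/-- row `0` of `h(a,b,z)`: `(1, a, z)` -/
def k3row (m : ℕ) (a : Fin (m + 1) → F) (z : F) : Fin (m + 3) → F :=
  Fin.cases 1 (Fin.lastCases z a)

/-- last column of `h(a,b,z)`: `(z, b, 1)` -/
def k3col (m : ℕ) (b : Fin (m + 1) → F) (z : F) : Fin (m + 3) → F :=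
  Fin.cases z (Fin.lastCases 1 b)

/-- the matrix `h(a,b,z)` -/
def k3hmatM (m : ℕ) (a b : Fin (m + 1) → F) (z : F) : Matrix (Fin (m + 3)) (Fin (m + 3)) F :=
  Matrix.of fun i j =>
    if i = 0 then k3row F m a z j
    else if j = Fin.last (m + 2) then k3col F m b z i
    else if i = j then 1 else 0

theorem k3row_zero (m : ℕ) (a : Fin (m + 1) → F) (z : F) : k3row F m a z 0 = 1 := rfl

theorem k3row_mid (m : ℕ) (a : Fin (m + 1) → F) (z : F) (j : Fin (m + 1)) :
    k3row F m a z (k3mid m j) = a j := by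
  unfold k3row k3mid
  rw [Fin.cases_succ, Fin.lastCases_castSucc]

theorem k3row_last (m : ℕ) (a : Fin (m + 1) → F) (z : F) :
    k3row F m a z (Fin.last (m + 2)) = z := by
  unfold k3row
  rw [← Fin.succ_last, Fin.cases_succ, Fin.lastCases_last]

theorem k3col_zero (m : ℕ) (b : Fin (m + 1) → F) (z : F) : k3col F m b z 0 = z := rfl

theorem k3col_mid (m : ℕ) (b : Fin (m + 1) → F) (z : F) (j : Fin (m + 1)) :
    k3col F m b z (k3mid m j) = b j := by
  unfold k3col k3mid
  rw [Fin.cases_succ, Fin.lastCases_castSucc]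

theorem k3col_last (m : ℕ) (b : Fin (m + 1) → F) (z : F) :
    k3col F m b z (Fin.last (m + 2)) = 1 := by
  unfold k3col
  rw [← Fin.succ_last, Fin.cases_succ, Fin.lastCases_last]

theorem k3mid_ne_zero (m : ℕ) (j : Fin (m + 1)) : k3mid m j ≠ 0 := Fin.succ_ne_zero _

theorem k3mid_ne_last (m : ℕ) (j : Fin (m + 1)) : k3mid m j ≠ Fin.last (m + 2) := by
  unfold k3mid
  rw [← Fin.succ_last]
  intro h
  exact (Fin.castSucc_lt_last j).ne (Fin.succ_injective _ h)

theorem k3mid_injective (m : ℕ) : Function.Injective (k3mid m) := fun i j h =>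
  Fin.castSucc_injective _ (Fin.succ_injective _ h)

/-- every index is `0`, a middle index, or the last one -/
theorem k3_index_cases (m : ℕ) (i : Fin (m + 3)) :
    i = 0 ∨ (∃ j, i = k3mid m j) ∨ i = Fin.last (m + 2) := by
  induction i using Fin.cases with
  | zero => exact Or.inl rfl
  | succ i =>
    induction i using Fin.lastCases with
    | last => exact Or.inr (Or.inr (Fin.succ_last _))
    | cast j => exact Or.inr (Or.inl ⟨j, rfl⟩)

theorem k3_last_ne_zero (m : ℕ) : Fin.last (m + 2) ≠ (0 : Fin (m + 3)) := by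
  rw [Ne, Fin.ext_iff]; simp

theorem k3hmatM_det (m : ℕ) (a b : Fin (m + 1) → F) (z : F) : (k3hmatM F m a b z).det = 1 := by
  have htri : (k3hmatM F m a b z).BlockTriangular id := by
    intro i j hij
    have hij' : j < i := hij
    have hi0 : i ≠ 0 := fun h => by rw [h] at hij'; exact absurd hij' (Fin.not_lt_zero j)
    have hjl : j ≠ Fin.last (m + 2) := fun h => by
      rw [h] at hij'; exact absurd hij' (not_lt.mpr (Fin.le_last i))
    simp only [k3hmatM, Matrix.of_apply, if_neg hi0, if_neg hjl, if_neg hij'.ne']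
  rw [Matrix.det_of_upperTriangular htri]
  apply Finset.prod_eq_one
  intro i _
  by_cases hi0 : i = 0
  · subst hi0
    simp [k3hmatM, k3row_zero]
  · by_cases hil : i = Fin.last (m + 2)
    · subst hil
      simp [k3hmatM, hi0, k3col_last]
    · simp [k3hmatM, hi0, hil]

/-- `h(a,b,z)` as an element of `SL_{m+3}(F)` -/
def k3hmat (m : ℕ) (a b : Fin (m + 1) → F) (z : F) : Gm F (m + 1) :=
  ⟨k3hmatM F m a b z, k3hmatM_det F m a b z⟩

theorem k3hmat_val (m : ℕ) (a b : Fin (m + 1) → F) (z : F) :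
    (k3hmat F m a b z).1 = k3hmatM F m a b z := rfl

/-- entries of `h(a,b,z)` (useful normal form) -/
theorem k3hmat_apply (m : ℕ) (a b : Fin (m + 1) → F) (z : F) (i j : Fin (m + 3)) :
    (k3hmat F m a b z).1 i j =
      if i = 0 then k3row F m a z j
      else if j = Fin.last (m + 2) then k3col F m b z i
      else if i = j then 1 else 0 := rfl

theorem k3hmat_mem (m : ℕ) (a b : Fin (m + 1) → F) (z : F) : k3hmat F m a b z ∈ K3H F m := by
  refine ⟨fun i j hi hj => ?_, ?_, ?_⟩
  · rw [k3hmat_apply, if_neg hi, if_neg hj, Matrix.one_apply]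
  · rw [k3hmat_apply, if_pos rfl, k3row_zero]
  · rw [k3hmat_apply, if_neg (k3_last_ne_zero m), if_pos rfl, k3col_last]

theorem k3hmat_a (m : ℕ) (a b : Fin (m + 1) → F) (z : F) (j : Fin (m + 1)) :
    (k3hmat F m a b z).1 0 (k3mid m j) = a j := by
  rw [k3hmat_apply, if_pos rfl, k3row_mid]

theorem k3hmat_b (m : ℕ) (a b : Fin (m + 1) → F) (z : F) (j : Fin (m + 1)) :
    (k3hmat F m a b z).1 (k3mid m j) (Fin.last (m + 2)) = b j := by
  rw [k3hmat_apply, if_neg (k3mid_ne_zero m j), if_pos rfl, k3col_mid]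

theorem k3hmat_z (m : ℕ) (a b : Fin (m + 1) → F) (z : F) :
    (k3hmat F m a b z).1 0 (Fin.last (m + 2)) = z := by
  rw [k3hmat_apply, if_pos rfl, k3row_last]

theorem k3hmat_surj (m : ℕ) (g : Gm F (m + 1)) (hg : g ∈ K3H F m) :
    g = k3hmat F m (fun j => g.1 0 (k3mid m j)) (fun j => g.1 (k3mid m j) (Fin.last (m + 2)))
      (g.1 0 (Fin.last (m + 2))) := by
  obtain ⟨h1, h2, h3⟩ := hg
  apply Subtype.ext
  ext i j
  rw [k3hmat_apply]
  by_cases hi0 : i = 0
  · subst hi0
    rw [if_pos rfl]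
    rcases k3_index_cases m j with rfl | ⟨l, rfl⟩ | rfl
    · rw [k3row_zero]; exact h2
    · rw [k3row_mid]
    · rw [k3row_last]
  · rw [if_neg hi0]
    by_cases hjl : j = Fin.last (m + 2)
    · subst hjl
      rw [if_pos rfl]
      rcases k3_index_cases m i with rfl | ⟨l, rfl⟩ | rfl
      · exact absurd rfl hi0
      · rw [k3col_mid]
      · rw [k3col_last]; exact h3
    · rw [if_neg hjl, h1 i j hi0 hjl, Matrix.one_apply]

end Cfsg.Agent.Lib.Helper76.Sl
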