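import Cfsg.Agent.Lib.Helper9.SlK3Defs
import Cfsg.Agent.Lib.Helper3.CharOps
import Cfsg.Agent.Lib.Helper25.SlK3CHAR
import Cfsg.Agent.Lib.Helper54.SlK3M1
import Cfsg.Agent.Lib.Helper54.SlK3AVG
import Cfsg.Agent.Lib.Helper78.SlK3ROW
import Cfsg.Agent.Lib.Helper74.SlK3EVQ
import Cfsg.Agent.Lib.Helper74.SlK3EVQP
import Cfsg.Agent.Lib.Helper80.SlK3CQ
import Cfsg.Agent.Lib.Helper55.SlK3INVD
import Cfsg.Agent.Lib.Helper85.SlK3INVT
import Cfsg.Agent.Lib.Helper27.SlK3COMB
import Cfsg.Agent.Lib.Helper95.SlK3MODB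

set_option autoImplicit false

/-! SL-K3 `trich` (Sl hive S2332, owner helper76): assembly of the K3 sub-hive (owner helper9). -/

namespace Cfsg.Agent.Lib.Helper76.Sl

open Matrix Cfsg
open scoped ComplexConjugate

variable (F : Type*) [Field F] [Fintype F] [DecidableEq F]

/-! ## assembly (helper9) -/

theorem k3_mu_zero_zero (m : ℕ) (e : AddChar F ℂ) (χ : Gm F (m + 1) → ℂ) :
    k3mu F m e χ 0 0 = k3avgH F m χ := by
  unfold k3mu k3avgH
  congr 1
  apply Finset.sum_congr rfl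
  intro g _
  simp

variable {F}

theorem trich (m : ℕ) (χ : Gm F (m + 1) → ℂ) (hχ : IsIrrCharacter (Gm F (m + 1)) χ) (m0 : ℕ)
    (h1 : χ 1 = (m0 : ℂ) + ((Fintype.card F : ℂ) ^ (m + 2) - 1)) (ht : χ (tv F (m + 1)) = (m0 : ℂ) - 1)
    (hav : avgQ F (m + 1) χ 1 = m0) :
    ((Fintype.card F) ^ (m + 1) - 1 ≤ m0 ∧
        avgQ F (m + 1) χ (tvS F m) = (m0 : ℂ) - (Fintype.card F : ℂ) ^ (m + 1)) ∨
      (m0 = 0 ∧ Exc (m + 3) (Fintype.card F)) := by
  classical
  obtain ⟨e, he⟩ := k3_exists_char F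
  have hchar : IsCharacter (Gm F (m + 1)) χ := Cfsg.Agent.Lib.Helper3.IsIrrCharacter.isCharacter hχ
  have hcf : IsClassFunction (Gm F (m + 1)) χ := Cfsg.Agent.Lib.Helper3.IsCharacter.isClassFunction hchar
  have hQ : ∀ g ∈ Qset F (m + 1), g ≠ 1 → χ g = χ (tv F (m + 1)) := by
    intro g hg hne
    obtain ⟨x, rfl⟩ := k3_conj_Q F m g hg hne
    exact hcf _ _
  have hQ' : ∀ g ∈ K3Qp F m, g ≠ 1 → χ g = χ (tv F (m + 1)) := by
    intro g hg hne
    obtain ⟨x, rfl⟩ := k3_conj_Qp F m g hg hne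
    exact hcf _ _
  choose μ hμ using fun α β => k3_mu_nat F m e χ hchar α β
  have hq0 : (Fintype.card F : ℂ) ≠ 0 := by
    have : 0 < Fintype.card F := Fintype.card_pos
    exact_mod_cast this.ne'
  have hq : ((Fintype.card F : ℂ) ^ (m + 2)) ≠ 0 := pow_ne_zero _ hq0
  have hdiff : ((Fintype.card F : ℂ) ^ (m + 2))⁻¹ * (χ 1 - χ (tv F (m + 1))) = 1 := by
    rw [h1, ht]
    field_simp
    ring
  have hrow : ∀ α, ∑ β, μ α β = if α = 0 then m0 else 1 := by
    intro α
    have h3 := k3_row_sum F m e he χ α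
    rw [k3_eval_Q F m e he χ hQ α, hdiff, ht] at h3
    simp_rw [hμ] at h3
    have h4 : ((∑ β, μ α β : ℕ) : ℂ) = ((if α = 0 then m0 else 1 : ℕ) : ℂ) := by
      push_cast
      rw [h3]
      split_ifs <;> ring
    exact_mod_cast h4
  have hcol : ∀ β, ∑ α, μ α β = if β = 0 then m0 else 1 := by
    intro β
    have h3 := k3_col_sum F m e he χ β
    rw [k3_eval_Qp F m e he χ hQ' β, hdiff, ht] at h3
    simp_rw [hμ] at h3
    have h4 : ((∑ α, μ α β : ℕ) : ℂ) = ((if β = 0 then m0 else 1 : ℕ) : ℂ) := by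
      push_cast
      rw [h3]
      split_ifs <;> ring
    exact_mod_cast h4
  have hD : ∀ d : Fin (m + 3) → F, (∀ i, d i ≠ 0) → ∏ i, d i = 1 → ∀ α β,
      μ α β = μ (fun j => α j * d (k3mid m j) / d 0)
        (fun j => β j * d (Fin.last (m + 2)) / d (k3mid m j)) := by
    intro d hd hprod α β
    have h3 := k3_inv_diag F m e χ hcf d hd hprod α β
    rw [hμ, hμ] at h3
    exact_mod_cast h3
  have hT : ∀ i j : Fin (m + 1), i ≠ j → ∀ (c : F) (α β : Fin (m + 1) → F),
      μ α β = μ (fun l => α l + if l = i then c * α j else 0)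
        (fun l => β l - if l = j then c * β i else 0) := by
    intro i j hij c α β
    have h3 := k3_inv_transv F m e χ hcf i j hij c α β
    rw [hμ, hμ] at h3
    exact_mod_cast h3
  have hqpos : 1 ≤ Fintype.card F ^ (m + 1) := Nat.one_le_pow _ _ Fintype.card_pos
  rcases k3_comb F m m0 μ hrow hcol hD hT with ⟨hE, hm0⟩ | ⟨hc, hexc⟩
  · left
    refine ⟨by omega, ?_⟩
    rw [k3_avg_tvS F m e he χ]
    simp_rw [hμ]
    have h5 : ∑ β : Fin (m + 1) → F, (μ 0 β : ℂ) * e (β 0) =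
        ((μ 0 0 : ℂ) - 1) + ∑ β : Fin (m + 1) → F, e (β 0) := by
      rw [← sub_eq_iff_eq_add, ← Finset.sum_sub_distrib]
      rw [Finset.sum_eq_single (0 : Fin (m + 1) → F)]
      · simp
      · intro β _ hβ
        rw [hE β hβ]
        simp
      · intro h; exact absurd (Finset.mem_univ _) h
    rw [h5, k3_sum_zero F m e he, add_zero]
    have h6 : (m0 : ℂ) = (μ 0 0 : ℂ) + ((Fintype.card F : ℂ) ^ (m + 1) - 1) := by
      rw [hm0]
      push_cast [Nat.cast_sub hqpos]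
      ring
    rw [h6]
    ring
  · right
    refine ⟨?_, hexc⟩
    have hH : k3avgH F m χ = m0 := by
      rw [← k3_mu_zero_zero F m e χ, hμ, hc]
    have hQp : k3avgQp F m χ = m0 := by
      have h3 := k3_col_sum F m e he χ 0
      have h4 : ((Fintype.card F : ℂ) ^ (m + 2))⁻¹ *
          ∑ g ∈ Finset.univ.filter (fun g : Gm F (m + 1) => g ∈ K3Qp F m),
            χ g * conj (e (∑ j, (0 : Fin (m + 1) → F) j * g.1 (k3mid m j) (Fin.last (m + 2)))) =
          k3avgQp F m χ := by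
        unfold k3avgQp
        congr 1
        apply Finset.sum_congr rfl
        intro g _
        simp
      rw [h4] at h3
      rw [← h3]
      simp_rw [hμ]
      have := hcol 0
      rw [if_pos rfl] at this
      exact_mod_cast this
    have hne : χ (tv F (m + 1)) ≠ χ 1 := by
      rw [h1, ht]
      intro h
      have : ((Fintype.card F : ℂ) ^ (m + 2)) = 0 := by linear_combination -h
      exact hq this
    have h7 := k3_modB F m χ hχ hne (hav.trans hH.symm) (hQp.trans hH.symm)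
    rw [hav] at h7
    exact_mod_cast h7

end Cfsg.Agent.Lib.Helper76.Sl
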