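import Mathlib
import Cfsg.Agent.Lib.Helper5.AutPSLnSylow

/-!
# The unitriangular group in characteristic 2 is generated by involutions (helper9)

`Uni n F ≤ SL_n(F)` (helper5's upper unitriangular subgroup).  Column peeling: an upper unitriangular
matrix whose columns `≥ k+1` are trivial is `C * M'` with `C = 1 + (column k of M above the diagonal)`
(an involution in characteristic 2) and `M'` with trivial columns `≥ k`.

Also the abstract criterion: if `closure S = ⊤` and `s ^ 2 ∈ commutator G` for `s ∈ S`, then
`x ^ 2 ∈ commutator G` for all `x`.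
-/

set_option autoImplicit false

namespace Cfsg.Agent.Lib.Helper9.UniInv

open Matrix
open Cfsg.Agent.Lib.Helper5.AutPSLn (IsUni Uni det_of_isUni mem_Uni)

/-- abstract criterion: squares of generators in `G'` implies all squares in `G'` -/
theorem sq_mem_commutator_of_closure {G : Type*} [Group G] (S : Set G)
    (hS : Subgroup.closure S = ⊤) (h : ∀ s ∈ S, s ^ 2 ∈ commutator G) :
    ∀ x : G, x ^ 2 ∈ commutator G := by
  intro x
  let f : G →* Abelianization G := Abelianization.of
  let sqh : Abelianization G →* Abelianization G := powMonoidHom 2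
  have hker : ∀ y : G, y ^ 2 ∈ commutator G ↔ y ∈ (sqh.comp f).ker := by
    intro y
    rw [MonoidHom.mem_ker, MonoidHom.comp_apply, powMonoidHom_apply, ← map_pow,
      ← MonoidHom.mem_ker, Abelianization.ker_of]
  rw [hker]
  have hle : Subgroup.closure S ≤ (sqh.comp f).ker := by
    rw [Subgroup.closure_le]
    intro s hs
    exact (hker s).1 (h s hs)
  rw [hS] at hle
  exact hle (Subgroup.mem_top x)

variable {n : ℕ} {F : Type*} [Field F]

/-- the column matrix: `N i j = M i c` if `j = c`, `i < c`, else `0` -/
def colN (M : Matrix (Fin n) (Fin n) F) (c : Fin n) : Matrix (Fin n) (Fin n) F :=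
  fun i j => if j = c ∧ i < c then M i c else 0

/-- `M` with column `c` replaced by the unit column -/
def dropCol (M : Matrix (Fin n) (Fin n) F) (c : Fin n) : Matrix (Fin n) (Fin n) F :=
  fun i j => if j = c then (1 : Matrix (Fin n) (Fin n) F) i j else M i j

theorem colN_mul (M M' : Matrix (Fin n) (Fin n) F) (c : Fin n) (i j : Fin n) :
    (colN M c * M') i j = if i < c then M i c * M' c j else 0 := by
  rw [Matrix.mul_apply, Finset.sum_eq_single c]
  · unfold colN
    by_cases h : i < c
    · rw [if_pos ⟨rfl, h⟩, if_pos h]
    · rw [if_neg (fun hh => h hh.2), if_neg h, zero_mul]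
  · intro l _ hl
    unfold colN
    rw [if_neg (fun hh => hl hh.1), zero_mul]
  · intro h
    exact absurd (Finset.mem_univ _) h

theorem colN_sq (M : Matrix (Fin n) (Fin n) F) (c : Fin n) : colN M c * colN M c = 0 := by
  ext i j
  rw [colN_mul, Matrix.zero_apply]
  by_cases h : i < c
  · rw [if_pos h]
    unfold colN
    rw [if_neg (fun hh => lt_irrefl _ hh.2), mul_zero]
  · rw [if_neg h]

theorem isUni_one_add_colN (M : Matrix (Fin n) (Fin n) F) (c : Fin n) : IsUni (1 + colN M c) := by
  intro i j hji
  rw [Matrix.add_apply]
  unfold colN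
  rw [if_neg, add_zero]
  rintro ⟨rfl, hlt⟩
  exact absurd hji (not_le.2 hlt)

theorem isUni_dropCol {M : Matrix (Fin n) (Fin n) F} (hM : IsUni M) (c : Fin n) :
    IsUni (dropCol M c) := by
  intro i j hji
  unfold dropCol
  by_cases h : j = c
  · rw [if_pos h]
  · rw [if_neg h]
    exact hM i j hji

/-- the key factorization -/
theorem peel {M : Matrix (Fin n) (Fin n) F} (hM : IsUni M) (c : Fin n)
    (hT : ∀ i j : Fin n, c < j → M i j = (1 : Matrix (Fin n) (Fin n) F) i j) :
    (1 + colN M c) * dropCol M c = M := by
  ext i j
  rw [Matrix.add_mul, Matrix.one_mul, Matrix.add_apply, colN_mul]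
  have hrow : dropCol M c c j = (1 : Matrix (Fin n) (Fin n) F) c j := by
    unfold dropCol
    by_cases h : j = c
    · rw [if_pos h]
    · rw [if_neg h]
      rcases lt_or_gt_of_ne h with h1 | h1
      · exact hM c j h1.le
      · exact hT c j h1
  rw [hrow]
  unfold dropCol
  by_cases h : j = c
  · subst h
    rw [if_pos rfl, Matrix.one_apply_eq, mul_one]
    by_cases h2 : i < j
    · rw [if_pos h2, Matrix.one_apply_ne h2.ne, zero_add]
    · rw [if_neg h2, add_zero]
      exact (hM i j (not_lt.1 h2)).symm
  · rw [if_neg h, Matrix.one_apply_ne (Ne.symm h), mul_zero, ite_self, add_zero]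

section Fin

variable [Fintype F]

/-- the set of involutions (or `1`) of the unitriangular group -/
def invSet (n : ℕ) (F : Type*) [Field F] [Fintype F] : Set (SpecialLinearGroup (Fin n) F) :=
  {x | x ∈ Uni n F ∧ x * x = 1}

theorem uni_trunc_mem [CharP F 2] (k : ℕ) :
    ∀ x : SpecialLinearGroup (Fin n) F, x ∈ Uni n F →
      (∀ i j : Fin n, k ≤ j.val → x.1 i j = (1 : Matrix (Fin n) (Fin n) F) i j) →
      x ∈ Subgroup.closure (invSet n F) := by
  induction k with
  | zero =>
    intro x _ hT
    have : x = 1 := by
      apply Subtype.ext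
      ext i j
      exact hT i j (Nat.zero_le _)
    rw [this]
    exact Subgroup.one_mem _
  | succ k ih =>
    intro x hx hT
    by_cases hk : k < n
    · set c : Fin n := ⟨k, hk⟩ with hc
      have hM : IsUni x.1 := hx
      have hT' : ∀ i j : Fin n, c < j → x.1 i j = (1 : Matrix (Fin n) (Fin n) F) i j := by
        intro i j hj
        apply hT
        have : c.val < j.val := hj
        rw [hc] at this
        exact this
      have hC : IsUni (1 + colN x.1 c) := isUni_one_add_colN _ _
      have hD : IsUni (dropCol x.1 c) := isUni_dropCol hM c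
      let C : SpecialLinearGroup (Fin n) F := ⟨1 + colN x.1 c, det_of_isUni hC⟩
      let D : SpecialLinearGroup (Fin n) F := ⟨dropCol x.1 c, det_of_isUni hD⟩
      have hx' : x = C * D := by
        apply Subtype.ext
        exact (peel hM c hT').symm
      have hCC : C * C = 1 := by
        apply Subtype.ext
        show (1 + colN x.1 c) * (1 + colN x.1 c) = 1
        rw [Matrix.add_mul, Matrix.mul_add, Matrix.mul_add, Matrix.one_mul, Matrix.mul_one,
          Matrix.one_mul, colN_sq, add_zero, add_assoc]
        have h2 : colN x.1 c + colN x.1 c = 0 := by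
          ext i j
          rw [Matrix.add_apply, Matrix.zero_apply]
          exact CharTwo.add_self_eq_zero _
        rw [h2, add_zero]
      have hCmem : C ∈ Subgroup.closure (invSet n F) :=
        Subgroup.subset_closure ⟨hC, hCC⟩
      have hDmem : D ∈ Subgroup.closure (invSet n F) := by
        apply ih D hD
        intro i j hj
        show dropCol x.1 c i j = _
        unfold dropCol
        by_cases h : j = c
        · rw [if_pos h]
        · rw [if_neg h]
          apply hT
          have : j.val ≠ k := fun hh => h (Fin.ext hh)
          omega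
      rw [hx']
      exact Subgroup.mul_mem _ hCmem hDmem
    · apply ih x hx
      intro i j _
      exact absurd j.2 (by omega)

/-- **the unitriangular group is generated by its involutions** (characteristic 2) -/
theorem uni_le_closure_inv [CharP F 2] : Uni n F ≤ Subgroup.closure (invSet n F) := by
  intro x hx
  apply uni_trunc_mem n x hx
  intro i j hj
  exact absurd j.2 (by omega)

theorem closure_inv_eq_uni [CharP F 2] : Subgroup.closure (invSet n F) = Uni n F := by
  apply le_antisymm
  · rw [Subgroup.closure_le]
    intro x hx
    exact hx.1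
  · exact uni_le_closure_inv

end Fin

end Cfsg.Agent.Lib.Helper9.UniInv
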