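import Mathlib
import Cfsg.Agent.Lib.Helper83.FpDefs

set_option autoImplicit false

/-! Fp hive (S2276, owner helper83), leaf FP-BASE6a: `c = (0 2 1)(3 5 4)`, `d = (0 3 1)(2 4 5)` in `Perm (Fin 6)`;
`c * d` has order 5 and `closure {c, d}` is perfect and non-trivial, hence not solvable. -/

namespace Cfsg.Agent.Lib.Helper83.Fp

open Equiv

/-- `(0 2 1)(3 5 4)` -/
def fpbase6a_c : Perm (Fin 6) := (swap 0 1 * swap 0 2) * (swap 3 4 * swap 3 5)

/-- `(0 3 1)(2 4 5)` -/
def fpbase6a_d : Perm (Fin 6) := (swap 0 1 * swap 0 3) * (swap 2 5 * swap 2 4)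

theorem fpbase6a_cycleType_c : fpbase6a_c.cycleType = {3, 3} := by
  have h1 : (swap (0 : Fin 6) 1 * swap 0 2).IsThreeCycle :=
    Perm.isThreeCycle_swap_mul_swap_same (by decide) (by decide) (by decide)
  have h2 : (swap (3 : Fin 6) 4 * swap 3 5).IsThreeCycle :=
    Perm.isThreeCycle_swap_mul_swap_same (by decide) (by decide) (by decide)
  have hd : Perm.Disjoint (swap (0 : Fin 6) 1 * swap 0 2) (swap (3 : Fin 6) 4 * swap 3 5) := by
    show ∀ x : Fin 6, _ ∨ _
    decide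
  unfold fpbase6a_c
  rw [Perm.Disjoint.cycleType_mul hd, h1.cycleType, h2.cycleType]
  rfl

theorem fpbase6a_cycleType_d : fpbase6a_d.cycleType = {3, 3} := by
  have h1 : (swap (0 : Fin 6) 1 * swap 0 3).IsThreeCycle :=
    Perm.isThreeCycle_swap_mul_swap_same (by decide) (by decide) (by decide)
  have h2 : (swap (2 : Fin 6) 5 * swap 2 4).IsThreeCycle :=
    Perm.isThreeCycle_swap_mul_swap_same (by decide) (by decide) (by decide)
  have hd : Perm.Disjoint (swap (0 : Fin 6) 1 * swap 0 3) (swap (2 : Fin 6) 5 * swap 2 4) := by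
    show ∀ x : Fin 6, _ ∨ _
    decide
  unfold fpbase6a_d
  rw [Perm.Disjoint.cycleType_mul hd, h1.cycleType, h2.cycleType]
  rfl

set_option maxRecDepth 100000 in
theorem fpbase6a_pow_five : (fpbase6a_c * fpbase6a_d) ^ 5 = 1 := by decide

set_option maxRecDepth 100000 in
theorem fpbase6a_ne_one : fpbase6a_c * fpbase6a_d ≠ 1 := by decide

set_option maxRecDepth 100000 in
theorem fpbase6a_comm_c :
    fpbase6a_c = fpbase6a_c⁻¹ * (fpbase6a_d * fpbase6a_c * fpbase6a_d⁻¹ * fpbase6a_c⁻¹ * fpbase6a_d) *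
      (fpbase6a_c⁻¹)⁻¹ * (fpbase6a_d * fpbase6a_c * fpbase6a_d⁻¹ * fpbase6a_c⁻¹ * fpbase6a_d)⁻¹ := by
  decide

set_option maxRecDepth 100000 in
theorem fpbase6a_comm_d :
    fpbase6a_d = fpbase6a_d⁻¹ * (fpbase6a_c * fpbase6a_d * fpbase6a_c⁻¹ * fpbase6a_d⁻¹ * fpbase6a_c) *
      (fpbase6a_d⁻¹)⁻¹ * (fpbase6a_c * fpbase6a_d * fpbase6a_c⁻¹ * fpbase6a_d⁻¹ * fpbase6a_c)⁻¹ := by
  decide

set_option maxRecDepth 100000 in
theorem fpbase6a_c_ne_one : fpbase6a_c ≠ 1 := by decide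

theorem base6a : Base6aStmt := by
  unfold Base6aStmt
  refine ⟨fpbase6a_c, fpbase6a_d, fpbase6a_cycleType_c, fpbase6a_cycleType_d, ?_, ?_⟩
  · rintro ⟨k, hk⟩
    haveI : Fact (Nat.Prime 5) := ⟨by norm_num⟩
    have h5 : orderOf (fpbase6a_c * fpbase6a_d) = 5 :=
      orderOf_eq_prime fpbase6a_pow_five fpbase6a_ne_one
    rw [h5] at hk
    have h3 : (3 : ℕ) ∣ 5 := by
      rcases Nat.eq_zero_or_pos k with h0 | hpos
      · rw [h0] at hk; norm_num at hk
      · rw [hk]; exact dvd_pow_self 3 hpos.ne'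
    norm_num at h3
  · intro hsol
    set H : Subgroup (Perm (Fin 6)) := Subgroup.closure ({fpbase6a_c, fpbase6a_d} : Set (Perm (Fin 6)))
      with hH
    have hc : fpbase6a_c ∈ H := Subgroup.subset_closure (by simp)
    have hd : fpbase6a_d ∈ H := Subgroup.subset_closure (by simp)
    have hcc : fpbase6a_c ∈ ⁅H, H⁆ := by
      rw [fpbase6a_comm_c, ← commutatorElement_def]
      exact Subgroup.commutator_mem_commutator (H.inv_mem hc)
        (H.mul_mem (H.mul_mem (H.mul_mem (H.mul_mem hd hc) (H.inv_mem hd)) (H.inv_mem hc)) hd)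
    have hdc : fpbase6a_d ∈ ⁅H, H⁆ := by
      rw [fpbase6a_comm_d, ← commutatorElement_def]
      exact Subgroup.commutator_mem_commutator (H.inv_mem hd)
        (H.mul_mem (H.mul_mem (H.mul_mem (H.mul_mem hc hd) (H.inv_mem hc)) (H.inv_mem hd)) hc)
    have hle : H ≤ ⁅H, H⁆ := by
      rw [hH, Subgroup.closure_le]
      intro x hx
      rcases hx with rfl | rfl
      · exact hcc
      · exact hdc
    have htop : commutator H = ⊤ := by
      apply Subgroup.map_injective H.subtype_injective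
      rw [Subgroup.map_subtype_commutator, ← MonoidHom.range_eq_map, Subgroup.range_subtype]
      refine le_antisymm (Subgroup.commutator_le.2 fun g₁ h₁ g₂ h₂ => ?_) hle
      rw [commutatorElement_def]
      exact H.mul_mem (H.mul_mem (H.mul_mem h₁ h₂) (H.inv_mem h₁)) (H.inv_mem h₂)
    haveI : Nontrivial H := ⟨⟨⟨fpbase6a_c, hc⟩, 1, fun h => fpbase6a_c_ne_one (congrArg Subtype.val h)⟩⟩
    haveI : Group.IsSolvable H := hsol
    exact (Group.IsSolvable.commutator_lt_top_of_nontrivial H).ne htop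

end Cfsg.Agent.Lib.Helper83.Fp
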