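import Mathlib
import Cfsg.Prelude.Def_SolvableStructure

set_option autoImplicit false

namespace Cfsg.Agent.Lib.Helper9

/-- An element normalizing `H` whose order is coprime to the index of `H` lies in `H`. -/
theorem mem_of_mem_normalizer_of_coprime {G : Type*} [Group G] (H : Subgroup G) (x : G)
    (hx : x ∈ Subgroup.normalizer (H : Set G)) (hc : (orderOf x).Coprime H.index) : x ∈ H := by
  set M := Subgroup.normalizer (H : Set G) with hM
  have hHM : H ≤ M := Subgroup.le_normalizer
  have hn : (H.subgroupOf M).Normal := Subgroup.normal_in_normalizer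
  set x' : M := ⟨x, hx⟩ with hx'
  have h1 : (H.subgroupOf M).relIndex (Subgroup.zpowers x') ∣ Nat.card (Subgroup.zpowers x') :=
    Subgroup.relIndex_dvd_card _ _
  have h2 : (H.subgroupOf M).relIndex (Subgroup.zpowers x') ∣ (H.subgroupOf M).index :=
    Subgroup.relIndex_dvd_index_of_normal _ _
  have h3 : (H.subgroupOf M).index ∣ H.index := Subgroup.relIndex_dvd_index_of_le hHM
  have h4 : Nat.card (Subgroup.zpowers x') = orderOf x := by
    rw [Nat.card_zpowers, ← Subgroup.orderOf_coe]
  rw [h4] at h1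
  have h5 : (H.subgroupOf M).relIndex (Subgroup.zpowers x') = 1 :=
    Nat.eq_one_of_dvd_coprimes hc h1 (h2.trans h3)
  have h6 := Subgroup.relIndex_eq_one.mp h5
  have h7 : x' ∈ H.subgroupOf M := h6 (Subgroup.mem_zpowers x')
  exact Subgroup.mem_subgroupOf.mp h7

theorem card_coprime_of_isComplementSystem {G : Type*} [Group G] [Finite G]
    (K : Nat.Primes → Subgroup G) (hK : Cfsg.IsComplementSystem K) (q : Nat.Primes) :
    ¬ (q : ℕ) ∣ Nat.card (K q) := by
  intro hd
  have h1 := Subgroup.index_mul_card (K q)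
  rw [hK q] at h1
  obtain ⟨c, hc⟩ := hd
  rw [hc, ← mul_assoc, ← pow_succ] at h1
  have h2 : (q : ℕ) ^ ((Nat.card G).factorization q + 1) ∣ Nat.card G := ⟨c, h1.symm⟩
  exact Nat.pow_succ_factorization_not_dvd Nat.card_pos.ne' q.2 h2

theorem isNilpotent_systemNormalizer {G : Type*} [Group G] [Finite G]
    (K : Nat.Primes → Subgroup G) (hK : Cfsg.IsComplementSystem K) :
    Group.IsNilpotent (Cfsg.systemNormalizer K) := by
  set D := Cfsg.systemNormalizer K with hD
  have hDle : ∀ q : Nat.Primes, D ≤ Subgroup.normalizer (K q : Set G) := by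
    intro q
    rw [hD, Cfsg.systemNormalizer]
    exact iInf_le _ q
  apply (Group.isNilpotent_of_finite_tfae (G := D)).out 3 0 rfl rfl |>.mp
  intro p hp P
  set T : Subgroup D := ⨅ q : {q : Nat.Primes // (q : ℕ) ≠ p}, (K q).subgroupOf D with hT
  have hTn : T.Normal := by
    apply Subgroup.normal_iInf_normal
    intro q
    exact Subgroup.normal_subgroupOf_of_le_normalizer (hDle q)
  have hPT : (P : Subgroup D) ≤ T := by
    intro y hy
    rw [hT, Subgroup.mem_iInf]
    intro q
    rw [Subgroup.mem_subgroupOf]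
    apply mem_of_mem_normalizer_of_coprime (K q) (y : G) (hDle q y.2)
    obtain ⟨k, hk⟩ := (IsPGroup.iff_orderOf.mp P.isPGroup') ⟨y, hy⟩
    have hk' : orderOf (y : G) = p ^ k := by
      rw [Subgroup.orderOf_coe, ← hk, ← Subgroup.orderOf_coe (⟨y, hy⟩ : (P : Subgroup D))]
    rw [hk', hK q]
    apply Nat.Coprime.pow
    exact (Nat.coprime_primes hp.out q.1.2).mpr (fun h => q.2 h.symm)
  have hTp : IsPGroup p T := by
    rw [IsPGroup.iff_orderOf]
    intro y
    have hpos : orderOf y ≠ 0 := (orderOf_pos y).ne'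
    refine ⟨_, Nat.eq_prime_pow_of_unique_prime_dvd hpos ?_⟩
    intro d hd hdd
    by_contra hne
    have hy : (y : D) ∈ ⨅ q : {q : Nat.Primes // (q : ℕ) ≠ p}, (K q).subgroupOf D := y.2
    rw [Subgroup.mem_iInf] at hy
    have hy' := hy ⟨⟨d, hd⟩, hne⟩
    rw [Subgroup.mem_subgroupOf] at hy'
    have h1 : orderOf ((y : D) : G) ∣ Nat.card (K ⟨d, hd⟩) := by
      have := orderOf_dvd_natCard (⟨_, hy'⟩ : K ⟨d, hd⟩)
      rwa [Subgroup.orderOf_mk] at this
    have h2 : orderOf y = orderOf ((y : D) : G) := by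
      rw [Subgroup.orderOf_coe, Subgroup.orderOf_coe]
    rw [h2] at hdd
    exact card_coprime_of_isComplementSystem K hK ⟨d, hd⟩ (hdd.trans h1)
  have : T = P := P.is_maximal' hTp hPT
  rw [← this]
  exact hTn

end Cfsg.Agent.Lib.Helper9
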