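import Mathlib
import Cfsg.Prelude.Def_SolvableStructure
import Cfsg.Agent.Lib.Helper1.HallConj
import Cfsg.Agent.Lib.Helper9.CoprimeIndex
import Cfsg.Agent.Lib.Helper9.SubnormalSylow
import Cfsg.Agent.Lib.Helper9.SystemNormalizer

set_option autoImplicit false

namespace Cfsg.Agent.Lib.Helper9

open scoped Pointwise

theorem index_conj_smul {G : Type*} [Group G] (g : G) (H : Subgroup G) :
    (MulAut.conj g • H).index = H.index := by
  rw [Subgroup.pointwise_smul_def]
  exact Subgroup.index_map_equiv (H := H) (MulAut.conj g)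

theorem card_eq_of_index_eq {G : Type*} [Group G] [Finite G] (H H' : Subgroup G)
    (h : H.index = H'.index) : Nat.card H = Nat.card H' := by
  have h1 := Subgroup.index_mul_card H
  have h2 := Subgroup.index_mul_card H'
  rw [h] at h1
  have : H'.index * Nat.card H = H'.index * Nat.card H' := by rw [h1, h2]
  exact Nat.eq_of_mul_eq_mul_left (Nat.pos_of_ne_zero Subgroup.index_ne_zero_of_finite) this

/-- One step of the simultaneous conjugation argument. -/
theorem conj_step {G : Type*} [Group G] [Finite G] [Group.IsSolvable G] (N : Subgroup G)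
    [hNn : N.Normal] (q : ℕ) (hq : q.Prime) (H H' I : Subgroup G)
    (hidx : ∃ v, H.index = q ^ v) (hidx' : H'.index = H.index) (hqH : ¬ q ∣ Nat.card H)
    (hsup : H ⊔ N = H' ⊔ N) (hI : (I.relIndex N).Coprime q) :
    ∃ j ∈ N ⊓ I, MulAut.conj j • H' = H := by
  obtain ⟨v, hv⟩ := hidx
  set M := H ⊔ N with hM
  have hHM : H ≤ M := le_sup_left
  have hH'M : H' ≤ M := by rw [hsup]; exact le_sup_left
  have hNM : N ≤ M := le_sup_right
  -- Hall conjugacy inside `M`
  have hcardeq : Nat.card H' = Nat.card H := card_eq_of_index_eq H' H hidx'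
  have hk : H.relIndex M ∣ q ^ v := by
    rw [← hv]; exact Subgroup.relIndex_dvd_index_of_le hHM
  obtain ⟨j₀, -, hj₀⟩ := (Nat.dvd_prime_pow hq).mp hk
  have hcardM : Nat.card M = Nat.card H * q ^ j₀ := by
    have := Subgroup.relIndex_mul_relIndex ⊥ H M bot_le hHM
    rw [Subgroup.relIndex_bot_left, Subgroup.relIndex_bot_left, hj₀] at this
    exact this.symm
  have hcop : (Nat.card H).Coprime (q ^ j₀) := by
    apply Nat.Coprime.pow_right
    exact (Nat.Coprime.symm ((Nat.Prime.coprime_iff_not_dvd hq).mpr hqH))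
  have hsolv : Group.IsSolvable M := inferInstance
  obtain ⟨y, hy⟩ := Cfsg.Agent.Lib.Helper1.hallConj_all M hsolv (Nat.card H) (q ^ j₀) hcardM hcop
    (H.subgroupOf M) (H'.subgroupOf M)
    (Cfsg.Agent.Lib.Helper1.card_subgroupOf_of_le hHM)
    ((Cfsg.Agent.Lib.Helper1.card_subgroupOf_of_le hH'M).trans hcardeq)
  have hy' : MulAut.conj (y : G) • H = H' :=
    Cfsg.Agent.Lib.Helper1.conj_of_conj_subgroupOf hHM hH'M y hy
  -- write `y = n₀ * k₀`
  have hymem : (y : G) ∈ ((N ⊔ H : Subgroup G) : Set G) := by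
    rw [sup_comm]; exact y.2
  rw [Subgroup.normal_mul] at hymem
  obtain ⟨n₀, hn₀, k₀, hk₀, hnk⟩ := hymem
  have hn₀' : MulAut.conj n₀ • H = H' := by
    rw [← hy', ← hnk, map_mul, mul_smul, Subgroup.conj_smul_eq_self_of_mem hk₀]
  -- decompose `n₀` inside `N`
  have hcopidx : ((I.subgroupOf N).index).Coprime
      (((Subgroup.normalizer (H : Set G)).subgroupOf N).index) := by
    have h1 : ((Subgroup.normalizer (H : Set G)).subgroupOf N).index ∣ q ^ v := by
      have h2 : (Subgroup.normalizer (H : Set G)).relIndex N ∣ H.relIndex N :=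
        Subgroup.relIndex_dvd_of_le_left N Subgroup.le_normalizer
      have h3 : H.relIndex N ∣ H.index := relIndex_dvd_index_of_normal_right H N
      rw [hv] at h3
      exact h2.trans h3
    exact Nat.Coprime.coprime_dvd_right h1 (Nat.Coprime.pow_right v hI)
  obtain ⟨a, ha, b, hb, hab⟩ := exists_mul_of_coprime_index (I.subgroupOf N)
    ((Subgroup.normalizer (H : Set G)).subgroupOf N) hcopidx ⟨n₀, hn₀⟩
  rw [Subgroup.mem_subgroupOf] at ha hb
  have hab' : n₀ = (a : G) * (b : G) := congrArg Subtype.val hab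
  have hb' : MulAut.conj (b : G) • H = H :=
    Cfsg.Agent.Lib.Helper1.conj_smul_eq_of_mem_normalizer hb
  have ha' : MulAut.conj (a : G) • H = H' := by
    rw [← hn₀', hab', map_mul, mul_smul, hb']
  refine ⟨(a : G)⁻¹, ⟨N.inv_mem a.2, I.inv_mem ha⟩, ?_⟩
  rw [← ha', ← mul_smul, ← map_mul, inv_mul_cancel, map_one, one_smul]


theorem relIndex_inf_of_coprime {G : Type*} [Group G] [Finite G] (N I K : Subgroup G)
    (h : (I.relIndex N).Coprime (K.relIndex N)) :
    (I ⊓ K).relIndex N = I.relIndex N * K.relIndex N := by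
  have h1 : (I ⊓ K).subgroupOf N = I.subgroupOf N ⊓ K.subgroupOf N := by
    ext x; simp [Subgroup.mem_subgroupOf]
  unfold Subgroup.relIndex
  rw [h1]
  exact index_inf_of_coprime_index _ _ h

theorem exists_inf_system {G : Type*} [Group G] [Finite G] (N : Subgroup G) [N.Normal]
    (K : Nat.Primes → Subgroup G) (hK : Cfsg.IsComplementSystem K) (T : Finset ℕ) :
    ∃ I : Subgroup G, (∀ p : Nat.Primes, (p : ℕ) ∈ T → I ≤ K p) ∧
      (∀ r : ℕ, r.Prime → r ∣ I.relIndex N → r ∈ T) := by
  classical
  induction T using Finset.induction_on with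
  | empty =>
    refine ⟨⊤, fun p hp => absurd hp (Finset.notMem_empty _), ?_⟩
    intro r hr hrd
    rw [Subgroup.relIndex_top_left] at hrd
    exact absurd (Nat.dvd_one.mp hrd) hr.one_lt.ne'
  | insert q T hqT ih =>
    obtain ⟨I, hI1, hI2⟩ := ih
    by_cases hq : q.Prime
    · set qq : Nat.Primes := ⟨q, hq⟩ with hqq
      have hKq : (K qq).relIndex N ∣ q ^ (Nat.card G).factorization q := by
        have := relIndex_dvd_index_of_normal_right (K qq) N
        rwa [hK qq] at this
      have hcop : (I.relIndex N).Coprime ((K qq).relIndex N) := by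
        apply Nat.coprime_of_dvd
        intro r hr hr1 hr2
        have h1 : r ∈ T := hI2 r hr hr1
        have h2 : r ∣ q ^ (Nat.card G).factorization q := hr2.trans hKq
        have h3 : r = q := (Nat.prime_dvd_prime_iff_eq hr hq).mp (hr.dvd_of_dvd_pow h2)
        exact hqT (h3 ▸ h1)
      refine ⟨I ⊓ K qq, ?_, ?_⟩
      · intro p hp
        rw [Finset.mem_insert] at hp
        rcases hp with hp | hp
        · have : p = qq := Subtype.ext hp
          rw [this]; exact inf_le_right
        · exact inf_le_left.trans (hI1 p hp)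
      · intro r hr hrd
        rw [relIndex_inf_of_coprime N I (K qq) hcop] at hrd
        rw [Finset.mem_insert]
        rcases (Nat.Prime.dvd_mul hr).mp hrd with h | h
        · exact Or.inr (hI2 r hr h)
        · left
          exact (Nat.prime_dvd_prime_iff_eq hr hq).mp (hr.dvd_of_dvd_pow (h.trans hKq))
    · refine ⟨I, ?_, ?_⟩
      · intro p hp
        rw [Finset.mem_insert] at hp
        rcases hp with hp | hp
        · exact absurd (hp ▸ p.2) hq
        · exact hI1 p hp
      · intro r hr hrd
        exact Finset.mem_insert_of_mem (hI2 r hr hrd)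

theorem eq_top_of_not_dvd {G : Type*} [Group G] [Finite G] (K : Nat.Primes → Subgroup G)
    (hK : Cfsg.IsComplementSystem K) (p : Nat.Primes) (hp : ¬ (p : ℕ) ∣ Nat.card G) :
    K p = ⊤ := by
  have := hK p
  rw [Nat.factorization_eq_zero_of_not_dvd hp, pow_zero] at this
  exact Subgroup.index_eq_one.mp this

/-- Two Hall complement systems that agree modulo a normal subgroup `N` are simultaneously
conjugate by an element of `N`. -/
theorem complement_system_rel_conj {G : Type*} [Group G] [Finite G] [Group.IsSolvable G]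
    (N : Subgroup G) [hNn : N.Normal] (K K' : Nat.Primes → Subgroup G)
    (hK : Cfsg.IsComplementSystem K) (hK' : Cfsg.IsComplementSystem K')
    (hN : ∀ p, K p ⊔ N = K' p ⊔ N) :
    ∃ n ∈ N, ∀ p, MulAut.conj n • K' p = K p := by
  classical
  have key : ∀ T : Finset ℕ, ∃ n ∈ N, ∀ p : Nat.Primes, (p : ℕ) ∈ T →
      MulAut.conj n • K' p = K p := by
    intro T
    induction T using Finset.induction_on with
    | empty => exact ⟨1, N.one_mem, fun p hp => absurd hp (Finset.notMem_empty _)⟩
    | insert q T hqT ih =>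
      obtain ⟨n, hn, hnT⟩ := ih
      by_cases hq : q.Prime
      · set qq : Nat.Primes := ⟨q, hq⟩ with hqq
        obtain ⟨I, hI1, hI2⟩ := exists_inf_system N K hK T
        have hsup : K qq ⊔ N = MulAut.conj n • K' qq ⊔ N := by
          have h1 : MulAut.conj n • (K' qq ⊔ N) = K' qq ⊔ N :=
            Subgroup.conj_smul_eq_self_of_mem ((le_sup_right : N ≤ K' qq ⊔ N) hn)
          rw [Subgroup.smul_sup, Subgroup.Normal.conj_smul_eq_self n N] at h1
          rw [h1, hN qq]
        have hIcop : (I.relIndex N).Coprime q :=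
          Nat.Coprime.symm ((Nat.Prime.coprime_iff_not_dvd hq).mpr
            (fun hd => hqT (hI2 q hq hd)))
        obtain ⟨j, hj, hjq⟩ := conj_step N q hq (K qq) (MulAut.conj n • K' qq) I
          ⟨_, hK qq⟩ (by rw [index_conj_smul, hK' qq, hK qq])
          (card_coprime_of_isComplementSystem K hK qq) hsup hIcop
        refine ⟨j * n, N.mul_mem hj.1 hn, ?_⟩
        intro p hp
        rw [map_mul, mul_smul]
        rw [Finset.mem_insert] at hp
        rcases hp with hp | hp
        · have : p = qq := Subtype.ext hp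
          rw [this]; exact hjq
        · rw [hnT p hp]
          exact Subgroup.conj_smul_eq_self_of_mem (hI1 p hp hj.2)
      · refine ⟨n, hn, ?_⟩
        intro p hp
        rw [Finset.mem_insert] at hp
        rcases hp with hp | hp
        · exact absurd (hp ▸ p.2) hq
        · exact hnT p hp
  obtain ⟨n, hn, hnT⟩ := key (Nat.card G).primeFactors
  refine ⟨n, hn, ?_⟩
  intro p
  by_cases hp : (p : ℕ) ∈ (Nat.card G).primeFactors
  · exact hnT p hp
  · have hpd : ¬ (p : ℕ) ∣ Nat.card G := by
      intro hd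
      exact hp (Nat.mem_primeFactors.mpr ⟨p.2, hd, Nat.card_pos.ne'⟩)
    rw [eq_top_of_not_dvd K hK p hpd, eq_top_of_not_dvd K' hK' p hpd]
    exact Subgroup.Normal.conj_smul_eq_self n ⊤

end Cfsg.Agent.Lib.Helper9
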