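import Mathlib
import Cfsg.Agent.Lib.Helper9.ComplementSystem

set_option autoImplicit false

namespace Cfsg.Agent.Lib.Helper9

open scoped Pointwise

theorem isComplementSystem_map {G : Type*} [Group G] [Finite G]
    (K : Nat.Primes → Subgroup G) (hK : Cfsg.IsComplementSystem K) (N : Subgroup G) [N.Normal] :
    Cfsg.IsComplementSystem (fun p => (K p).map (QuotientGroup.mk' N)) := by
  intro p
  set π := QuotientGroup.mk' N with hπ
  have hsurj : Function.Surjective π := QuotientGroup.mk'_surjective N
  have hp : (p : ℕ).Prime := p.2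
  have h1 : ((K p).map π).index ∣ (p : ℕ) ^ (Nat.card G).factorization p := by
    rw [← hK p]; exact Subgroup.index_map_dvd (K p) hsurj
  obtain ⟨j, -, hj⟩ := (Nat.dvd_prime_pow hp).mp h1
  have h2 : ¬ (p : ℕ) ∣ Nat.card ((K p).map π) := by
    intro hd
    exact card_coprime_of_isComplementSystem K hK p (hd.trans (Subgroup.card_map_dvd (K p) π))
  have h3 := Subgroup.index_mul_card ((K p).map π)
  show ((K p).map π).index = (p : ℕ) ^ (Nat.card (G ⧸ N)).factorization p
  have h4 : (Nat.card ((K p).map π)).factorization p = 0 :=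
    Nat.factorization_eq_zero_of_not_dvd h2
  rw [← h3, hj, Nat.factorization_mul (pow_ne_zero _ hp.ne_zero) Nat.card_pos.ne']
  rw [Finsupp.add_apply, h4, hp.factorization_pow]
  simp

theorem systemNormalizer_map {G : Type*} [Group G] [Finite G] [Group.IsSolvable G]
    (K : Nat.Primes → Subgroup G) (hK : Cfsg.IsComplementSystem K) (N : Subgroup G) [N.Normal] :
    Cfsg.systemNormalizer (fun p => (K p).map (QuotientGroup.mk' N)) =
      (Cfsg.systemNormalizer K).map (QuotientGroup.mk' N) := by
  set π := QuotientGroup.mk' N with hπ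
  have hsurj : Function.Surjective π := QuotientGroup.mk'_surjective N
  apply le_antisymm
  · intro xbar hx
    obtain ⟨x, rfl⟩ := hsurj xbar
    unfold Cfsg.systemNormalizer at hx
    rw [Subgroup.mem_iInf] at hx
    set K' : Nat.Primes → Subgroup G := fun p => MulAut.conj x • K p with hK'def
    have hK' : Cfsg.IsComplementSystem K' := by
      intro p
      show (MulAut.conj x • K p).index = _
      rw [index_conj_smul, hK p]
    have hsup : ∀ p, K p ⊔ N = K' p ⊔ N := by
      intro p
      have h1 : (K' p).map π = (K p).map π := by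
        show (MulAut.conj x • K p).map π = _
        rw [Cfsg.Agent.Lib.Helper1.map_conj_smul]
        exact Cfsg.Agent.Lib.Helper1.conj_smul_eq_of_mem_normalizer (hx p)
      have h2 := congrArg (Subgroup.comap π) h1
      rw [Subgroup.comap_map_eq, Subgroup.comap_map_eq, hπ, QuotientGroup.ker_mk'] at h2
      exact h2.symm
    obtain ⟨n, hn, hnp⟩ := complement_system_rel_conj N K K' hK hK' hsup
    refine ⟨n * x, ?_, ?_⟩
    · unfold Cfsg.systemNormalizer
      rw [SetLike.mem_coe, Subgroup.mem_iInf]
      intro p
      apply Cfsg.Agent.Lib.Helper1.mem_normalizer_of_conj_smul_eq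
      rw [map_mul, mul_smul]
      exact hnp p
    · rw [map_mul]
      have : π n = 1 := by
        rw [← MonoidHom.mem_ker, hπ, QuotientGroup.ker_mk']; exact hn
      rw [this, one_mul]
  · rintro _ ⟨x, hx, rfl⟩
    unfold Cfsg.systemNormalizer at hx ⊢
    rw [SetLike.mem_coe, Subgroup.mem_iInf] at hx
    rw [Subgroup.mem_iInf]
    intro p
    exact Subgroup.le_normalizer_map π (Subgroup.mem_map_of_mem π (hx p))

end Cfsg.Agent.Lib.Helper9
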