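import Mathlib
import Cfsg.Agent.Lib.Helper9.ComplementSystemQuot
import Cfsg.Agent.Lib.Helper9.PrimitiveSolvable
import Cfsg.Agent.Lib.Helper9.Supersolvable6

set_option autoImplicit false

namespace Cfsg.Agent.Lib.Helper9

/-- A `p`-subgroup acting by conjugation on a nontrivial normal `p`-subgroup has a nontrivial
fixed point. -/
theorem exists_ne_one_comm_of_isPGroup {G : Type*} [Group G] [Finite G] (p : ℕ)
    [hp : Fact p.Prime] (S B : Subgroup G) [hBn : B.Normal] (hS : IsPGroup p S)
    (hB : IsPGroup p B) (hne : B ≠ ⊥) :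
    ∃ b ∈ B, b ≠ 1 ∧ ∀ s ∈ S, s * b = b * s := by
  let φ : S →* MulAut B := (MulAut.conjNormal (H := B)).comp S.subtype
  let _ : MulAction S B := MulAction.compHom B φ
  have hsmul : ∀ (x : S) (n : B), ((x • n : B) : G) = (x : G) * n * (x : G)⁻¹ := by
    intro x n
    rfl
  have hNnt : Nontrivial B := (Subgroup.nontrivial_iff_ne_bot B).mpr hne
  have hdvd : p ∣ Nat.card B := by
    obtain ⟨k, hk⟩ := hB.exists_card_eq
    rw [hk]
    have : k ≠ 0 := by
      rintro rfl
      rw [pow_zero] at hk
      have := Finite.one_lt_card_iff_nontrivial.mpr hNnt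
      omega
    exact dvd_pow_self p this
  have h1 : (1 : B) ∈ MulAction.fixedPoints S B := by
    intro x
    apply Subtype.ext
    rw [hsmul]
    simp
  obtain ⟨b, hb, hb1⟩ := hS.exists_fixed_point_of_prime_dvd_card_of_fixed_point B hdvd h1
  refine ⟨b, b.2, ?_, ?_⟩
  · intro h
    exact hb1 (Subtype.ext h.symm)
  · intro x hx
    have := congrArg Subtype.val (hb ⟨x, hx⟩)
    rw [hsmul] at this
    simp only at this
    calc x * (b : G) = (x * (b : G) * x⁻¹) * x := by group
      _ = (b : G) * x := by rw [this]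

theorem center_le_systemNormalizer {G : Type*} [Group G] (K : Nat.Primes → Subgroup G) :
    Subgroup.center G ≤ Cfsg.systemNormalizer K := by
  unfold Cfsg.systemNormalizer
  exact le_iInf fun p => Subgroup.center_le_normalizer _

/-- The normalizer of the Hall `p'`-subgroup avoids eccentric minimal normal `p`-subgroups. -/
theorem minimal_normal_inf_normalizer_eq_bot {G : Type*} [Group G] [Finite G]
    [Group.IsSolvable G] (K : Nat.Primes → Subgroup G) (hK : Cfsg.IsComplementSystem K)
    (B : Subgroup G) [hBn : B.Normal] (hB : B ≠ ⊥)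
    (hmin : ∀ N : Subgroup G, N.Normal → N ≤ B → N = ⊥ ∨ N = B)
    (hecc : ¬ B ≤ Subgroup.center G) (p d : ℕ) (hp : p.Prime) (hBc : Nat.card B = p ^ d) :
    B ⊓ Subgroup.normalizer ((K ⟨p, hp⟩ : Subgroup G) : Set G) = ⊥ := by
  have hcomm := minimal_normal_comm B hB hmin
  have hfact : Fact p.Prime := ⟨hp⟩
  have hBp : IsPGroup p B := IsPGroup.of_card hBc
  set C := Subgroup.centralizer (B : Set G) with hC
  have hCn : C.Normal := inferInstance
  have hBC : B ≤ C := by
    intro x hx
    rw [hC, Subgroup.mem_centralizer_iff]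
    intro y hy
    exact hcomm y hy x hx
  have hCne : C ≠ ⊤ := by
    intro h
    apply hecc
    intro b hb
    rw [Subgroup.mem_center_iff]
    intro g
    have hg : g ∈ C := by rw [h]; exact Subgroup.mem_top g
    rw [hC, Subgroup.mem_centralizer_iff] at hg
    exact (hg b hb).symm
  -- minimal normal subgroup of G/C
  set π := QuotientGroup.mk' C with hπ
  have hπs : Function.Surjective π := QuotientGroup.mk'_surjective C
  have hQnt : Nontrivial (G ⧸ C) := by
    rw [← Finite.one_lt_card_iff_nontrivial, ← Subgroup.index_eq_card]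
    have h1 : C.index ≠ 1 := fun h => hCne (Subgroup.index_eq_one.mp h)
    have h2 : C.index ≠ 0 := Subgroup.index_ne_zero_of_finite
    omega
  obtain ⟨Mb, hMn, hMne, -, hMmin⟩ :=
    exists_minimal_normal_le (⊤ : Subgroup (G ⧸ C)) top_ne_bot
  have hMmin' : ∀ N : Subgroup (G ⧸ C), N.Normal → N ≤ Mb → N = ⊥ ∨ N = Mb := by
    intro N hN hle
    by_cases h : N = ⊥
    · exact Or.inl h
    · exact Or.inr (hMmin N hN h hle)
  obtain ⟨r, j, hr, hj, hMc⟩ := minimal_normal_card Mb hMne hMmin'
  set L := Mb.comap π with hL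
  have hLn : L.Normal := hMn.comap π
  have hCL : C ≤ L := by
    intro x hx
    rw [hL, Subgroup.mem_comap]
    have : π x = 1 := by rw [hπ]; exact (QuotientGroup.eq_one_iff x).mpr hx
    rw [this]; exact Mb.one_mem
  have hLC : ¬ L ≤ C := by
    intro h
    apply hMne
    rw [eq_bot_iff]
    intro y hy
    obtain ⟨x, rfl⟩ := hπs y
    have hx : x ∈ L := hy
    rw [Subgroup.mem_bot, hπ]
    exact (QuotientGroup.eq_one_iff x).mpr (h hx)
  have hLcard : Nat.card L = r ^ j * Nat.card C := by
    rw [hL, card_comap_mk', hMc]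
  have hrel : C.relIndex L = r ^ j := by
    have h1 := relIndex_mul_card_inf C L
    rw [inf_eq_left.mpr hCL, hLcard] at h1
    exact Nat.eq_of_mul_eq_mul_right Nat.card_pos h1
  -- F = C_B(L) is trivial
  set F := B ⊓ Subgroup.centralizer (L : Set G) with hF
  have hFn : F.Normal := Subgroup.normal_inf_normal _ _
  have hFB : F = ⊥ := by
    rcases hmin F hFn inf_le_left with h | h
    · exact h
    · exfalso
      apply hLC
      have h1 : B ≤ Subgroup.centralizer (L : Set G) := by
        rw [← h]; exact inf_le_right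
      exact Subgroup.le_centralizer_iff.mp h1
  -- elements of C commute with elements of B
  have hCcomm : ∀ c ∈ C, ∀ b ∈ B, c * b = b * c := by
    intro c hc b hb
    rw [hC, Subgroup.mem_centralizer_iff] at hc
    exact (hc b hb).symm
  by_cases hrp : r = p
  · -- impossible
    exfalso
    subst hrp
    let S : Sylow r L := default
    have hS' : IsPGroup r ((S : Subgroup L).map L.subtype) := S.isPGroup'.map _
    obtain ⟨b, hbB, hb1, hbS⟩ :=
      exists_ne_one_comm_of_isPGroup r ((S : Subgroup L).map L.subtype) B hS' hBp hB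
    apply hb1
    have hbF : b ∈ F := by
      refine ⟨hbB, ?_⟩
      show b ∈ Subgroup.centralizer (L : Set G)
      rw [Subgroup.mem_centralizer_iff]
      intro l hl
      have hcop : ((S : Subgroup L).index).Coprime (C.subgroupOf L).index := by
        show ((S : Subgroup L).index).Coprime (C.relIndex L)
        rw [hrel]
        apply Nat.Coprime.pow_right
        rw [Nat.coprime_comm, hr.coprime_iff_not_dvd]
        exact S.not_dvd_index
      obtain ⟨a, ha, c, hc, hl'⟩ := exists_mul_of_coprime_index (S : Subgroup L)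
        (C.subgroupOf L) hcop ⟨l, hl⟩
      have hl'' : l = (a : G) * (c : G) := congrArg Subtype.val hl'
      have h1 : (a : G) * b = b * a := hbS a ⟨a, ha, rfl⟩
      have h2 : (c : G) * b = b * c := hCcomm c (Subgroup.mem_subgroupOf.mp hc) b hbB
      rw [hl'', mul_assoc, h2, ← mul_assoc, h1, mul_assoc]
    rw [hFB, Subgroup.mem_bot] at hbF
    exact hbF
  · -- r ≠ p
    rw [eq_bot_iff]
    intro x hx
    rw [← hFB]
    refine ⟨hx.1, ?_⟩
    show x ∈ Subgroup.centralizer (L : Set G)
    rw [Subgroup.mem_centralizer_iff]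
    intro l hl
    set H := K ⟨p, hp⟩ with hH
    have hxH : x ∈ Subgroup.normalizer (H : Set G) := hx.2
    have hHB : H ⊓ B = ⊥ := by
      apply disjoint_iff.mp
      apply Subgroup.disjoint_of_coprime_natCard
      rw [hBc]
      apply Nat.Coprime.pow_right
      rw [Nat.coprime_comm, hp.coprime_iff_not_dvd]
      exact card_coprime_of_isComplementSystem K hK ⟨p, hp⟩
    have hcop : ((H.subgroupOf L).index).Coprime (C.subgroupOf L).index := by
      show (H.relIndex L).Coprime (C.relIndex L)
      rw [hrel]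
      have h1 : H.relIndex L ∣ p ^ (Nat.card G).factorization p := by
        have := relIndex_dvd_index_of_normal_right H L
        rwa [hH, hK ⟨p, hp⟩] at this
      apply Nat.Coprime.coprime_dvd_left h1
      apply Nat.Coprime.pow
      exact (Nat.coprime_primes hp hr).mpr (Ne.symm hrp)
    obtain ⟨a, ha, c, hc, hl'⟩ := exists_mul_of_coprime_index (H.subgroupOf L)
      (C.subgroupOf L) hcop ⟨l, hl⟩
    have hl'' : l = (a : G) * (c : G) := congrArg Subtype.val hl'
    have haH : (a : G) ∈ H := Subgroup.mem_subgroupOf.mp ha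
    have h1 : (a : G) * x = x * a := by
      have hmem : x * (a : G) * x⁻¹ * (a : G)⁻¹ ∈ H ⊓ B := by
        constructor
        · apply H.mul_mem _ (H.inv_mem haH)
          rw [Subgroup.mem_normalizer_iff] at hxH
          exact (hxH a).mp haH
        · have h3 : (a : G) * x⁻¹ * (a : G)⁻¹ ∈ B := hBn.conj_mem _ (B.inv_mem hx.1) a
          have h4 : x * (a : G) * x⁻¹ * (a : G)⁻¹ = x * ((a : G) * x⁻¹ * (a : G)⁻¹) := by group
          rw [h4]
          exact B.mul_mem hx.1 h3
      rw [hHB, Subgroup.mem_bot] at hmem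
      have : x * (a : G) = (x * (a : G) * x⁻¹ * (a : G)⁻¹) * ((a : G) * x) := by group
      rw [this, hmem, one_mul]
    have h2 : (c : G) * x = x * c := hCcomm c (Subgroup.mem_subgroupOf.mp hc) x hx.1
    rw [hl'', mul_assoc, h2, ← mul_assoc, h1, mul_assoc]

/-- System normalizers avoid eccentric minimal normal subgroups. -/
theorem minimal_normal_inf_systemNormalizer_eq_bot {G : Type*} [Group G] [Finite G]
    [Group.IsSolvable G] (K : Nat.Primes → Subgroup G) (hK : Cfsg.IsComplementSystem K)
    (B : Subgroup G) [hBn : B.Normal] (hB : B ≠ ⊥)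
    (hmin : ∀ N : Subgroup G, N.Normal → N ≤ B → N = ⊥ ∨ N = B)
    (hecc : ¬ B ≤ Subgroup.center G) : B ⊓ Cfsg.systemNormalizer K = ⊥ := by
  obtain ⟨p, d, hp, -, hBc⟩ := minimal_normal_card B hB hmin
  have h1 := minimal_normal_inf_normalizer_eq_bot K hK B hB hmin hecc p d hp hBc
  rw [eq_bot_iff, ← h1]
  apply inf_le_inf_left
  unfold Cfsg.systemNormalizer
  exact iInf_le _ (⟨p, hp⟩ : Nat.Primes)

end Cfsg.Agent.Lib.Helper9
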