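import Mathlib
import Cfsg.Agent.Lib.Helper9.SystemNormalizerCover

set_option autoImplicit false

namespace Cfsg.Agent.Lib.Helper9

/-- Hall's lemma on non-normal maximal subgroups: if `M` is a non-normal maximal subgroup of the
finite solvable group `G`, there is a prime `p` such that `|G : M|` is a power of `p` and, for
every complement system `K` with `K p ≤ M`, the normalizer of `K p` lies in `M`. -/
theorem normalizer_le_of_coatom_not_normal {G : Type*} [Group G] [Finite G] [Group.IsSolvable G]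
    (M : Subgroup G) (hM : IsCoatom M) (hMn : ¬ M.Normal) :
    ∃ p : Nat.Primes, (∃ d : ℕ, M.index = (p : ℕ) ^ d) ∧
      ∀ K : Nat.Primes → Subgroup G, Cfsg.IsComplementSystem K → K p ≤ M →
        Subgroup.normalizer ((K p : Subgroup G) : Set G) ≤ M := by
  set Kc := M.normalCore with hKc
  have hKcM : Kc ≤ M := M.normalCore_le
  set π := QuotientGroup.mk' Kc with hπ
  have hπs : Function.Surjective π := QuotientGroup.mk'_surjective Kc
  have hker : π.ker = Kc := QuotientGroup.ker_mk' Kc
  have hKcne : Kc ≠ ⊤ := by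
    intro h
    apply hM.1
    rw [eq_top_iff, ← h]
    exact hKcM
  have hQnt : Nontrivial (G ⧸ Kc) := by
    rw [← Finite.one_lt_card_iff_nontrivial, ← Subgroup.index_eq_card]
    have h1 : Kc.index ≠ 1 := fun h => hKcne (Subgroup.index_eq_one.mp h)
    have h2 : Kc.index ≠ 0 := Subgroup.index_ne_zero_of_finite
    omega
  obtain ⟨Nb, hNbn, hNbne, -, hNbmin⟩ :=
    exists_minimal_normal_le (⊤ : Subgroup (G ⧸ Kc)) top_ne_bot
  have hNbmin' : ∀ N : Subgroup (G ⧸ Kc), N.Normal → N ≤ Nb → N = ⊥ ∨ N = Nb := by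
    intro N hN hle
    by_cases h : N = ⊥
    · exact Or.inl h
    · exact Or.inr (hNbmin N hN h hle)
  obtain ⟨p, d, hp, hd, hNbc⟩ := minimal_normal_card Nb hNbne hNbmin'
  have hNbcomm := minimal_normal_comm Nb hNbne hNbmin'
  set N := Nb.comap π with hN
  have hNn : N.Normal := hNbn.comap π
  have hKcN : Kc ≤ N := hker.symm.le.trans (Subgroup.ker_le_comap π Nb)
  have hNmap : N.map π = Nb := Subgroup.map_comap_eq_self_of_surjective hπs Nb
  have hNM : ¬ N ≤ M := by
    intro h
    have h1 : N ≤ Kc := Subgroup.normal_le_normalCore.mpr h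
    apply hNbne
    rw [← hNmap, Subgroup.map_eq_bot_iff, hker]
    exact h1
  have hMN : M ⊔ N = ⊤ := hM.2 _ (lt_of_le_of_ne le_sup_left (fun h => hNM (h ▸ le_sup_right)))
  -- M ⊓ N = Kc
  have hcommN : ∀ a ∈ N, ∀ b ∈ N, a * b * a⁻¹ * b⁻¹ ∈ Kc := by
    intro a ha b hb
    have h1 := hNbcomm (π a) ha (π b) hb
    rw [← QuotientGroup.eq_one_iff]
    show π (a * b * a⁻¹ * b⁻¹) = 1
    simp only [map_mul, map_inv]
    rw [h1]
    group
  have hMNn : (M ⊓ N).Normal := by
    rw [← Subgroup.normalizer_eq_top_iff, eq_top_iff, ← hMN]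
    apply sup_le
    · intro m hm
      rw [Subgroup.mem_normalizer_iff]
      intro a
      constructor
      · intro ha
        exact ⟨M.mul_mem (M.mul_mem hm ha.1) (M.inv_mem hm), hNn.conj_mem a ha.2 m⟩
      · intro ha
        constructor
        · have h1 := (Subgroup.mul_mem_cancel_right M (M.inv_mem hm)).mp ha.1
          exact (Subgroup.mul_mem_cancel_left M hm).mp h1
        · have := hNn.conj_mem _ ha.2 m⁻¹
          simpa [mul_assoc] using this
    · intro n hn
      have key : ∀ n ∈ N, ∀ a ∈ M ⊓ N, n * a * n⁻¹ ∈ M ⊓ N := by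
        intro n hn a ha
        refine ⟨?_, hNn.conj_mem a ha.2 n⟩
        have h1 : n * a * n⁻¹ * a⁻¹ ∈ M := hKcM (hcommN n hn a ha.2)
        have h2 : n * a * n⁻¹ = (n * a * n⁻¹ * a⁻¹) * a := by group
        rw [h2]
        exact M.mul_mem h1 ha.1
      rw [Subgroup.mem_normalizer_iff]
      intro a
      constructor
      · exact key n hn a
      · intro ha
        have := key n⁻¹ (N.inv_mem hn) _ ha
        simpa [mul_assoc] using this
  have hMNKc : M ⊓ N = Kc := by
    apply le_antisymm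
    · exact Subgroup.normal_le_normalCore.mpr inf_le_left
    · exact le_inf hKcM hKcN
  -- eccentric
  have hecc : ¬ Nb ≤ Subgroup.center (G ⧸ Kc) := by
    intro hc
    apply hMn
    rw [← Subgroup.normalizer_eq_top_iff, eq_top_iff, ← hMN]
    apply sup_le Subgroup.le_normalizer
    intro n hn
    have key : ∀ n ∈ N, ∀ a ∈ M, n * a * n⁻¹ ∈ M := by
      intro n hn a ha
      have h1 : π n ∈ Subgroup.center (G ⧸ Kc) := hc hn
      rw [Subgroup.mem_center_iff] at h1
      have h2 : n * a * n⁻¹ * a⁻¹ ∈ Kc := by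
        rw [← QuotientGroup.eq_one_iff]
        show π (n * a * n⁻¹ * a⁻¹) = 1
        simp only [map_mul, map_inv]
        rw [← h1 (π a)]
        group
      have h3 : n * a * n⁻¹ = (n * a * n⁻¹ * a⁻¹) * a := by group
      rw [h3]
      exact M.mul_mem (hKcM h2) ha
    rw [Subgroup.mem_normalizer_iff]
    intro a
    constructor
    · exact key n hn a
    · intro ha
      have := key n⁻¹ (N.inv_mem hn) _ ha
      simpa [mul_assoc] using this
  refine ⟨⟨p, hp⟩, ⟨d, ?_⟩, ?_⟩
  · -- index
    have h1 := relIndex_sup_eq_of_normal M N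
    rw [hMN, Subgroup.relIndex_top_right] at h1
    have h2 := relIndex_mul_card_inf M N
    rw [hMNKc] at h2
    have h3 : Nat.card N = p ^ d * Nat.card Kc := by
      rw [hN, card_comap_mk', hNbc]
    rw [h3, ← h1] at h2
    exact Nat.eq_of_mul_eq_mul_right Nat.card_pos h2
  · intro K hK hKM x hx
    have hKb := isComplementSystem_map K hK Kc
    have hbot := minimal_normal_inf_normalizer_eq_bot _ hKb Nb hNbne hNbmin' hecc p d hp hNbc
    have hxtop : x ∈ M ⊔ N := by rw [hMN]; exact Subgroup.mem_top x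
    rw [Subgroup.mem_sup_of_normal_right] at hxtop
    obtain ⟨m, hm, n, hn, rfl⟩ := hxtop
    have hnK : ∀ h ∈ K ⟨p, hp⟩, n * h * n⁻¹ * h⁻¹ ∈ Kc := by
      intro h hh
      rw [← hMNKc]
      constructor
      · have h1 : (m * n) * h * (m * n)⁻¹ ∈ M := by
          apply hKM
          rw [Subgroup.mem_normalizer_iff] at hx
          exact (hx h).mp hh
        have h2 : n * h * n⁻¹ = m⁻¹ * ((m * n) * h * (m * n)⁻¹) * m := by group
        have h3 : n * h * n⁻¹ ∈ M := by
          rw [h2]
          exact M.mul_mem (M.mul_mem (M.inv_mem hm) h1) hm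
        exact M.mul_mem h3 (M.inv_mem (hKM hh))
      · have h3 : h * n⁻¹ * h⁻¹ ∈ N := hNn.conj_mem _ (N.inv_mem hn) h
        have h4 : n * h * n⁻¹ * h⁻¹ = n * (h * n⁻¹ * h⁻¹) := by group
        rw [h4]
        exact N.mul_mem hn h3
    have hπn : π n ∈ Nb ⊓ Subgroup.normalizer
        ((((fun q => (K q).map (QuotientGroup.mk' Kc)) ⟨p, hp⟩ : Subgroup (G ⧸ Kc))) : Set _) := by
      refine ⟨hn, ?_⟩
      apply Subgroup.centralizer_le_normalizer
      rw [Subgroup.mem_centralizer_iff]
      rintro _ ⟨h, hh, rfl⟩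
      have h1 := hnK h hh
      rw [← QuotientGroup.eq_one_iff] at h1
      replace h1 : π (n * h * n⁻¹ * h⁻¹) = 1 := h1
      simp only [map_mul, map_inv] at h1
      show π h * π n = π n * π h
      have h2 : π n * π h = (π n * π h * (π n)⁻¹ * (π h)⁻¹) * (π h * π n) := by group
      rw [h2, h1, one_mul]
    rw [hbot, Subgroup.mem_bot, hπ] at hπn
    have hnKc : n ∈ Kc := (QuotientGroup.eq_one_iff n).mp hπn
    exact M.mul_mem hm (hKcM hnKc)

end Cfsg.Agent.Lib.Helper9
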