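import Mathlib
import Cfsg.Agent.Lib.Helper46.AhDefs

/-!
# Ah hive (S2538), leaf AH-P3: an odd permutation in `XX M B`
-/

set_option autoImplicit false

namespace Cfsg.Agent.Lib.Helper46.Ah

open Cfsg Equiv
open Cfsg.Agent.Lib.Helper15.Hs (resSub mem_resSub)

section general

variable {G : Type*} [Group G] [Finite G] {π : Set ℕ}

theorem p3_gen2 {H A N : Subgroup G} (hHA : H ≤ A) (hNA : N ≤ A)
    (h : IsPiHall π (H.subgroupOf A)) (hN : ∀ g ∈ H, ∀ n ∈ N, g * n * g⁻¹ ∈ N) :
    ∀ p : ℕ, p.Prime → p ∈ π → ¬ p ∣ (H ⊓ N).relIndex N := by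
  intro p hp hpπ hdvd
  have hHn : H ≤ Subgroup.normalizer (N : Set G) := by
    intro g hg
    rw [Subgroup.mem_normalizer_iff]
    intro n
    refine ⟨fun hn => hN g hg n hn, fun hn => ?_⟩
    have := hN g⁻¹ (H.inv_mem hg) _ hn
    simpa [mul_assoc] using this
  have hNL : N ≤ Subgroup.normalizer (N : Set G) := Subgroup.le_normalizer
  have e1 : N.relIndex (H ⊔ N) = N.relIndex H := by
    have := @Subgroup.relIndex_sup_right ↥(Subgroup.normalizer (N : Set G)) _
      (H.subgroupOf (Subgroup.normalizer (N : Set G)))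
      (N.subgroupOf (Subgroup.normalizer (N : Set G))) _
    rwa [← Subgroup.subgroupOf_sup hHn hNL, Subgroup.relIndex_subgroupOf (sup_le hHn hNL),
      Subgroup.relIndex_subgroupOf hHn] at this
  have c1 : Nat.card N * N.relIndex (H ⊔ N) = Nat.card (H ⊔ N : Subgroup G) := by
    rw [← Subgroup.relIndex_bot_left, ← Subgroup.relIndex_bot_left]
    exact Subgroup.relIndex_mul_relIndex _ _ _ bot_le le_sup_right
  have c2 : Nat.card H * H.relIndex (H ⊔ N) = Nat.card (H ⊔ N : Subgroup G) := by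
    rw [← Subgroup.relIndex_bot_left, ← Subgroup.relIndex_bot_left]
    exact Subgroup.relIndex_mul_relIndex _ _ _ bot_le le_sup_left
  have c3 : Nat.card (H ⊓ N : Subgroup G) * (H ⊓ N).relIndex N = Nat.card N := by
    rw [← Subgroup.relIndex_bot_left, ← Subgroup.relIndex_bot_left]
    exact Subgroup.relIndex_mul_relIndex _ _ _ bot_le inf_le_right
  have c4 : Nat.card (H ⊓ N : Subgroup G) * (H ⊓ N).relIndex H = Nat.card H := by
    rw [← Subgroup.relIndex_bot_left, ← Subgroup.relIndex_bot_left]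
    exact Subgroup.relIndex_mul_relIndex _ _ _ bot_le inf_le_left
  have e2 : (H ⊓ N).relIndex H = N.relIndex H := Subgroup.inf_relIndex_left H N
  have key : H.relIndex (H ⊔ N) = (H ⊓ N).relIndex N := by
    have hpos : 0 < Nat.card H := Nat.card_pos
    have : Nat.card H * H.relIndex (H ⊔ N) = Nat.card H * (H ⊓ N).relIndex N := by
      calc Nat.card H * H.relIndex (H ⊔ N) = Nat.card (H ⊔ N : Subgroup G) := c2
        _ = Nat.card N * N.relIndex (H ⊔ N) := c1.symm
        _ = Nat.card N * (H ⊓ N).relIndex H := by rw [e1, e2]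
        _ = (Nat.card (H ⊓ N : Subgroup G) * (H ⊓ N).relIndex N) * (H ⊓ N).relIndex H := by
            rw [c3]
        _ = (Nat.card (H ⊓ N : Subgroup G) * (H ⊓ N).relIndex H) * (H ⊓ N).relIndex N := by
            ring
        _ = Nat.card H * (H ⊓ N).relIndex N := by rw [c4]
    exact Nat.eq_of_mul_eq_mul_left hpos this
  have hdiv : H.relIndex (H ⊔ N) ∣ H.relIndex A :=
    Dvd.intro _ (Subgroup.relIndex_mul_relIndex H (H ⊔ N) A le_sup_left (sup_le hHA hNA))
  rw [← key] at hdvd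
  exact h.2 p hp hpπ (dvd_trans hdvd hdiv)

end general

section leaves

variable {α : Type*} [Fintype α] [DecidableEq α] {π : Set ℕ} (M : Subgroup (Perm α)) (B : Set α)

/-- The sign of the restriction to an invariant set, as a homomorphism. -/
noncomputable def p3_phi (C : α → Prop) [DecidablePred C] (H : Subgroup (Perm α))
    (hH : ∀ g ∈ H, ∀ x, C (g x) ↔ C x) : H →* ℤˣ where
  toFun g := Perm.sign (Perm.subtypePerm g.1 (hH g.1 g.2))
  map_one' := by
    show Perm.sign (Perm.subtypePerm (1 : Perm α) _) = 1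
    rw [Perm.subtypePerm_one]
    simp
  map_mul' := by
    intro a b
    rw [← map_mul, Perm.subtypePerm_mul]
    rfl

theorem p3_phi_apply (C : α → Prop) [DecidablePred C] (H : Subgroup (Perm α))
    (hH : ∀ g ∈ H, ∀ x, C (g x) ↔ C x) (g : H) :
    p3_phi C H hH g = Perm.sign (Perm.subtypePerm g.1 (hH g.1 g.2)) := rfl

variable {M B}

theorem p3_swap_mem {x y : α} (h : Rel M B x y) : swap x y ∈ ClsPres M B := by
  intro z
  by_cases hzx : z = x
  · subst hzx
    rw [swap_apply_left]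
    exact h.symm
  · by_cases hzy : z = y
    · subst hzy
      rw [swap_apply_right]
      exact h
    · rw [swap_apply_of_ne_of_ne hzx hzy]
      exact Rel.refl M B z

theorem p3_cls_iff {g : Perm α} (hg : g ∈ ClsPres M B) (x₁ x : α) :
    Rel M B (g x) x₁ ↔ Rel M B x x₁ :=
  ⟨fun h => (hg x).symm.trans h, fun h => (hg x).trans h⟩

/-- The restriction of `k ∈ KK M B` to the class of `x₁` (identity elsewhere) lies in `XX M B`. -/
theorem p3_restrict_mem_XX (x₁ : α) [DecidablePred fun y => Rel M B y x₁] {k : Perm α}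
    (hk : k ∈ KK M B) (hC : ∀ x, Rel M B (k x) x₁ ↔ Rel M B x x₁) :
    Perm.ofSubtype (Perm.subtypePerm (p := fun y => Rel M B y x₁) k hC) ∈ XX M B := by
  refine ⟨fun x => ?_, fun x => ?_⟩
  · by_cases hx : Rel M B x x₁
    · rw [Perm.ofSubtype_subtypePerm_of_mem (p := fun y => Rel M B y x₁) hC hx]
      exact hk.2 x
    · rw [Perm.ofSubtype_subtypePerm_of_not_mem (p := fun y => Rel M B y x₁) hC hx]
      exact Rel.refl M B x
  · by_cases hx : Rel M B x x₁
    · refine ⟨k, hk, fun y hy => ?_⟩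
      exact Perm.ofSubtype_subtypePerm_of_mem (p := fun y => Rel M B y x₁) hC (hy.trans hx)
    · refine ⟨1, (KK M B).one_mem, fun y hy => ?_⟩
      have hy' : ¬ Rel M B y x₁ := fun h => hx (hy.symm.trans h)
      rw [Perm.ofSubtype_subtypePerm_of_not_mem (p := fun y => Rel M B y x₁) hC hy']
      rfl

variable (M B)

theorem exists_odd_mem_XX (hM : AltHall π M) (h2 : 2 ∈ π) {x₁ y₁ x₂ y₂ : α}
    (h1 : Rel M B x₁ y₁) (hne1 : x₁ ≠ y₁) (h2' : Rel M B x₂ y₂) (hne2 : x₂ ≠ y₂)
    (h12 : ¬ Rel M B x₁ x₂) : ∃ g ∈ XX M B, Perm.sign g = -1 := by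
  classical
  -- the normal-ish subgroup N of even class-preserving permutations
  set N : Subgroup (Perm α) := ClsPres M B ⊓ alternatingGroup α with hNdef
  have hNC : ∀ g ∈ N, ∀ x, Rel M B (g x) x₁ ↔ Rel M B x x₁ := fun g hg x =>
    p3_cls_iff hg.1 x₁ x
  let φ : N →* ℤˣ := p3_phi (fun y => Rel M B y x₁) N hNC
  -- KK = M ⊓ N
  have hKK : KK M B = M ⊓ N := by
    apply le_antisymm
    · intro k hk
      exact ⟨hk.1, hk.2, hM.1 hk.1⟩
    · intro k hk
      exact ⟨hk.1, hk.2.1⟩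
  have hKN : KK M B ≤ N := by
    rw [hKK]; exact inf_le_right
  -- M normalizes N
  have hnorm : ∀ g ∈ M, ∀ n ∈ N, g * n * g⁻¹ ∈ N := by
    intro g hg n hn
    refine ⟨fun z => ?_, ?_⟩
    · have h3 : Rel M B (n (g⁻¹ z)) (g⁻¹ z) := hn.1 (g⁻¹ z)
      have h4 := h3.smul hg
      have h5 : g (g⁻¹ z) = z := by simp
      rw [h5] at h4
      simpa using h4
    · exact (inferInstance : (alternatingGroup α).Normal).conj_mem n hn.2 g
  have hodd : ¬ 2 ∣ (KK M B).relIndex N := by
    rw [hKK]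
    exact p3_gen2 hM.1 inf_le_right hM.2 hnorm 2 Nat.prime_two h2
  -- the element g₀
  have hx₂ : ¬ Rel M B x₂ x₁ := fun h => h12 h.symm
  have hy₂ : ¬ Rel M B y₂ x₁ := fun h => h12 (h.symm.trans h2'.symm)
  have hg₀N : swap x₁ y₁ * swap x₂ y₂ ∈ N := by
    refine ⟨(ClsPres M B).mul_mem (p3_swap_mem h1) (p3_swap_mem h2'), ?_⟩
    show swap x₁ y₁ * swap x₂ y₂ ∈ alternatingGroup α
    rw [Perm.mem_alternatingGroup, map_mul, Perm.sign_swap hne1, Perm.sign_swap hne2]
    simp
  have hφg₀ : φ ⟨_, hg₀N⟩ = -1 := by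
    show Perm.sign (Perm.subtypePerm (p := fun y => Rel M B y x₁)
      (swap x₁ y₁ * swap x₂ y₂) (hNC _ hg₀N)) = -1
    rw [← Perm.sign_ofSubtype]
    have : Perm.ofSubtype (Perm.subtypePerm (p := fun y => Rel M B y x₁)
        (swap x₁ y₁ * swap x₂ y₂) (hNC _ hg₀N)) = swap x₁ y₁ := by
      ext z
      by_cases hz : Rel M B z x₁
      · rw [Perm.ofSubtype_subtypePerm_of_mem (p := fun y => Rel M B y x₁) (hNC _ hg₀N) hz]
        have hzx : z ≠ x₂ := fun h => hx₂ (h ▸ hz)
        have hzy : z ≠ y₂ := fun h => hy₂ (h ▸ hz)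
        rw [Perm.mul_apply, swap_apply_of_ne_of_ne hzx hzy]
      · rw [Perm.ofSubtype_subtypePerm_of_not_mem (p := fun y => Rel M B y x₁) (hNC _ hg₀N) hz]
        have hzx : z ≠ x₁ := fun h => hz (h ▸ Rel.refl M B x₁)
        have hzy : z ≠ y₁ := fun h => hz (h ▸ h1.symm)
        rw [swap_apply_of_ne_of_ne hzx hzy]
    rw [this, Perm.sign_swap hne1]
  -- some k ∈ KK has φ k = -1
  have hex : ∃ k, ∃ hk : k ∈ KK M B, φ ⟨k, hKN hk⟩ = -1 := by
    by_contra hcon
    push Not at hcon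
    have hall : ∀ k, ∀ hk : k ∈ KK M B, φ ⟨k, hKN hk⟩ = 1 := by
      intro k hk
      rcases Int.units_eq_one_or (φ ⟨k, hKN hk⟩) with h | h
      · exact h
      · exact absurd h (hcon k hk)
    have hle : (KK M B).subgroupOf N ≤ φ.ker := by
      intro g hg
      rw [MonoidHom.mem_ker]
      exact hall g.1 hg
    have hdvd : φ.ker.index ∣ (KK M B).relIndex N := Subgroup.index_dvd_of_le hle
    have hsurj : Function.Surjective φ := by
      intro u
      rcases Int.units_eq_one_or u with h | h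
      · exact ⟨1, by rw [map_one, h]⟩
      · exact ⟨⟨_, hg₀N⟩, by rw [hφg₀, h]⟩
    have hidx : φ.ker.index = 2 := by
      rw [Subgroup.index_ker, MonoidHom.range_eq_top.2 hsurj, Subgroup.card_top,
        Nat.card_eq_fintype_card, Fintype.card_units_int]
    rw [hidx] at hdvd
    exact hodd hdvd
  obtain ⟨k, hk, hφk⟩ := hex
  refine ⟨Perm.ofSubtype (Perm.subtypePerm (p := fun y => Rel M B y x₁) k (hNC k (hKN hk))),
    p3_restrict_mem_XX x₁ hk (hNC k (hKN hk)), ?_⟩
  rw [Perm.sign_ofSubtype]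
  exact hφk

end leaves

end Cfsg.Agent.Lib.Helper46.Ah
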