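import Mathlib
import Cfsg.Agent.Lib.Helper9.SystemNormalizerCover
import Cfsg.Agent.Lib.Helper1.Carter4
import Cfsg.Agent.S0003
import Cfsg.Agent.S0045

set_option autoImplicit false

namespace Cfsg.Agent.Lib.Helper9

open scoped Pointwise

/-- In a nilpotent group the system normalizer is the whole group. -/
theorem systemNormalizer_eq_top_of_isNilpotent {G : Type*} [Group G] [Finite G]
    [Group.IsNilpotent G] (K : Nat.Primes → Subgroup G) (hK : Cfsg.IsComplementSystem K) :
    Cfsg.systemNormalizer K = ⊤ := by
  unfold Cfsg.systemNormalizer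
  rw [iInf_eq_top]
  intro p
  rw [Subgroup.normalizer_eq_top_iff]
  apply Cfsg.Agent.Lib.Helper1.normal_of_hall_of_isNilpotent
  rw [hK p]
  apply Nat.Coprime.pow_right
  rw [Nat.coprime_comm, p.2.coprime_iff_not_dvd]
  exact card_coprime_of_isComplementSystem K hK p

theorem systemNormalizer_sup_eq_top {G : Type*} [Group G] [Finite G] [Group.IsSolvable G]
    (K : Nat.Primes → Subgroup G) (hK : Cfsg.IsComplementSystem K) (F : Subgroup G) [F.Normal]
    (hGF : Group.IsNilpotent (G ⧸ F)) : Cfsg.systemNormalizer K ⊔ F = ⊤ := by
  have h1 := systemNormalizer_map K hK F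
  have h2 := systemNormalizer_eq_top_of_isNilpotent _ (isComplementSystem_map K hK F)
  rw [h2] at h1
  have h3 := congrArg (Subgroup.comap (QuotientGroup.mk' F)) h1
  rw [Subgroup.comap_top, Subgroup.comap_map_eq, QuotientGroup.ker_mk'] at h3
  exact h3.symm

/-- In a group of nilpotent length at most two, system normalizers are self-normalizing. -/
theorem normalizer_systemNormalizer_aux : ∀ (n : ℕ) (G : Type*) [Group G] [Finite G]
    [Group.IsSolvable G], Nat.card G = n → ∀ (F : Subgroup G) [F.Normal], Group.IsNilpotent F →
    Group.IsNilpotent (G ⧸ F) → ∀ (K : Nat.Primes → Subgroup G), Cfsg.IsComplementSystem K →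
    Subgroup.normalizer ((Cfsg.systemNormalizer K : Subgroup G) : Set G) =
      Cfsg.systemNormalizer K := by
  intro n
  induction n using Nat.strong_induction_on with
  | _ n ih =>
    intro G _ _ _ hcard F hFn hF hGF K hK
    set D := Cfsg.systemNormalizer K with hD
    have hDF : D ⊔ F = ⊤ := systemNormalizer_sup_eq_top K hK F hGF
    apply le_antisymm _ Subgroup.le_normalizer
    by_cases hFb : F = ⊥
    · rw [hFb, sup_bot_eq] at hDF
      rw [hDF]
      exact le_top
    have hFnt : Nontrivial F := (Subgroup.nontrivial_iff_ne_bot F).mpr hFb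
    set Z := (Subgroup.center F).map F.subtype with hZ
    have hZn : Z.Normal := ConjAct.normal_of_characteristic_of_normal
    have hZne : Z ≠ ⊥ := by
      intro h
      rw [hZ, Subgroup.map_eq_bot_iff_of_injective _ F.subtype_injective] at h
      exact (Group.IsNilpotent.center_ne_bot (G := F)) h
    obtain ⟨N, hNn, hNne, hNZ, hNmin⟩ := exists_minimal_normal_le Z hZne
    have hNmin' : ∀ N' : Subgroup G, N'.Normal → N' ≤ N → N' = ⊥ ∨ N' = N := by
      intro N' hN' hle
      by_cases h : N' = ⊥
      · exact Or.inl h
      · exact Or.inr (hNmin N' hN' h hle)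
    have hNF : ∀ f ∈ N, ∀ y ∈ F, f * y = y * f := by
      intro f hf y hy
      obtain ⟨z, hz, rfl⟩ := hNZ hf
      have := Subgroup.mem_center_iff.mp hz ⟨y, hy⟩
      exact (congrArg Subtype.val this).symm
    have hclaim : ∀ f ∈ N, f ∈ Subgroup.normalizer (D : Set G) → f ∈ Subgroup.center G := by
      intro f hf hfn
      by_cases hc : N ≤ Subgroup.center G
      · exact hc hf
      · have hND : N ⊓ D = ⊥ :=
          minimal_normal_inf_systemNormalizer_eq_bot K hK N hNne hNmin' hc
        have hfD : ∀ d ∈ D, f * d = d * f := by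
          intro d hd
          have hmem : f * d * f⁻¹ * d⁻¹ ∈ N ⊓ D := by
            constructor
            · have h3 : d * f⁻¹ * d⁻¹ ∈ N := hNn.conj_mem _ (N.inv_mem hf) d
              have h4 : f * d * f⁻¹ * d⁻¹ = f * (d * f⁻¹ * d⁻¹) := by group
              rw [h4]
              exact N.mul_mem hf h3
            · apply D.mul_mem _ (D.inv_mem hd)
              rw [Subgroup.mem_normalizer_iff] at hfn
              exact (hfn d).mp hd
          rw [hND, Subgroup.mem_bot] at hmem
          have : f * d = (f * d * f⁻¹ * d⁻¹) * (d * f) := by group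
          rw [this, hmem, one_mul]
        rw [Subgroup.mem_center_iff]
        intro g
        have hg : g ∈ D ⊔ F := by rw [hDF]; exact Subgroup.mem_top g
        have hle : D ⊔ F ≤ Subgroup.centralizer ({f} : Set G) := by
          apply sup_le
          · intro d hd
            rw [Subgroup.mem_centralizer_iff]
            intro h hh
            rw [Set.mem_singleton_iff] at hh
            subst hh
            exact hfD d hd
          · intro y hy
            rw [Subgroup.mem_centralizer_iff]
            intro h hh
            rw [Set.mem_singleton_iff] at hh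
            subst hh
            exact hNF _ hf y hy
        have := hle hg
        rw [Subgroup.mem_centralizer_iff] at this
        exact (this f rfl).symm
    -- the quotient
    set π := QuotientGroup.mk' N with hπ
    have hπs : Function.Surjective π := QuotientGroup.mk'_surjective N
    have hlt : Nat.card (G ⧸ N) < n := by
      rw [← hcard]
      apply card_quotient_lt N
      have := (Subgroup.one_lt_card_iff_ne_bot N).mpr hNne
      omega
    have hF'n : (F.map π).Normal := hFn.map π hπs
    have hF' : Group.IsNilpotent (F.map π) :=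
      Group.nilpotent_of_surjective (π.subgroupMap F) (π.subgroupMap_surjective F)
    have hGF' : Group.IsNilpotent ((G ⧸ N) ⧸ F.map π) := by
      let f : G ⧸ F →* (G ⧸ N) ⧸ F.map π :=
        QuotientGroup.map F (F.map π) π (Subgroup.le_comap_map π F)
      have hf : Function.Surjective f := by
        intro y
        induction y using QuotientGroup.induction_on with
        | H z =>
          obtain ⟨g, rfl⟩ := hπs z
          exact ⟨(g : G ⧸ F), rfl⟩
      exact Group.nilpotent_of_surjective f hf
    have hIH := ih _ hlt (G ⧸ N) rfl (F.map π) hF' hGF' (fun p => (K p).map π)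
      (isComplementSystem_map K hK N)
    rw [systemNormalizer_map K hK N] at hIH
    intro x hx
    have h1 : π x ∈ Subgroup.normalizer (((Cfsg.systemNormalizer K).map π : Subgroup _) : Set _) :=
      Subgroup.le_normalizer_map π (Subgroup.mem_map_of_mem π hx)
    rw [hIH] at h1
    obtain ⟨d, hd, hdx⟩ := h1
    have hf : d⁻¹ * x ∈ N := by
      have := QuotientGroup.eq.mp hdx
      exact this
    have hfn : d⁻¹ * x ∈ Subgroup.normalizer (D : Set G) :=
      Subgroup.mul_mem _ (Subgroup.inv_mem _ (Subgroup.le_normalizer hd)) hx
    have h2 : d⁻¹ * x ∈ D := center_le_systemNormalizer K (hclaim _ hf hfn)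
    have h3 : x = d * (d⁻¹ * x) := by group
    rw [h3]
    exact D.mul_mem hd h2

theorem exists_isComplementSystem {G : Type*} [Group G] [Finite G] [Group.IsSolvable G] :
    ∃ K : Nat.Primes → Subgroup G, Cfsg.IsComplementSystem K := by
  have h : ∀ p : Nat.Primes, ∃ H : Subgroup G, H.index = (p : ℕ) ^ (Nat.card G).factorization p := by
    intro p
    have hne : Nat.card G ≠ 0 := Nat.card_pos.ne'
    have h1 : Nat.card G = (Nat.card G / (p : ℕ) ^ (Nat.card G).factorization p) *
        (p : ℕ) ^ (Nat.card G).factorization p :=
      (Nat.div_mul_cancel (Nat.ordProj_dvd _ _)).symm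
    have h2 : (Nat.card G / (p : ℕ) ^ (Nat.card G).factorization p).Coprime
        ((p : ℕ) ^ (Nat.card G).factorization p) := by
      apply Nat.Coprime.pow_right
      exact (Nat.coprime_ordCompl p.2 hne).symm
    obtain ⟨H, hH⟩ := Cfsg.Agent.S0003.result _ _ h1 h2
    refine ⟨H, ?_⟩
    have h3 := H.card_mul_index
    rw [hH] at h3
    have hpos : 0 < Nat.card G / (p : ℕ) ^ (Nat.card G).factorization p :=
      Nat.div_pos (Nat.le_of_dvd Nat.card_pos (Nat.ordProj_dvd _ _)) (pow_pos p.2.pos _)
    exact Nat.eq_of_mul_eq_mul_left hpos (h3.trans h1)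
  choose K hK using h
  exact ⟨K, hK⟩

theorem systemNormalizer_conj {G : Type*} [Group G] (K : Nat.Primes → Subgroup G) (g : G) :
    Cfsg.systemNormalizer (fun p => MulAut.conj g • K p) =
      MulAut.conj g • Cfsg.systemNormalizer K := by
  ext x
  unfold Cfsg.systemNormalizer
  rw [Subgroup.mem_pointwise_smul_iff_inv_smul_mem, Subgroup.mem_iInf, Subgroup.mem_iInf]
  apply forall_congr'
  intro p
  rw [Cfsg.Agent.Lib.Helper1.normalizer_conj_smul, Subgroup.mem_pointwise_smul_iff_inv_smul_mem]

theorem isComplementSystem_conj {G : Type*} [Group G] (K : Nat.Primes → Subgroup G)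
    (hK : Cfsg.IsComplementSystem K) (g : G) :
    Cfsg.IsComplementSystem (fun p => MulAut.conj g • K p) := by
  intro p
  show (MulAut.conj g • K p).index = _
  rw [index_conj_smul, hK p]

end Cfsg.Agent.Lib.Helper9
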