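import Mathlib
import Cfsg.Agent.Lib.Helper9.HallSupersolvable

set_option autoImplicit false

namespace Cfsg.Agent.Lib.Helper9

open scoped Pointwise

theorem conj_smul_eq_of_mem_normalizer {G : Type*} [Group G] (P : Subgroup G) (x : G)
    (hx : x ∈ Subgroup.normalizer (P : Set G)) : MulAut.conj x • P = P := by
  ext y
  rw [Subgroup.mem_pointwise_smul_iff_inv_smul_mem]
  simp only [MulAut.smul_def, ← map_inv, MulAut.conj_apply, inv_inv]
  have hx' := Subgroup.inv_mem _ hx
  rw [Subgroup.mem_normalizer_iff] at hx'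
  rw [hx' y, inv_inv]

theorem smul_eq_of_subgroupOf_smul_eq {G : Type*} [Group G] (N H1 K1 : Subgroup G)
    (hH1 : H1 ≤ N) (hK1 : K1 ≤ N) (x : N)
    (hx : MulAut.conj x • H1.subgroupOf N = K1.subgroupOf N) :
    MulAut.conj (x : G) • H1 = K1 := by
  have key : ∀ y : N, (y : G) ∈ MulAut.conj (x : G) • H1 ↔ (y : G) ∈ K1 := by
    intro y
    have h1 : y ∈ K1.subgroupOf N ↔ (y : G) ∈ K1 := Subgroup.mem_subgroupOf
    rw [← h1, ← hx, Subgroup.mem_pointwise_smul_iff_inv_smul_mem,
      Subgroup.mem_pointwise_smul_iff_inv_smul_mem, Subgroup.mem_subgroupOf]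
    simp only [MulAut.smul_def, ← map_inv, MulAut.conj_apply, inv_inv]
    rfl
  ext y
  constructor
  · intro hy
    have hyN : y ∈ N := by
      rw [Subgroup.mem_pointwise_smul_iff_inv_smul_mem] at hy
      simp only [MulAut.smul_def, ← map_inv, MulAut.conj_apply, inv_inv] at hy
      have h2 := hH1 hy
      have : y = (x : G) * ((x : G)⁻¹ * y * x) * (x : G)⁻¹ := by group
      rw [this]
      exact N.mul_mem (N.mul_mem x.2 h2) (N.inv_mem x.2)
    exact (key ⟨y, hyN⟩).mp hy
  · intro hy
    exact (key ⟨y, hK1 hy⟩).mpr hy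

/-- Supersolvable Hall subgroups of the same order are conjugate. -/
theorem hall_supersolvable_conj : ∀ (n : ℕ) (G : Type*) [Group G] [Finite G] (H K : Subgroup G),
    Nat.card H = n → Cfsg.IsSupersolvable H → Cfsg.IsSupersolvable K →
    Nat.card H = Nat.card K → (Nat.card H).Coprime H.index →
    ∃ x : G, MulAut.conj x • H = K := by
  intro n
  induction n using Nat.strong_induction_on with
  | _ n ih =>
    intro G _ _ H K hn hH hK hcard hHall
    by_cases h1 : Nat.card H ≤ 1
    · have hH1 : H = ⊥ := Subgroup.eq_bot_of_card_le H h1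
      have hK1 : K = ⊥ := Subgroup.eq_bot_of_card_le K (hcard ▸ h1)
      exact ⟨1, by rw [hH1, hK1]; simp⟩
    have h1' : 1 < Nat.card H := by omega
    obtain ⟨p, hp, hpd, hmax⟩ := exists_largest_prime_factor h1'
    have hfact : Fact p.Prime := ⟨hp⟩
    obtain ⟨PH, hPHle, hPHn, hPHc⟩ := exists_normal_sylow_of_isSupersolvable H hH p hpd hmax
    obtain ⟨PK, hPKle, hPKn, hPKc⟩ :=
      exists_normal_sylow_of_isSupersolvable K hK p (hcard ▸ hpd) (hcard ▸ hmax)
    have hidx : H.index ≠ 0 := Subgroup.index_ne_zero_of_finite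
    have hpi : ¬ p ∣ H.index := by
      intro h
      have := Nat.dvd_gcd hpd h
      rw [hHall.gcd_eq_one] at this
      exact hp.one_lt.ne' (Nat.dvd_one.mp this)
    have hfac : (Nat.card H).factorization p = (Nat.card G).factorization p := by
      rw [← Subgroup.card_mul_index H, Nat.factorization_mul Nat.card_pos.ne' hidx,
        Finsupp.add_apply, Nat.factorization_eq_zero_of_not_dvd hpi, add_zero]
    obtain ⟨g, hg⟩ := exists_conj_of_card_eq_sylow p PH PK (by rw [hPHc, hfac])
      (by rw [hPKc, ← hcard, hfac])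
    set H' := MulAut.conj g • H with hH'
    have hH'card : Nat.card H' = Nat.card H :=
      Nat.card_congr (Subgroup.equivSMul (MulAut.conj g) H).toEquiv.symm
    have hH'idx : H'.index = H.index := by
      rw [hH', Subgroup.pointwise_smul_def]
      exact Subgroup.index_map_equiv (H := H) (MulAut.conj g)
    have hPH' : PK ≤ H' := by
      rw [← hg]; exact Subgroup.pointwise_smul_le_pointwise_smul_iff.mpr hPHle
    have hH'n : H' ≤ Subgroup.normalizer (PK : Set G) := by
      rw [← hg]; exact smul_le_normalizer_smul g H PH hPHn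
    have hH's : Cfsg.IsSupersolvable H' :=
      isSupersolvable_of_mulEquiv (Subgroup.equivSMul (MulAut.conj g) H) hH
    obtain ⟨H1, hH1le, hH1sup, hH1c⟩ := exists_complement_of_normal_sylow H' PK p hPH' hH'n
      (by rw [hPKc, hH'card, hcard])
    obtain ⟨K1, hK1le, hK1sup, hK1c⟩ := exists_complement_of_normal_sylow K PK p hPKle hPKn hPKc
    set N := Subgroup.normalizer (PK : Set G) with hN
    have hH1N : H1 ≤ N := hH1le.trans hH'n
    have hK1N : K1 ≤ N := hK1le.trans hPKn
    have hA : Cfsg.IsSupersolvable (H1.subgroupOf N) := by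
      have h2 : Cfsg.IsSupersolvable (H1.subgroupOf H') := isSupersolvable_subgroup _ hH's
      exact isSupersolvable_of_mulEquiv
        ((Subgroup.subgroupOfEquivOfLe hH1le).trans (Subgroup.subgroupOfEquivOfLe hH1N).symm) h2
    have hB : Cfsg.IsSupersolvable (K1.subgroupOf N) := by
      have h2 : Cfsg.IsSupersolvable (K1.subgroupOf K) := isSupersolvable_subgroup _ hK
      exact isSupersolvable_of_mulEquiv
        ((Subgroup.subgroupOfEquivOfLe hK1le).trans (Subgroup.subgroupOfEquivOfLe hK1N).symm) h2
    have hcardA : Nat.card (H1.subgroupOf N) = Nat.card H1 :=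
      Nat.card_congr (Subgroup.subgroupOfEquivOfLe hH1N).toEquiv
    have hcardB : Nat.card (K1.subgroupOf N) = Nat.card K1 :=
      Nat.card_congr (Subgroup.subgroupOfEquivOfLe hK1N).toEquiv
    have hapos : (Nat.card H).factorization p ≠ 0 := by
      intro h0
      rcases (Nat.factorization_eq_zero_iff _ _).mp h0 with h | h | h
      · exact h hp
      · exact h hpd
      · omega
    have hPK2 : 2 ≤ Nat.card PK := by
      rw [hPKc, ← hcard]
      calc 2 ≤ p := hp.two_le
        _ = p ^ 1 := (pow_one p).symm
        _ ≤ p ^ (Nat.card H).factorization p :=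
          Nat.pow_le_pow_right hp.pos (Nat.one_le_iff_ne_zero.mpr hapos)
    have hH1pos : 0 < Nat.card H1 := Nat.card_pos
    have hlt : Nat.card (H1.subgroupOf N) < n := by
      rw [hcardA, ← hn, ← hH'card, ← hH1c]
      nlinarith
    have hcardAB : Nat.card (H1.subgroupOf N) = Nat.card (K1.subgroupOf N) := by
      rw [hcardA, hcardB]
      have : Nat.card H1 * Nat.card PK = Nat.card K1 * Nat.card PK := by
        rw [hH1c, hK1c, hH'card, hcard]
      exact Nat.eq_of_mul_eq_mul_right (by omega) this
    have hcop : (Nat.card (H1.subgroupOf N)).Coprime (H1.subgroupOf N).index := by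
      rw [hcardA]
      have e1 : (H1.subgroupOf N).index * Nat.card H1 = Nat.card N := by
        rw [← hcardA]; exact Subgroup.index_mul_card _
      have e2 : Nat.card N ∣ Nat.card G := Subgroup.card_subgroup_dvd_card N
      have e3 : Nat.card G = Nat.card H1 * Nat.card PK * H.index := by
        rw [hH1c, hH'card, Subgroup.card_mul_index]
      have e4 : (H1.subgroupOf N).index ∣ Nat.card PK * H.index := by
        rw [← e1, e3, mul_comm _ (Nat.card H1), mul_assoc] at e2
        exact (Nat.mul_dvd_mul_iff_left hH1pos).mp e2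
      have c1 : (Nat.card H1).Coprime (Nat.card PK) := by
        rw [hPKc, ← hcard]
        apply Nat.Coprime.pow_right
        rw [Nat.coprime_comm, hp.coprime_iff_not_dvd]
        intro hd
        apply Nat.pow_succ_factorization_not_dvd (Nat.card_pos (α := H)).ne' hp
        have e5 : Nat.card H = Nat.card H1 * p ^ (Nat.card H).factorization p := by
          have e6 : Nat.card PK = p ^ (Nat.card H).factorization p := by rw [hPKc, ← hcard]
          rw [← e6, hH1c, hH'card]
        rw [pow_succ]
        nth_rewrite 2 [e5]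
        rw [mul_comm]
        exact Nat.mul_dvd_mul_right hd _
      have c2 : (Nat.card H1).Coprime H.index := by
        apply Nat.Coprime.coprime_dvd_left _ hHall
        rw [← hH'card, ← hH1c]
        exact Dvd.intro _ rfl
      exact Nat.Coprime.coprime_dvd_right e4 (Nat.Coprime.mul_right c1 c2)
    obtain ⟨x, hx⟩ := ih _ hlt N (H1.subgroupOf N) (K1.subgroupOf N) rfl hA hB hcardAB hcop
    have hx' : MulAut.conj (x : G) • H1 = K1 :=
      smul_eq_of_subgroupOf_smul_eq N H1 K1 hH1N hK1N x hx
    have hxP : MulAut.conj (x : G) • PK = PK := conj_smul_eq_of_mem_normalizer PK x x.2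
    refine ⟨x * g, ?_⟩
    rw [map_mul, mul_smul, ← hH', ← hH1sup, Subgroup.smul_sup, hxP, hx', hK1sup]

end Cfsg.Agent.Lib.Helper9
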