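import Mathlib
import Cfsg.Agent.Lib.Helper9.CarterSystem
import Cfsg.Agent.Lib.Helper9.AbnormalMaximal
import Cfsg.Agent.Lib.Helper9.HallSupersolvable2
import Cfsg.Agent.S0005

set_option autoImplicit false

namespace Cfsg.Agent.Lib.Helper9

open scoped Pointwise

/-- A Carter subgroup of `G` contained in `M` is a Carter subgroup of `M`. -/
theorem isCarter_subgroupOf {G : Type*} [Group G] (C M : Subgroup G) (hCM : C ≤ M)
    (hCn : Group.IsNilpotent C) (hCs : Subgroup.normalizer (C : Set G) = C) :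
    Group.IsNilpotent (C.subgroupOf M) ∧
      Subgroup.normalizer ((C.subgroupOf M : Subgroup M) : Set M) = C.subgroupOf M := by
  constructor
  · exact Group.nilpotent_of_mulEquiv (Subgroup.subgroupOfEquivOfLe hCM).symm
  · rw [← Subgroup.subgroupOf_normalizer_eq hCM, hCs]

/-- A Carter subgroup is not contained in a proper normal subgroup. -/
theorem eq_top_of_carter_le_normal {G : Type*} [Group G] [Finite G] [Group.IsSolvable G]
    (C M : Subgroup G) [hMn : M.Normal] (hCM : C ≤ M)
    (hCn : Group.IsNilpotent C) (hCs : Subgroup.normalizer (C : Set G) = C) : M = ⊤ := by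
  rw [eq_top_iff]
  intro g _
  have hC' := isCarter_subgroupOf C M hCM hCn hCs
  have hCg : Cfsg.Agent.Lib.Helper1.IsCarter (MulAut.conj g • C) :=
    Cfsg.Agent.Lib.Helper1.IsCarter.conj ⟨hCn, hCs⟩ g
  have hCgM : MulAut.conj g • C ≤ M := by
    rintro _ ⟨c, hc, rfl⟩
    exact hMn.conj_mem c (hCM hc) g
  have hCg' := isCarter_subgroupOf (MulAut.conj g • C) M hCgM hCg.1 hCg.2
  obtain ⟨m, hm⟩ := (Cfsg.Agent.S0045.result (G := M)).2 _ _ hC'.1 hC'.2 hCg'.1 hCg'.2
  have h1 : MulAut.conj (m : G) • C = MulAut.conj g • C :=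
    smul_eq_of_subgroupOf_smul_eq M C _ hCM hCgM m hm
  have h2 : MulAut.conj (g⁻¹ * (m : G)) • C = C := by
    rw [map_mul, mul_smul, h1, ← mul_smul, ← map_mul, inv_mul_cancel, map_one, one_smul]
  have h3 : g⁻¹ * (m : G) ∈ Subgroup.normalizer (C : Set G) :=
    Cfsg.Agent.Lib.Helper1.mem_normalizer_of_conj_smul_eq h2
  rw [hCs] at h3
  have h4 : g⁻¹ * (m : G) ∈ M := hCM h3
  have h5 : g = (m : G) * (g⁻¹ * (m : G))⁻¹ := by group
  rw [h5]
  exact M.mul_mem m.2 (M.inv_mem h4)

theorem eq_of_mul_pow_eq {x y p a c : ℕ} (hp : p.Prime) (hx : ¬ p ∣ x) (hy : ¬ p ∣ y)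
    (h : x * p ^ a = y * p ^ c) : x = y := by
  have cx : x.Coprime (p ^ c) := Nat.Coprime.pow_right c ((Nat.coprime_comm.mp
    ((Nat.Prime.coprime_iff_not_dvd hp).mpr hx)))
  have cy : y.Coprime (p ^ a) := Nat.Coprime.pow_right a ((Nat.coprime_comm.mp
    ((Nat.Prime.coprime_iff_not_dvd hp).mpr hy)))
  have h1 : x ∣ y := cx.dvd_of_dvd_mul_right ⟨p ^ a, h.symm⟩
  have h2 : y ∣ x := cy.dvd_of_dvd_mul_right ⟨p ^ c, h⟩
  exact Nat.dvd_antisymm h1 h2

/-- Extend a complement system of a subgroup `M` to one of `G`. -/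
theorem exists_isComplementSystem_extending {G : Type*} [Group G] [Finite G] [Group.IsSolvable G]
    (M : Subgroup G) (S : Nat.Primes → Subgroup M) (hS : Cfsg.IsComplementSystem S) :
    ∃ K : Nat.Primes → Subgroup G, Cfsg.IsComplementSystem K ∧
      ∀ q, K q ⊓ M = (S q).map M.subtype := by
  have h : ∀ q : Nat.Primes, ∃ H : Subgroup G,
      H.index = (q : ℕ) ^ (Nat.card G).factorization q ∧ H ⊓ M = (S q).map M.subtype := by
    intro q
    have hne : Nat.card G ≠ 0 := Nat.card_pos.ne'
    set n := (q : ℕ) ^ (Nat.card G).factorization q with hn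
    set m := Nat.card G / n with hm
    have h1 : Nat.card G = m * n := (Nat.div_mul_cancel (Nat.ordProj_dvd _ _)).symm
    have h2 : m.Coprime n := by
      apply Nat.Coprime.pow_right
      exact (Nat.coprime_ordCompl q.2 hne).symm
    have hLc : Nat.card ((S q).map M.subtype) = Nat.card (S q) :=
      Subgroup.card_map_of_injective M.subtype_injective
    have hSq : ¬ (q : ℕ) ∣ Nat.card (S q) := card_coprime_of_isComplementSystem S hS q
    have hcopS : (Nat.card (S q)).Coprime (q : ℕ) :=
      (Nat.coprime_comm.mp ((Nat.Prime.coprime_iff_not_dvd q.2).mpr hSq))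
    have h3 : (Nat.card ((S q).map M.subtype)).Coprime n := by
      rw [hLc]
      exact Nat.Coprime.pow_right _ hcopS
    obtain ⟨H, hH, hLH⟩ := Cfsg.Agent.S0005.result m n h1 h2 _ h3
    refine ⟨H, ?_, ?_⟩
    · have h4 := H.card_mul_index
      rw [hH] at h4
      have hpos : 0 < m := Nat.div_pos (Nat.le_of_dvd Nat.card_pos (Nat.ordProj_dvd _ _))
        (pow_pos q.2.pos _)
      exact Nat.eq_of_mul_eq_mul_left hpos (h4.trans h1)
    · have hle : (S q).map M.subtype ≤ H ⊓ M := by
        apply le_inf hLH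
        rintro _ ⟨a, -, rfl⟩
        exact a.2
      symm
      apply Subgroup.eq_of_le_of_card_ge hle
      rw [hLc]
      apply Nat.le_of_dvd Nat.card_pos
      have d1 : Nat.card (H ⊓ M : Subgroup G) ∣ m := by
        rw [← hH]; exact Subgroup.card_dvd_of_le inf_le_left
      have d2 : Nat.card (H ⊓ M : Subgroup G) ∣ Nat.card M := Subgroup.card_dvd_of_le inf_le_right
      have h5 := (S q).card_mul_index
      rw [hS q] at h5
      rw [← h5] at d2
      have c1 : (Nat.card (H ⊓ M : Subgroup G)).Coprime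
          ((q : ℕ) ^ (Nat.card M).factorization q) := by
        apply Nat.Coprime.pow_right
        apply Nat.Coprime.coprime_dvd_left d1
        exact (Nat.coprime_ordCompl q.2 hne).symm
      exact c1.dvd_of_dvd_mul_right d2
  choose K hK1 hK2 using h
  exact ⟨K, hK1, hK2⟩

/-- Every Carter subgroup contains a system normalizer. -/
theorem exists_systemNormalizer_le_carter : ∀ (n : ℕ) (G : Type*) [Group G] [Finite G]
    [Group.IsSolvable G], Nat.card G = n → ∀ C : Subgroup G, Group.IsNilpotent C →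
    Subgroup.normalizer (C : Set G) = C →
    ∃ K : Nat.Primes → Subgroup G, Cfsg.IsComplementSystem K ∧ Cfsg.systemNormalizer K ≤ C := by
  intro n
  induction n using Nat.strong_induction_on with
  | _ n ih =>
    intro G _ _ _ hcard C hCn hCs
    by_cases hCt : C = ⊤
    · obtain ⟨K, hK⟩ := exists_isComplementSystem (G := G)
      exact ⟨K, hK, by rw [hCt]; exact le_top⟩
    obtain ⟨M, hM, hCM⟩ := (eq_top_or_exists_le_coatom C).resolve_left hCt
    have hMn : ¬ M.Normal := by
      intro h
      exact hM.1 (eq_top_of_carter_le_normal C M hCM hCn hCs)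
    obtain ⟨p, ⟨d, hidx⟩, hH⟩ := normalizer_le_of_coatom_not_normal M hM hMn
    have hC' := isCarter_subgroupOf C M hCM hCn hCs
    have hlt : Nat.card M < n := by
      rw [← hcard, ← M.card_mul_index]
      have h1 : M.index ≠ 1 := fun h => hM.1 (Subgroup.index_eq_one.mp h)
      have h2 : M.index ≠ 0 := Subgroup.index_ne_zero_of_finite
      have h3 : 0 < Nat.card M := Nat.card_pos
      have : 2 ≤ M.index := by omega
      nlinarith
    obtain ⟨S, hS, hSC⟩ := ih _ hlt M rfl _ hC'.1 hC'.2
    obtain ⟨K, hK, hKM⟩ := exists_isComplementSystem_extending M S hS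
    refine ⟨K, hK, ?_⟩
    -- K p ≤ M
    have hKp : K p ≤ M := by
      rw [← inf_eq_left]
      apply Subgroup.eq_of_le_of_card_ge inf_le_left
      rw [hKM p, Subgroup.card_map_of_injective M.subtype_injective]
      apply le_of_eq
      have e1 := (K p).card_mul_index
      rw [hK p] at e1
      have e2 := (S p).card_mul_index
      rw [hS p] at e2
      have e3 := M.card_mul_index
      rw [hidx] at e3
      have e4 : Nat.card (K p) * (p : ℕ) ^ (Nat.card G).factorization p =
          Nat.card (S p) * (p : ℕ) ^ ((Nat.card M).factorization p + d) := by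
        rw [e1, pow_add, ← mul_assoc, e2, e3]
      exact eq_of_mul_pow_eq p.2 (card_coprime_of_isComplementSystem K hK p)
        (card_coprime_of_isComplementSystem S hS p) e4
    have hDM : Cfsg.systemNormalizer K ≤ M := by
      refine le_trans ?_ (hH K hK hKp)
      unfold Cfsg.systemNormalizer
      exact iInf_le _ p
    intro x hx
    have hxM : x ∈ M := hDM hx
    have hx' : (⟨x, hxM⟩ : M) ∈ Cfsg.systemNormalizer S := by
      unfold Cfsg.systemNormalizer at hx ⊢
      rw [Subgroup.mem_iInf] at hx ⊢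
      intro q
      have h1 : x ∈ Subgroup.normalizer ((K q ⊓ M : Subgroup G) : Set G) :=
        Subgroup.inf_normalizer_le_normalizer_inf ⟨hx q, Subgroup.le_normalizer hxM⟩
      rw [hKM q, Subgroup.mem_normalizer_iff] at h1
      rw [Subgroup.mem_normalizer_iff]
      intro h
      have h2 := h1 (h : G)
      have e1 : (h : G) ∈ Subgroup.map M.subtype (S q) ↔ h ∈ S q :=
        Subgroup.mem_map_iff_mem M.subtype_injective (x := h)
      have e2 : x * (h : G) * x⁻¹ ∈ Subgroup.map M.subtype (S q) ↔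
          (⟨x, hxM⟩ : M) * h * (⟨x, hxM⟩ : M)⁻¹ ∈ S q :=
        Subgroup.mem_map_iff_mem M.subtype_injective
          (x := (⟨x, hxM⟩ : M) * h * (⟨x, hxM⟩ : M)⁻¹)
      rw [← e1, ← e2]
      exact h2
    exact Subgroup.mem_subgroupOf.mp (hSC hx')

end Cfsg.Agent.Lib.Helper9
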