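import Mathlib

/-!
# helper9: an automorphism of order 3 of an elementary abelian 3-group with few fixed points
-/

set_option autoImplicit false

namespace Cfsg.Agent.Lib.Helper9.Conn3

/-- `|M| ≤ |ker f| * |f(M)|` for a subgroup `M`. -/
theorem card_le_ker_mul_map {G H : Type*} [Group G] [Group H] [Finite G] (f : G →* H)
    (M : Subgroup G) : Nat.card M ≤ Nat.card f.ker * Nat.card (M.map f) := by
  classical
  let g : M →* H := f.comp M.subtype
  have h1 : Nat.card g.ker * Nat.card g.range = Nat.card M := by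
    rw [← Subgroup.index_ker]
    exact Subgroup.card_mul_index _
  have h2 : g.range = M.map f := by
    rw [MonoidHom.range_comp, Subgroup.range_subtype]
  have h3 : Nat.card g.ker ≤ Nat.card f.ker := by
    have hle : g.ker.map M.subtype ≤ f.ker := by
      rintro y ⟨m, hm, rfl⟩
      exact hm
    rw [← Subgroup.card_map_of_injective (K := g.ker) M.subtype_injective]
    exact Subgroup.card_le_of_le hle
  rw [← h1, h2]
  exact Nat.mul_le_mul_right _ h3

theorem add_word {M : Type*} [AddCommGroup M] (a b c : M) :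
    -(-(-a + b) + (-b + c)) + (-(-b + c) + (-c + a)) = 3 • b + -(3 • c) := by
  abel

theorem mul_word {M : Type*} [CommGroup M] (a b c : M) :
    (((a⁻¹ * b)⁻¹ * (b⁻¹ * c))⁻¹ * ((b⁻¹ * c)⁻¹ * (c⁻¹ * a))) = b ^ 3 * (c ^ 3)⁻¹ :=
  add_word (M := Additive M) (Additive.ofMul a) (Additive.ofMul b) (Additive.ofMul c)

/-- An endomorphism `σ` with `σ³ = 1` of a finite commutative group of exponent 3 with at most
3 fixed points: the group has order at most 27. -/
theorem card_le_of_aut_cube {M : Type*} [CommGroup M] [Finite M] (σ : M →* M)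
    (hσ : ∀ m, σ (σ (σ m)) = m) (hM : ∀ m : M, m ^ 3 = 1)
    (hfix : ∀ K : Subgroup M, (∀ k ∈ K, σ k = k) → Nat.card K ≤ 3) : Nat.card M ≤ 27 := by
  classical
  let φ : M →* M :=
    { toFun := fun m => m⁻¹ * σ m
      map_one' := by simp
      map_mul' := by
        intro a b
        rw [map_mul, mul_inv, mul_mul_mul_comm] }
  have hφ : ∀ m, φ m = m⁻¹ * σ m := fun m => rfl
  have hker : Nat.card φ.ker ≤ 3 := by
    apply hfix
    intro k hk
    have h1 : k⁻¹ * σ k = 1 := hk
    have h2 := congrArg (fun t => k * t) h1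
    simpa using h2
  have hcube : ∀ m, φ (φ (φ m)) = 1 := by
    intro m
    have e1 : φ m = m⁻¹ * σ m := rfl
    have e2 : φ (φ m) = (m⁻¹ * σ m)⁻¹ * ((σ m)⁻¹ * σ (σ m)) := by
      rw [hφ (φ m), e1, map_mul, map_inv]
    have e3 : φ (φ (φ m)) = ((m⁻¹ * σ m)⁻¹ * ((σ m)⁻¹ * σ (σ m)))⁻¹ *
        (((σ m)⁻¹ * σ (σ m))⁻¹ * ((σ (σ m))⁻¹ * m)) := by
      rw [hφ (φ (φ m)), e2]
      congr 1
      rw [map_mul, map_inv, map_mul, map_inv, map_mul, map_inv, hσ]
    rw [e3, mul_word, hM, hM, inv_one, mul_one]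
  have h3 : (((⊤ : Subgroup M).map φ).map φ).map φ = ⊥ := by
    rw [eq_bot_iff]
    rintro y ⟨y1, ⟨y2, ⟨y3, -, rfl⟩, rfl⟩, rfl⟩
    rw [Subgroup.mem_bot]
    exact hcube y3
  have c0 : Nat.card M = Nat.card (⊤ : Subgroup M) := (Subgroup.card_top).symm
  have c1 := card_le_ker_mul_map φ ⊤
  have c2 := card_le_ker_mul_map φ ((⊤ : Subgroup M).map φ)
  have c3 := card_le_ker_mul_map φ (((⊤ : Subgroup M).map φ).map φ)
  rw [h3, Subgroup.card_bot, mul_one] at c3
  rw [c0]
  calc Nat.card (⊤ : Subgroup M) ≤ Nat.card φ.ker * Nat.card ((⊤ : Subgroup M).map φ) := c1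
    _ ≤ 3 * (Nat.card φ.ker * Nat.card (((⊤ : Subgroup M).map φ).map φ)) :=
        Nat.mul_le_mul hker c2
    _ ≤ 3 * (3 * 3) := by
        apply Nat.mul_le_mul_left
        exact Nat.mul_le_mul hker (c3.trans hker)
    _ = 27 := by norm_num

end Cfsg.Agent.Lib.Helper9.Conn3
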