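import Mathlib
import Cfsg.Agent.Lib.Helper9.Conn3a
import Cfsg.Agent.Lib.Helper45.Alperin

/-!
# helper9: generic group-theoretic pieces for the 2-connectedness of 3-groups of rank ≥ 4
-/

set_option autoImplicit false

namespace Cfsg.Agent.Lib.Helper9.Conn3

variable {R : Type*} [Group R]

/-- concrete version of `card_le_of_aut_cube`: an elementary abelian 3-subgroup `N` normalized by an
element `x` with `x ^ 3 = 1` such that every subgroup of `N` centralized by `x` has order `≤ 3`
has order at most 27. -/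
theorem card_le_27 [Finite R] (N : Subgroup R) (hNc : ∀ a ∈ N, ∀ b ∈ N, a * b = b * a)
    (hNe : ∀ a ∈ N, a ^ 3 = 1) (x : R) (hx3 : x ^ 3 = 1) (hxN : ∀ n ∈ N, x⁻¹ * n * x ∈ N)
    (hfix : ∀ K : Subgroup R, K ≤ N → (∀ k ∈ K, x⁻¹ * k * x = k) → Nat.card K ≤ 3) :
    Nat.card N ≤ 27 := by
  classical
  have : IsMulCommutative N := ⟨⟨fun a b => Subtype.ext (hNc a a.2 b b.2)⟩⟩
  open scoped IsMulCommutative in
  let σ : N →* N :=
    { toFun := fun n => ⟨x⁻¹ * n * x, hxN n n.2⟩
      map_one' := by ext; simp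
      map_mul' := by
        intro a b
        ext
        simp only [Subgroup.coe_mul]
        group }
  open scoped IsMulCommutative in
  refine card_le_of_aut_cube σ ?_ ?_ ?_
  · intro m
    ext
    show x⁻¹ * (x⁻¹ * (x⁻¹ * (m : R) * x) * x) * x = m
    have hx : x * x * x = 1 := by rw [← hx3, pow_three']
    have h : x⁻¹ * (x⁻¹ * (x⁻¹ * (m : R) * x) * x) * x = (x * x * x)⁻¹ * m * (x * x * x) := by
      group
    rw [h, hx]; simp
  · intro m
    ext
    simpa using hNe m m.2
  · intro K hK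
    have h1 := hfix (K.map N.subtype) ?_ ?_
    · rwa [Subgroup.card_map_of_injective N.subtype_injective] at h1
    · rintro y ⟨k, -, rfl⟩
      exact k.2
    · rintro y ⟨k, hk, rfl⟩
      have := congrArg Subtype.val (hK k hk)
      exact this

/-- orbit–stabilizer for the conjugation action of a subgroup `D` on an element `v`. -/
theorem card_eq_orbit_mul_centralizer [Finite R] (D : Subgroup R) (v : R) :
    Nat.card D = ((fun d : R => d * v * d⁻¹) '' (D : Set R)).ncard *
      Nat.card (D ⊓ Subgroup.centralizer {v} : Subgroup R) := by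
  classical
  let act : MulAction D R :=
    MulAction.compHom R ((MulAut.conj : R →* MulAut R).comp D.subtype)
  have hsmul : ∀ (d : D) (r : R), d • r = (d : R) * r * (d : R)⁻¹ := fun d r => rfl
  have h1 := MulAction.index_stabilizer D v
  have h2 := Subgroup.card_mul_index (MulAction.stabilizer D v)
  have h3 : MulAction.orbit D v = (fun d : R => d * v * d⁻¹) '' (D : Set R) := by
    ext y
    constructor
    · rintro ⟨d, rfl⟩
      exact ⟨d, d.2, (hsmul d v).symm⟩
    · rintro ⟨d, hd, rfl⟩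
      exact ⟨⟨d, hd⟩, hsmul ⟨d, hd⟩ v⟩
  have h4 : (MulAction.stabilizer D v).map D.subtype = D ⊓ Subgroup.centralizer {v} := by
    ext y
    constructor
    · rintro ⟨d, hd, rfl⟩
      rw [Subgroup.mem_inf]
      refine ⟨d.2, ?_⟩
      rw [Subgroup.mem_centralizer_singleton_iff]
      have h5 : (d : R) * v * (d : R)⁻¹ = v := hd
      calc (d : R) * v = (d : R) * v * (d : R)⁻¹ * d := by group
        _ = v * d := by rw [h5]
    · intro hy
      rw [Subgroup.mem_inf] at hy
      obtain ⟨hyD, hyC⟩ := hy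
      refine ⟨⟨y, hyD⟩, ?_, rfl⟩
      rw [Subgroup.mem_centralizer_singleton_iff] at hyC
      show y * v * y⁻¹ = v
      rw [hyC]; group
  rw [← h4, Subgroup.card_map_of_injective D.subtype_injective, ← h3, ← h1, mul_comm]
  exact h2.symm

/-- two elementary abelian 3-subgroups normalizing each other generate a group of exponent 3 -/
theorem pow_three_of_mutual (A A' : Subgroup R) (hAc : ∀ a ∈ A, ∀ b ∈ A, a * b = b * a)
    (hAe : ∀ a ∈ A, a ^ 3 = 1) (hA'c : ∀ a ∈ A', ∀ b ∈ A', a * b = b * a)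
    (hA'e : ∀ a ∈ A', a ^ 3 = 1) (h1 : A' ≤ Subgroup.normalizer (A : Set R))
    (h2 : A ≤ Subgroup.normalizer (A' : Set R)) : ∀ d ∈ A ⊔ A', d ^ 3 = 1 := by
  intro d hd
  have hset := Subgroup.coe_mul_of_left_le_normalizer_right A' A h1
  have hd' : d ∈ ((A' ⊔ A : Subgroup R) : Set R) := by
    rw [sup_comm]; exact hd
  rw [hset] at hd'
  obtain ⟨a', ha', a, ha, rfl⟩ := Set.mem_mul.mp hd'
  have ha' : a' ∈ A' := ha'
  have ha : a ∈ A := ha
  -- c = a a' a⁻¹ a'⁻¹
  obtain ⟨c, hc⟩ : ∃ c, c = a * a' * a⁻¹ * a'⁻¹ := ⟨_, rfl⟩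
  have hcA : c ∈ A := by
    have : a' * a⁻¹ * a'⁻¹ ∈ A := (Subgroup.mem_normalizer_iff.mp (h1 ha') a⁻¹).mp (A.inv_mem ha)
    have h3 : c = a * (a' * a⁻¹ * a'⁻¹) := by rw [hc]; group
    rw [h3]; exact A.mul_mem ha this
  have hcA' : c ∈ A' := by
    have : a * a' * a⁻¹ ∈ A' := (Subgroup.mem_normalizer_iff.mp (h2 ha) a').mp ha'
    have h3 : c = (a * a' * a⁻¹) * a'⁻¹ := by rw [hc]
    rw [h3]; exact A'.mul_mem this (A'.inv_mem ha')
  have hrel : a * a' = c * a' * a := by rw [hc]; group
  have hca' : Commute c a' := hA'c c hcA' a' ha'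
  have hca : Commute c a := hAc c hcA a ha
  have := Cfsg.Agent.Lib.Helper45.mul_pow_of_central hrel hca' hca 3
  rw [this, hA'e a' ha', hAe a ha]
  have hs : ∑ i ∈ Finset.range 3, i = 3 := by decide
  rw [hs, hAe c hcA]; simp

/-- the normalizer trick: in a finite `p`-group, a subgroup `A` such that every conjugate of `A`
which normalizes `A` and is normalized by `A` equals `A`, is normal. -/
theorem normal_of_conj_unique [Finite R] {p : ℕ} [Fact p.Prime] (hR : IsPGroup p R)
    (A : Subgroup R)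
    (h : ∀ t : R, A.map (MulAut.conj t).toMonoidHom ≤ Subgroup.normalizer (A : Set R) →
      A ≤ Subgroup.normalizer ((A.map (MulAut.conj t).toMonoidHom : Subgroup R) : Set R) →
      A.map (MulAut.conj t).toMonoidHom = A) : A.Normal := by
  by_contra hn
  have hNtop : Subgroup.normalizer (A : Set R) ≠ ⊤ := fun htop =>
    hn (Subgroup.normalizer_eq_top_iff.mp htop)
  have : Group.IsNilpotent R := hR.isNilpotent
  have hNlt := Group.normalizerCondition_of_isNilpotent
    (Subgroup.normalizer (A : Set R)) (lt_top_iff_ne_top.mpr hNtop)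
  obtain ⟨t, htN2, htN⟩ := SetLike.exists_of_lt hNlt
  have hNt : (Subgroup.normalizer (A : Set R)).map (MulAut.conj t).toMonoidHom =
      Subgroup.normalizer (A : Set R) :=
    Subgroup.mem_normalizer_iff_map_conj_eq.mp htN2
  have hnorm := Subgroup.map_equiv_normalizer_eq A (MulAut.conj t)
  have h1 : A.map (MulAut.conj t).toMonoidHom ≤ Subgroup.normalizer (A : Set R) := by
    rw [← hNt]
    exact Subgroup.map_mono Subgroup.le_normalizer
  have h2 : A ≤ Subgroup.normalizer ((A.map (MulAut.conj t).toMonoidHom : Subgroup R) : Set R) := by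
    rw [← hnorm, hNt]
    exact Subgroup.le_normalizer
  have h3 := h t h1 h2
  exact htN (Subgroup.mem_normalizer_iff_map_conj_eq.mpr h3)

end Cfsg.Agent.Lib.Helper9.Conn3
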