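import Mathlib
import Cfsg.Agent.Lib.Helper9.Conn3b
import Cfsg.Agent.S1453

/-!
# helper9: a 3-group with a maximal elementary abelian subgroup of order 9 has rank ≤ 3
-/

set_option autoImplicit false

namespace Cfsg.Agent.Lib.Helper9.Conn3

variable {R : Type*} [Group R]

theorem pow_eq_27 (j : ℕ) (h9 : 9 < 3 ^ j) (h27 : 3 ^ j ≤ 27) : 3 ^ j = 27 := by
  have h1 : j < 4 := by
    by_contra hh
    push Not at hh
    have h2 := Nat.pow_le_pow_right (show 0 < 3 by norm_num) hh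
    norm_num at h2
    omega
  interval_cases j <;> revert h9 h27 <;> norm_num

theorem pow_le_9 (j : ℕ) (h : 3 ^ j ≤ 18) : 3 ^ j ≤ 9 := by
  have h1 : j < 3 := by
    by_contra hh
    push Not at hh
    have h2 := Nat.pow_le_pow_right (show 0 < 3 by norm_num) hh
    norm_num at h2
    omega
  interval_cases j <;> norm_num

theorem pow_ge_81 (j : ℕ) (h : 27 < 3 ^ j) : 81 ≤ 3 ^ j := by
  have h1 : 4 ≤ j := by
    by_contra hh
    push Not at hh
    have h2 := Nat.pow_le_pow_right (show 0 < 3 by norm_num) (show j ≤ 3 by omega)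
    norm_num at h2
    omega
  have h2 := Nat.pow_le_pow_right (show 0 < 3 by norm_num) h1
  norm_num at h2
  exact h2

theorem pow_lt_27 (j : ℕ) (h : 3 ^ j < 27) : 3 ^ j ≤ 9 := by
  have h1 : j < 3 := by
    by_contra hh
    push Not at hh
    have h2 := Nat.pow_le_pow_right (show 0 < 3 by norm_num) hh
    norm_num at h2
    omega
  interval_cases j <;> norm_num

/-- Step 1: an `x`-invariant elementary abelian subgroup of `T` has order at most 27. -/
theorem step1 [Finite R] (hR : IsPGroup 3 R) (X : Subgroup R)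
    (hXc : ∀ a ∈ X, ∀ b ∈ X, a * b = b * a) (hXe : ∀ a ∈ X, a ^ 3 = 1)
    (hX2 : Nat.card X = 3 ^ 2)
    (hXmax : ∀ B : Subgroup R, (∀ a ∈ B, ∀ b ∈ B, a * b = b * a) → (∀ a ∈ B, a ^ 3 = 1) →
      X ≤ B → B = X)
    (T Zs : Subgroup R) (hZc : Zs ≤ Subgroup.center R) (hZe : ∀ z ∈ Zs, z ^ 3 = 1)
    (hZcard : Nat.card Zs = 3) (hZT : Zs ≤ T) (x : R) (hxX : x ∈ X) (hxT : x ∉ T)
    (N : Subgroup R) (hNT : N ≤ T) (hNc : ∀ a ∈ N, ∀ b ∈ N, a * b = b * a)
    (hNe : ∀ a ∈ N, a ^ 3 = 1) (hxN : ∀ n ∈ N, x⁻¹ * n * x ∈ N) : Nat.card N ≤ 27 := by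
  classical
  have : Fact (Nat.Prime 3) := ⟨Nat.prime_three⟩
  have hZcomm : ∀ a ∈ Zs, ∀ b ∈ Zs, a * b = b * a := fun a ha b _ =>
    (Subgroup.mem_center_iff.mp (hZc ha) b).symm
  have hXZ : ∀ a ∈ X, ∀ b ∈ Zs, a * b = b * a := fun a _ b hb =>
    Subgroup.mem_center_iff.mp (hZc hb) a
  have hZX : Zs ≤ X := by
    have hsup := Cfsg.Agent.S1453.sup_elemAb (p := 3) X Zs hXc hXe hZcomm hZe hXZ
    have h1 := hXmax (X ⊔ Zs) hsup.1 hsup.2 le_sup_left
    rw [← h1]; exact le_sup_right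
  have hXT_ne : X ⊓ T ≠ X := by
    intro h
    apply hxT
    have : x ∈ X ⊓ T := by rw [h]; exact hxX
    exact this.2
  have hXTcard : Nat.card (X ⊓ T : Subgroup R) ≤ 3 := by
    rcases Cfsg.Agent.S1453.sub_card_sq hR (X ⊓ T) X inf_le_left hXT_ne hX2 with h | h <;> omega
  have hXgen : X ≤ Subgroup.zpowers x ⊔ Zs := by
    have hY : Subgroup.zpowers x ⊔ Zs ≤ X := sup_le (Subgroup.zpowers_le.mpr hxX) hZX
    by_contra hcon
    have hne : Subgroup.zpowers x ⊔ Zs ≠ X := fun h => hcon (h ▸ le_refl _)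
    have hc : Nat.card (Subgroup.zpowers x ⊔ Zs : Subgroup R) ≤ 3 := by
      rcases Cfsg.Agent.S1453.sub_card_sq hR _ X hY hne hX2 with h | h <;> omega
    have h1 : Zs = Subgroup.zpowers x ⊔ Zs :=
      Subgroup.eq_of_le_of_card_ge le_sup_right (by rw [hZcard]; exact hc)
    apply hxT
    apply hZT
    rw [h1]
    exact (le_sup_left : Subgroup.zpowers x ≤ _) (Subgroup.mem_zpowers x)
  apply card_le_27 N hNc hNe x (hXe x hxX) hxN
  intro K hKN hKx
  have hKc : ∀ a ∈ K, ∀ b ∈ K, a * b = b * a := fun a ha b hb => hNc a (hKN ha) b (hKN hb)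
  have hKe : ∀ a ∈ K, a ^ 3 = 1 := fun a ha => hNe a (hKN ha)
  have hXK : ∀ a ∈ X, ∀ b ∈ K, a * b = b * a := by
    intro a ha b hb
    have h1 : Subgroup.zpowers x ⊔ Zs ≤ Subgroup.centralizer {b} := by
      apply sup_le
      · rw [Subgroup.zpowers_le, Subgroup.mem_centralizer_singleton_iff]
        have h2 := hKx b hb
        calc x * b = x * (x⁻¹ * b * x) := by rw [h2]
          _ = b * x := by group
      · intro z hz
        rw [Subgroup.mem_centralizer_singleton_iff]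
        exact (Subgroup.mem_center_iff.mp (hZc hz) b).symm
    have h3 := h1 (hXgen ha)
    rw [Subgroup.mem_centralizer_singleton_iff] at h3
    exact h3
  have hsup := Cfsg.Agent.S1453.sup_elemAb (p := 3) X K hXc hXe hKc hKe hXK
  have hKX : K ≤ X := by
    have h1 := hXmax (X ⊔ K) hsup.1 hsup.2 le_sup_left
    rw [← h1]; exact le_sup_right
  calc Nat.card K ≤ Nat.card (X ⊓ T : Subgroup R) :=
        Subgroup.card_le_of_le (le_inf hKX (hKN.trans hNT))
    _ ≤ 3 := hXTcard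

end Cfsg.Agent.Lib.Helper9.Conn3
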