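import Mathlib
import Cfsg.Agent.Lib.Helper9.Conn3c

/-!
# helper9: the endgame -- large elementary abelian subgroups of `T` are normal
-/

set_option autoImplicit false

namespace Cfsg.Agent.Lib.Helper9.Conn3

variable {R : Type*} [Group R]

theorem endgame [Finite R] (hR : IsPGroup 3 R) (Ws V : Subgroup R) [hWn : Ws.Normal]
    [hVn : V.Normal] (hWV : Ws ≤ V) (hWc : ∀ a ∈ Ws, ∀ b ∈ Ws, a * b = b * a)
    (hWe : ∀ a ∈ Ws, a ^ 3 = 1)
    (hVc : ∀ a ∈ V, ∀ b ∈ V, a * b = b * a)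
    (hVcard : Nat.card V = 27) (hWcard : Nat.card Ws = 9)
    (hAlp : ∀ g ∈ Subgroup.centralizer (V : Set R), g ^ 3 = 1 → g ∈ V)
    (A : Subgroup R) (hAc : ∀ a ∈ A, ∀ b ∈ A, a * b = b * a) (hAe : ∀ a ∈ A, a ^ 3 = 1)
    (hAT : A ≤ Subgroup.centralizer (Ws : Set R)) (hA81 : 81 ≤ Nat.card A) : A.Normal := by
  classical
  have : Fact (Nat.Prime 3) := ⟨Nat.prime_three⟩
  obtain ⟨T, hT⟩ : ∃ T, T = Subgroup.centralizer (Ws : Set R) := ⟨_, rfl⟩
  have hTn : T.Normal := hT ▸ Subgroup.normal_centralizer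
  have hTmem : ∀ t, t ∈ T ↔ ∀ w ∈ Ws, w * t = t * w := by
    intro t; rw [hT, Subgroup.mem_centralizer_iff]; rfl
  rw [← hT] at hAT
  have pow3 : ∀ H : Subgroup R, ∃ j, Nat.card H = 3 ^ j :=
    fun H => (hR.to_subgroup H).exists_card_eq
  have hVT : V ≤ T := fun v hv => (hTmem v).mpr (fun w hw => hVc w (hWV hw) v hv)
  -- generation of V
  have hgenV : ∀ q ∈ V, q ∉ Ws → V ≤ Ws ⊔ Subgroup.zpowers q := by
    intro q hqV hqW
    have hY : Ws ⊔ Subgroup.zpowers q ≤ V := sup_le hWV (Subgroup.zpowers_le.mpr hqV)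
    obtain ⟨j, hj⟩ := pow3 (Ws ⊔ Subgroup.zpowers q)
    have h9 : 9 < Nat.card (Ws ⊔ Subgroup.zpowers q : Subgroup R) := by
      by_contra hcon
      push Not at hcon
      have h1 : Ws = Ws ⊔ Subgroup.zpowers q :=
        Subgroup.eq_of_le_of_card_ge le_sup_left (by rw [hWcard]; exact hcon)
      apply hqW
      rw [h1]
      exact (le_sup_right : Subgroup.zpowers q ≤ _) (Subgroup.mem_zpowers q)
    have h27 : Nat.card (Ws ⊔ Subgroup.zpowers q : Subgroup R) ≤ 27 :=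
      hVcard ▸ Subgroup.card_le_of_le hY
    have h3 : Nat.card (Ws ⊔ Subgroup.zpowers q : Subgroup R) = 27 := by
      rw [hj] at h9 h27 ⊢
      exact pow_eq_27 j h9 h27
    have h4 := Subgroup.eq_of_le_of_card_ge hY (by rw [h3, hVcard])
    rw [h4]
  -- centralizing some q ∈ V \ Ws inside T means centralizing V
  have hQ : ∀ q ∈ V, q ∉ Ws → ∀ t ∈ T, t * q = q * t →
      t ∈ Subgroup.centralizer (V : Set R) := by
    intro q hqV hqW t ht htq
    have h1 : Ws ⊔ Subgroup.zpowers q ≤ Subgroup.centralizer {t} := by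
      apply sup_le
      · intro w hw
        rw [Subgroup.mem_centralizer_singleton_iff]
        exact (hTmem t).mp ht w hw
      · rw [Subgroup.zpowers_le, Subgroup.mem_centralizer_singleton_iff]
        exact htq.symm
    rw [Subgroup.mem_centralizer_iff]
    intro v hv
    have h2 := h1 (hgenV q hqV hqW hv)
    rw [Subgroup.mem_centralizer_singleton_iff] at h2
    exact h2
  -- choose v0
  obtain ⟨v0, hv0V, hv0W⟩ : ∃ v0 ∈ V, v0 ∉ Ws := by
    by_contra hcon
    push Not at hcon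
    have h1 : V ≤ Ws := fun v hv => hcon v hv
    have h2 := Subgroup.card_le_of_le h1
    omega
  -- orbits have size at most 9
  have hOrb : ∀ D : Subgroup R,
      ((fun d : R => d * v0 * d⁻¹) '' (D : Set R)).ncard ≤ 9 := by
    intro D
    have hsub : (fun d : R => d * v0 * d⁻¹) '' (D : Set R) ⊆ (V : Set R) \ (Ws : Set R) := by
      rintro y ⟨d, -, rfl⟩
      refine ⟨hVn.conj_mem v0 hv0V d, ?_⟩
      intro hy
      apply hv0W
      have h1 := hWn.conj_mem _ hy d⁻¹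
      have h2 : d⁻¹ * (d * v0 * d⁻¹) * d⁻¹⁻¹ = v0 := by group
      rw [h2] at h1
      exact h1
    have h18 : ((V : Set R) \ (Ws : Set R)).ncard = 18 := by
      rw [Set.ncard_sdiff (show (Ws : Set R) ⊆ (V : Set R) from hWV) (Set.toFinite _)]
      have e1 : (V : Set R).ncard = 27 := by
        rw [← Nat.card_coe_set_eq]; exact hVcard
      have e2 : (Ws : Set R).ncard = 9 := by
        rw [← Nat.card_coe_set_eq]; exact hWcard
      rw [e1, e2]
    have hle : ((fun d : R => d * v0 * d⁻¹) '' (D : Set R)).ncard ≤ 18 := by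
      rw [← h18]
      exact Set.ncard_le_ncard hsub (Set.toFinite _)
    have hdvd : ((fun d : R => d * v0 * d⁻¹) '' (D : Set R)).ncard ∣ Nat.card D :=
      ⟨_, card_eq_orbit_mul_centralizer D v0⟩
    obtain ⟨k, hk⟩ := pow3 D
    rw [hk] at hdvd
    obtain ⟨i, -, hi⟩ := (Nat.dvd_prime_pow Nat.prime_three).mp hdvd
    rw [hi] at hle ⊢
    exact pow_le_9 i hle
  -- structure of the large elementary abelian subgroups of T
  have hE1a : ∀ B : Subgroup R, (∀ a ∈ B, ∀ b ∈ B, a * b = b * a) → (∀ a ∈ B, a ^ 3 = 1) →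
      B ≤ T → 81 ≤ Nat.card B →
      Nat.card B = 81 ∧ Nat.card (V ⊓ B : Subgroup R) ≤ 9 ∧
        (B ⊓ Subgroup.centralizer {v0} ≤ V ⊓ B) ∧
        ((fun d : R => d * v0 * d⁻¹) '' (B : Set R)).ncard = 9 := by
    intro B hBc hBe hBT hB81
    have hBC : B ⊓ Subgroup.centralizer {v0} ≤ V ⊓ B := by
      intro b hb
      rw [Subgroup.mem_inf] at hb
      obtain ⟨hbB, hbC⟩ := hb
      rw [Subgroup.mem_centralizer_singleton_iff] at hbC
      exact ⟨hAlp b (hQ v0 hv0V hv0W b (hBT hbB) hbC) (hBe b hbB), hbB⟩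
    have hVB : ¬ V ≤ B := by
      intro hVB
      have h1 : B ≤ V := by
        intro b hb
        apply hAlp b _ (hBe b hb)
        rw [Subgroup.mem_centralizer_iff]
        intro v hv
        exact hBc v (hVB hv) b hb
      have h2 := Subgroup.card_le_of_le h1
      omega
    have hVBcard : Nat.card (V ⊓ B : Subgroup R) ≤ 9 := by
      obtain ⟨j, hj⟩ := pow3 (V ⊓ B)
      have h1 : Nat.card (V ⊓ B : Subgroup R) ≤ 27 :=
        hVcard ▸ Subgroup.card_le_of_le inf_le_left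
      have h2 : Nat.card (V ⊓ B : Subgroup R) ≠ 27 := by
        intro h
        have h3 : V ⊓ B = V := Subgroup.eq_of_le_of_card_ge inf_le_left (by rw [h, hVcard])
        exact hVB (h3 ▸ inf_le_right)
      rw [hj] at h1 h2 ⊢
      exact pow_lt_27 j (lt_of_le_of_ne h1 h2)
    have hcent : Nat.card (B ⊓ Subgroup.centralizer {v0} : Subgroup R) ≤ 9 :=
      (Subgroup.card_le_of_le hBC).trans hVBcard
    have horb := hOrb B
    have hprod := card_eq_orbit_mul_centralizer B v0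
    have h1 : ((fun d : R => d * v0 * d⁻¹) '' (B : Set R)).ncard *
        Nat.card (B ⊓ Subgroup.centralizer {v0} : Subgroup R) ≤ 9 * 9 :=
      Nat.mul_le_mul horb hcent
    have h2 : Nat.card B = 81 := by omega
    refine ⟨h2, hVBcard, hBC, ?_⟩
    by_contra hne
    have h3 : ((fun d : R => d * v0 * d⁻¹) '' (B : Set R)).ncard ≤ 8 := by omega
    have h4 : ((fun d : R => d * v0 * d⁻¹) '' (B : Set R)).ncard *
        Nat.card (B ⊓ Subgroup.centralizer {v0} : Subgroup R) ≤ 8 * 9 :=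
      Nat.mul_le_mul h3 hcent
    omega
  have hE1 : ∀ B : Subgroup R, (∀ a ∈ B, ∀ b ∈ B, a * b = b * a) → (∀ a ∈ B, a ^ 3 = 1) →
      B ≤ T → 81 ≤ Nat.card B →
      Nat.card B = 81 ∧ Ws ≤ B ∧ V ⊓ B ≤ Ws ∧
        ((fun d : R => d * v0 * d⁻¹) '' (B : Set R)).ncard = 9 := by
    intro B hBc hBe hBT hB81
    obtain ⟨h1, h2, h3, h4⟩ := hE1a B hBc hBe hBT hB81
    have hBW : ∀ a ∈ B, ∀ b ∈ Ws, a * b = b * a := fun a ha b hb =>
      ((hTmem a).mp (hBT ha) b hb).symm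
    have hsup := Cfsg.Agent.S1453.sup_elemAb (p := 3) B Ws hBc hBe hWc hWe hBW
    have hWT : Ws ≤ T := hWV.trans hVT
    have h5 := hE1a (B ⊔ Ws) hsup.1 hsup.2 (sup_le hBT hWT)
      (hB81.trans (Subgroup.card_le_of_le le_sup_left))
    have h6 : B = B ⊔ Ws := Subgroup.eq_of_le_of_card_ge le_sup_left (by rw [h5.1, h1])
    have hWB : Ws ≤ B := by rw [h6]; exact le_sup_right
    have h7 : Ws = V ⊓ B :=
      Subgroup.eq_of_le_of_card_ge (le_inf hWV hWB) (by rw [hWcard]; exact h2)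
    exact ⟨h1, hWB, h7 ▸ le_refl _, h4⟩
  have hE2 : ∀ B : Subgroup R, (∀ a ∈ B, ∀ b ∈ B, a * b = b * a) → (∀ a ∈ B, a ^ 3 = 1) →
      B ≤ T → 81 ≤ Nat.card B → ∀ t ∈ T, ∃ b ∈ B, b⁻¹ * t ∈ Subgroup.centralizer (V : Set R) := by
    intro B hBc hBe hBT hB81 t ht
    obtain ⟨-, -, -, h4⟩ := hE1 B hBc hBe hBT hB81
    have hsub : (fun d : R => d * v0 * d⁻¹) '' (B : Set R) ⊆
        (fun d : R => d * v0 * d⁻¹) '' (T : Set R) := Set.image_mono hBT
    have heq := Set.eq_of_subset_of_ncard_le hsub (by rw [h4]; exact hOrb T) (Set.toFinite _)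
    have hmem : t * v0 * t⁻¹ ∈ (fun d : R => d * v0 * d⁻¹) '' (T : Set R) := ⟨t, ht, rfl⟩
    rw [← heq] at hmem
    obtain ⟨b, hb, hbt⟩ := hmem
    have hb : b ∈ B := hb
    have hbt : b * v0 * b⁻¹ = t * v0 * t⁻¹ := hbt
    refine ⟨b, hb, hQ v0 hv0V hv0W _ (T.mul_mem (T.inv_mem (hBT hb)) ht) ?_⟩
    calc b⁻¹ * t * v0 = b⁻¹ * (t * v0 * t⁻¹) * t := by group
      _ = b⁻¹ * (b * v0 * b⁻¹) * t := by rw [hbt]
      _ = v0 * (b⁻¹ * t) := by group
  -- uniqueness: mutually normalizing members coincide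
  have hUniq : ∀ B B' : Subgroup R, (∀ a ∈ B, ∀ b ∈ B, a * b = b * a) → (∀ a ∈ B, a ^ 3 = 1) →
      B ≤ T → 81 ≤ Nat.card B → (∀ a ∈ B', ∀ b ∈ B', a * b = b * a) → (∀ a ∈ B', a ^ 3 = 1) →
      B' ≤ T → 81 ≤ Nat.card B' → B' ≤ Subgroup.normalizer (B : Set R) →
      B ≤ Subgroup.normalizer (B' : Set R) → B' ≤ B := by
    intro B B' hBc hBe hBT hB81 hB'c hB'e hB'T hB'81 hn1 hn2
    by_contra hcon
    obtain ⟨a', ha'B', ha'B⟩ := SetLike.not_le_iff_exists.mp hcon
    obtain ⟨hBcard, hWB, hVBW, -⟩ := hE1 B hBc hBe hBT hB81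
    obtain ⟨hB'card, -, -, -⟩ := hE1 B' hB'c hB'e hB'T hB'81
    have hexp := pow_three_of_mutual B B' hBc hBe hB'c hB'e hn1 hn2
    have hdecomp : ∀ y ∈ B', ∃ a ∈ B, a⁻¹ * y ∈ V := by
      intro y hy
      obtain ⟨a, ha, haq⟩ := hE2 B hBc hBe hBT hB81 y (hB'T hy)
      refine ⟨a, ha, hAlp _ haq (hexp _ ?_)⟩
      exact (B ⊔ B').mul_mem ((le_sup_left : B ≤ B ⊔ B') (B.inv_mem ha))
        ((le_sup_right : B' ≤ B ⊔ B') hy)
    have hB'BV : B' ≤ B ⊔ V := by
      intro y hy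
      obtain ⟨a, ha, haq⟩ := hdecomp y hy
      have h1 : y = a * (a⁻¹ * y) := by group
      rw [h1]
      exact (B ⊔ V).mul_mem ((le_sup_left : B ≤ B ⊔ V) ha) ((le_sup_right : V ≤ B ⊔ V) haq)
    obtain ⟨a, ha, haq⟩ := hdecomp a' ha'B'
    have hqW : a⁻¹ * a' ∉ Ws := by
      intro hq
      apply ha'B
      have h1 : a' = a * (a⁻¹ * a') := by group
      rw [h1]
      exact B.mul_mem ha (hWB hq)
    have hinf : B ⊓ B' ≤ Ws := by
      intro z hz
      rw [Subgroup.mem_inf] at hz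
      obtain ⟨hzB, hzB'⟩ := hz
      have h1 : z * (a⁻¹ * a') = (a⁻¹ * a') * z := by
        have e1 : z * a⁻¹ = a⁻¹ * z := hBc z hzB a⁻¹ (B.inv_mem ha)
        have e2 : z * a' = a' * z := hB'c z hzB' a' ha'B'
        calc z * (a⁻¹ * a') = (z * a⁻¹) * a' := by group
          _ = a⁻¹ * (z * a') := by rw [e1]; group
          _ = (a⁻¹ * a') * z := by rw [e2]; group
      have h2 := hQ _ haq hqW z (hBT hzB) h1
      have h3 : z ∈ V := hAlp z h2 (hBe z hzB)
      exact hVBW ⟨h3, hzB⟩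
    -- counting
    have r3 : Nat.card (V ⊓ B : Subgroup R) * (V ⊓ B).relIndex B = Nat.card B := by
      have := Subgroup.relIndex_mul_relIndex ⊥ (V ⊓ B) B bot_le inf_le_right
      rwa [Subgroup.relIndex_bot_left, Subgroup.relIndex_bot_left] at this
    have hVBeq : V ⊓ B = Ws := le_antisymm hVBW (le_inf hWV hWB)
    have r2 : V.relIndex B = 9 := by
      rw [← Subgroup.inf_relIndex_right V B]
      rw [hVBeq, hWcard, hBcard] at r3
      rw [hVBeq]
      omega
    have r1 : V.relIndex (B ⊔ V) = 9 := by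
      rw [Subgroup.relIndex_sup_right B V]; exact r2
    have r4 : Nat.card (B ⊔ V : Subgroup R) = 243 := by
      have := Subgroup.relIndex_mul_relIndex ⊥ V (B ⊔ V) bot_le le_sup_right
      rw [Subgroup.relIndex_bot_left, Subgroup.relIndex_bot_left, hVcard, r1] at this
      omega
    have r5 : B.relIndex (B ⊔ V) = 3 := by
      have := Subgroup.relIndex_mul_relIndex ⊥ B (B ⊔ V) bot_le le_sup_left
      rw [Subgroup.relIndex_bot_left, Subgroup.relIndex_bot_left, hBcard, r4] at this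
      omega
    have r6 : B.relIndex B' ≤ 3 := by
      rw [← r5]
      exact Subgroup.relIndex_le_of_le_right hB'BV (by rw [r5]; norm_num)
    have r7 : Nat.card (B ⊓ B' : Subgroup R) * B.relIndex B' = Nat.card B' := by
      have := Subgroup.relIndex_mul_relIndex ⊥ (B ⊓ B') B' bot_le inf_le_right
      rwa [Subgroup.relIndex_bot_left, Subgroup.relIndex_bot_left,
        Subgroup.inf_relIndex_right] at this
    have r8 : Nat.card (B ⊓ B' : Subgroup R) ≤ 9 := hWcard ▸ Subgroup.card_le_of_le hinf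
    have r9 : Nat.card (B ⊓ B' : Subgroup R) * B.relIndex B' ≤ 9 * 3 := Nat.mul_le_mul r8 r6
    omega
  -- the normalizer trick
  apply normal_of_conj_unique hR A
  intro t h1 h2
  have hcardt : Nat.card (A.map (MulAut.conj t).toMonoidHom : Subgroup R) = Nat.card A :=
    Subgroup.card_map_of_injective (MulAut.conj t).injective
  have hAtc : ∀ a ∈ A.map (MulAut.conj t).toMonoidHom, ∀ b ∈ A.map (MulAut.conj t).toMonoidHom,
      a * b = b * a := by
    rintro _ ⟨a, ha, rfl⟩ _ ⟨b, hb, rfl⟩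
    show (MulAut.conj t) a * (MulAut.conj t) b = (MulAut.conj t) b * (MulAut.conj t) a
    rw [← map_mul, ← map_mul, hAc a ha b hb]
  have hAte : ∀ a ∈ A.map (MulAut.conj t).toMonoidHom, a ^ 3 = 1 := by
    rintro _ ⟨a, ha, rfl⟩
    show (MulAut.conj t) a ^ 3 = 1
    rw [← map_pow, hAe a ha, map_one]
  have hAtT : A.map (MulAut.conj t).toMonoidHom ≤ T := by
    rintro _ ⟨a, ha, rfl⟩
    show (MulAut.conj t) a ∈ T
    rw [MulAut.conj_apply]
    exact hTn.conj_mem a (hAT ha) t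
  have h3 := hUniq A (A.map (MulAut.conj t).toMonoidHom) hAc hAe hAT hA81 hAtc hAte hAtT
    (by rw [hcardt]; exact hA81) h1 h2
  exact Subgroup.eq_of_le_of_card_ge h3 (by rw [hcardt])

end Cfsg.Agent.Lib.Helper9.Conn3
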