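import Mathlib
import Cfsg.Agent.Lib.Helper9.Conn3d
import Cfsg.Agent.Lib.Helper97.PRank

/-!
# helper9: a 3-group with a maximal elementary abelian subgroup of order 9 has rank ≤ 3
-/

set_option autoImplicit false

namespace Cfsg.Agent.Lib.Helper9.Conn3

variable {R : Type*} [Group R]

theorem prank_le_three_of_max_nine [Finite R] (hR : IsPGroup 3 R) (X : Subgroup R)
    (hXc : ∀ a ∈ X, ∀ b ∈ X, a * b = b * a) (hXe : ∀ a ∈ X, a ^ 3 = 1)
    (hX2 : Nat.card X = 3 ^ 2)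
    (hXmax : ∀ B : Subgroup R, (∀ a ∈ B, ∀ b ∈ B, a * b = b * a) → (∀ a ∈ B, a ^ 3 = 1) →
      X ≤ B → B = X)
    (A₀ : Subgroup R) (hA₀c : ∀ a ∈ A₀, ∀ b ∈ A₀, a * b = b * a) (hA₀e : ∀ a ∈ A₀, a ^ 3 = 1) :
    Nat.card A₀ ≤ 27 := by
  classical
  have : Fact (Nat.Prime 3) := ⟨Nat.prime_three⟩
  by_contra hcon
  push Not at hcon
  have pow3 : ∀ H : Subgroup R, ∃ j, Nat.card H = 3 ^ j :=
    fun H => (hR.to_subgroup H).exists_card_eq
  have hr2 : ¬ Cfsg.PRankLE 3 2 R := by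
    intro h
    have h1 := h A₀ ⟨⟨fun a b => Subtype.ext (hA₀c a a.2 b b.2)⟩⟩ hA₀e
    norm_num at h1
    omega
  obtain ⟨Ws, hWs⟩ := Cfsg.Agent.S1453.exists_omegaZ2 (R := R) (p := 3) Nat.prime_three
    (by norm_num)
  have hWs' : ∀ x, x ∈ Ws ↔ x ∈ Subgroup.upperCentralSeries R 2 ∧ x ^ 3 = 1 := by
    intro x
    rw [← SetLike.mem_coe, hWs]; rfl
  obtain ⟨Zs, hZsdef⟩ : ∃ Zs, Zs = Cfsg.Agent.S1453.omegaCenter 3 R := ⟨_, rfl⟩
  have hZs : ∀ x, x ∈ Zs ↔ x ∈ Subgroup.center R ∧ x ^ 3 = 1 := by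
    intro x; rw [hZsdef]; rfl
  obtain ⟨hXT, hZcard, ⟨hWc, hWcard⟩, -⟩ := Cfsg.Agent.S1453.core 3 (by norm_num) hR hr2 X
    hXc hXe hX2 hXmax Zs Ws hZs hWs'
  obtain ⟨T, hT⟩ : ∃ T, T = Subgroup.centralizer (Ws : Set R) := ⟨_, rfl⟩
  rw [← hT] at hXT
  have hWe : ∀ a ∈ Ws, a ^ 3 = 1 := fun a ha => ((hWs' a).mp ha).2
  have hWn : Ws.Normal := by
    constructor
    intro n hn g
    rw [hWs'] at hn ⊢
    refine ⟨(inferInstance : (Subgroup.upperCentralSeries R 2).Normal).conj_mem n hn.1 g, ?_⟩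
    rw [conj_pow, hn.2]; group
  have hTn : T.Normal := hT ▸ Subgroup.normal_centralizer
  have hTmem : ∀ t, t ∈ T ↔ ∀ w ∈ Ws, w * t = t * w := by
    intro t; rw [hT, Subgroup.mem_centralizer_iff]; rfl
  have hZc : Zs ≤ Subgroup.center R := fun z hz => ((hZs z).mp hz).1
  have hZe : ∀ z ∈ Zs, z ^ 3 = 1 := fun z hz => ((hZs z).mp hz).2
  have hZT : Zs ≤ T := fun z hz => (hTmem z).mpr
    (fun w _ => Subgroup.mem_center_iff.mp (hZc hz) w)
  obtain ⟨x, hxX, hxT⟩ := SetLike.not_le_iff_exists.mp hXT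
  have hS1n : ∀ N : Subgroup R, N.Normal → N ≤ T → (∀ a ∈ N, ∀ b ∈ N, a * b = b * a) →
      (∀ a ∈ N, a ^ 3 = 1) → Nat.card N ≤ 27 := by
    intro N hNn hNT hNc hNe
    refine step1 hR X hXc hXe hX2 hXmax T Zs hZc hZe hZcard hZT x hxX hxT N hNT hNc hNe ?_
    intro n hn
    have h1 := hNn.conj_mem n hn x⁻¹
    simpa using h1
  -- the normal elementary abelian subgroup V of order 27
  obtain ⟨V, hVn, hWV, hVc, hVe, hV9⟩ :=
    Cfsg.Agent.Lib.Helper97.PRank.exists_normal_elemAb_gt (p := 3) (by norm_num) hR hr2 Ws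
      hWc hWe hWcard
  have hVT : V ≤ T := fun v hv => (hTmem v).mpr (fun w hw => hVc w (hWV hw) v hv)
  have hV27 : Nat.card V = 27 := by
    obtain ⟨j, hj⟩ := pow3 V
    have h1 := hS1n V hVn hVT hVc hVe
    rw [hj] at h1 hV9 ⊢
    exact pow_eq_27 j (by norm_num at hV9; exact hV9) h1
  -- Alperin
  have hAlp : ∀ g ∈ Subgroup.centralizer (V : Set R), g ^ 3 = 1 → g ∈ V := by
    intro g hg hg3
    refine Cfsg.Agent.Lib.Helper45.alperin_mem_of_mem_centralizer hR 1 (by norm_num) V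
      ⟨⟨fun a b => Subtype.ext (hVc a a.2 b b.2)⟩⟩
      (fun a ha => by rw [pow_one]; exact hVe a ha) ?_ g hg (by rw [pow_one]; exact hg3)
    intro B hBn hBc hBe hVB
    have hBc' : ∀ a ∈ B, ∀ b ∈ B, a * b = b * a := fun a ha b hb =>
      congrArg Subtype.val (hBc.is_comm.comm ⟨a, ha⟩ ⟨b, hb⟩)
    have hBe' : ∀ a ∈ B, a ^ 3 = 1 := fun a ha => by
      have h1 := hBe a ha
      rwa [pow_one] at h1
    have hBT : B ≤ T := fun b hb => (hTmem b).mpr (fun w hw => hBc' w (hVB (hWV hw)) b hb)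
    have h1 := hS1n B hBn hBT hBc' hBe'
    exact (Subgroup.eq_of_le_of_card_ge hVB (by rw [hV27]; exact h1)).symm
  -- a large elementary abelian subgroup of T
  have hWT : Ws ≤ T := hWV.trans hVT
  obtain ⟨A, hAc, hAe, hAT, hA81⟩ : ∃ A : Subgroup R, (∀ a ∈ A, ∀ b ∈ A, a * b = b * a) ∧
      (∀ a ∈ A, a ^ 3 = 1) ∧ A ≤ T ∧ 81 ≤ Nat.card A := by
    have hc1 : ∀ a ∈ A₀ ⊓ T, ∀ b ∈ A₀ ⊓ T, a * b = b * a := fun a ha b hb =>
      hA₀c a ha.1 b hb.1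
    have he1 : ∀ a ∈ A₀ ⊓ T, a ^ 3 = 1 := fun a ha => hA₀e a ha.1
    have hcw : ∀ a ∈ A₀ ⊓ T, ∀ b ∈ Ws, a * b = b * a := fun a ha b hb =>
      ((hTmem a).mp ha.2 b hb).symm
    have hsup := Cfsg.Agent.S1453.sup_elemAb (p := 3) (A₀ ⊓ T) Ws hc1 he1 hWc hWe hcw
    refine ⟨(A₀ ⊓ T) ⊔ Ws, hsup.1, hsup.2, sup_le inf_le_right hWT, ?_⟩
    obtain ⟨j, hj⟩ := pow3 ((A₀ ⊓ T) ⊔ Ws)
    rw [hj]
    apply pow_ge_81
    rw [← hj]
    by_cases hA₀T : A₀ ≤ T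
    · have h1 : A₀ ≤ (A₀ ⊓ T) ⊔ Ws := (le_inf le_rfl hA₀T).trans le_sup_left
      exact lt_of_lt_of_le hcon (Subgroup.card_le_of_le h1)
    · have h27 : 27 ≤ Nat.card (A₀ ⊓ T : Subgroup R) := by
        have h1 : T.relIndex A₀ ∣ T.index := Subgroup.relIndex_dvd_index_of_normal T A₀
        have hTidx : T.index = 3 := by
          have := (Cfsg.Agent.S1453.core 3 (by norm_num) hR hr2 X
            hXc hXe hX2 hXmax Zs Ws hZs hWs').2.2.2
          rw [hT]; exact this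
        rw [hTidx] at h1
        have h2 : T.relIndex A₀ ≤ 3 := Nat.le_of_dvd (by norm_num) h1
        have h3 : Nat.card (T ⊓ A₀ : Subgroup R) * T.relIndex A₀ = Nat.card A₀ := by
          have := Subgroup.relIndex_mul_relIndex ⊥ (T ⊓ A₀) A₀ bot_le inf_le_right
          rwa [Subgroup.relIndex_bot_left, Subgroup.relIndex_bot_left,
            Subgroup.inf_relIndex_right] at this
        obtain ⟨k, hk⟩ := pow3 A₀
        have h4 : 81 ≤ Nat.card A₀ := by rw [hk] at hcon ⊢; exact pow_ge_81 k hcon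
        rw [inf_comm] at h3
        have h5 : Nat.card (A₀ ⊓ T : Subgroup R) * T.relIndex A₀ ≤
            Nat.card (A₀ ⊓ T : Subgroup R) * 3 := Nat.mul_le_mul_left _ h2
        omega
      have hW : ¬ Ws ≤ A₀ ⊓ T := by
        intro hW
        apply hA₀T
        intro a ha
        exact (hTmem a).mpr (fun w hw => hA₀c w (hW hw).1 a ha)
      have hlt : Nat.card (A₀ ⊓ T : Subgroup R) < Nat.card ((A₀ ⊓ T) ⊔ Ws : Subgroup R) := by
        by_contra hge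
        push Not at hge
        have h1 : A₀ ⊓ T = (A₀ ⊓ T) ⊔ Ws := Subgroup.eq_of_le_of_card_ge le_sup_left hge
        apply hW
        rw [h1]
        exact le_sup_right
      omega
  have hAn : A.Normal := by
    have hVn' := hVn
    exact endgame hR Ws V hWV hWc hWe hVc hV27 (by rw [hWcard]; norm_num) hAlp A hAc hAe
      (hT ▸ hAT) hA81
  have h1 := hS1n A hAn hAT hAc hAe
  omega

end Cfsg.Agent.Lib.Helper9.Conn3
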