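import Mathlib
import Cfsg.Agent.Lib.Helper17.PGroupNorm
import Cfsg.Prelude.Def_CaseTheorems

set_option autoImplicit false

namespace Cfsg.Agent.Lib.Helper9

open scoped Pointwise

section Four

variable {G : Type*} [Group G]

theorem isKleinFour_of_mulEquiv {H K : Type*} [Group H] [Group K] (e : H ≃* K)
    (h : IsKleinFour H) : IsKleinFour K :=
  { card_four := by rw [← Nat.card_congr e.toEquiv]; exact h.card_four
    exponent_two := by rw [← Monoid.exponent_eq_of_mulEquiv e]; exact h.exponent_two }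

theorem isKleinFour_smul (g : G) (U : Subgroup G) (h : IsKleinFour U) :
    IsKleinFour (MulAut.conj g • U : Subgroup G) :=
  isKleinFour_of_mulEquiv (Subgroup.equivSMul (MulAut.conj g) U) h

theorem isKleinFour_iff (V : Subgroup G) :
    IsKleinFour V ↔ Nat.card V = 4 ∧ ∀ v ∈ V, v ^ 2 = 1 := by
  constructor
  · intro h
    refine ⟨h.card_four, ?_⟩
    intro v hv
    have h1 := Monoid.pow_exponent_eq_one (⟨v, hv⟩ : V)
    rw [h.exponent_two] at h1
    have h2 := congrArg (fun y : V => (y : G)) h1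
    simpa using h2
  · rintro ⟨hc, he⟩
    refine ⟨hc, ?_⟩
    have h1 : Monoid.exponent V ∣ 2 := by
      apply Monoid.exponent_dvd_of_forall_pow_eq_one
      intro v
      ext
      simpa using he v v.2
    rcases (Nat.dvd_prime Nat.prime_two).mp h1 with h2 | h2
    · exfalso
      have h3 : Subsingleton V := Monoid.exp_eq_one_iff.mp h2
      have h4 : Nat.card V ≤ 1 := Finite.card_le_one_iff_subsingleton.mpr h3
      omega
    · exact h2

/-- Adjacency in the commuting graph of Klein four-subgroups. -/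
def FourAdj (G : Type*) [Group G] (A B : Subgroup G) : Prop :=
  IsKleinFour A ∧ IsKleinFour B ∧ ∀ a ∈ A, ∀ b ∈ B, a * b = b * a

theorem FourAdj.symm {A B : Subgroup G} (h : FourAdj G A B) : FourAdj G B A :=
  ⟨h.2.1, h.1, fun b hb a ha => (h.2.2 a ha b hb).symm⟩

theorem FourAdj.smul {A B : Subgroup G} (h : FourAdj G A B) (g : G) :
    FourAdj G (MulAut.conj g • A) (MulAut.conj g • B) := by
  refine ⟨isKleinFour_smul g A h.1, isKleinFour_smul g B h.2.1, ?_⟩
  intro a ha b hb
  rw [Subgroup.mem_smul_pointwise_iff_exists] at ha hb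
  obtain ⟨a', ha', rfl⟩ := ha
  obtain ⟨b', hb', rfl⟩ := hb
  simp only [MulAut.smul_def, MulAut.conj_apply]
  have := h.2.2 a' ha' b' hb'
  calc g * a' * g⁻¹ * (g * b' * g⁻¹) = g * (a' * b') * g⁻¹ := by group
    _ = g * (b' * a') * g⁻¹ := by rw [this]
    _ = g * b' * g⁻¹ * (g * a' * g⁻¹) := by group

/-- Connectedness relation. -/
def FourRel (G : Type*) [Group G] : Subgroup G → Subgroup G → Prop :=
  Relation.ReflTransGen (FourAdj G)

theorem FourRel.symm {A B : Subgroup G} (h : FourRel G A B) : FourRel G B A := by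
  induction h with
  | refl => exact Relation.ReflTransGen.refl
  | tail _ hbc ih => exact Relation.ReflTransGen.head hbc.symm ih

theorem FourRel.trans {A B C : Subgroup G} (h : FourRel G A B) (h' : FourRel G B C) :
    FourRel G A C := Relation.ReflTransGen.trans h h'

theorem FourRel.smul {A B : Subgroup G} (h : FourRel G A B) (g : G) :
    FourRel G (MulAut.conj g • A) (MulAut.conj g • B) := by
  induction h with
  | refl => exact Relation.ReflTransGen.refl
  | tail _ hbc ih => exact Relation.ReflTransGen.tail ih (hbc.smul g)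

/-- Four-groups inside a four-connected subgroup are related in `G`. -/
theorem fourRel_of_le (S : Subgroup G) (hS : Cfsg.IsFourConnected S) (U V : Subgroup G)
    (hU : IsKleinFour U) (hV : IsKleinFour V) (hUS : U ≤ S) (hVS : V ≤ S) : FourRel G U V := by
  have hU' : IsKleinFour (U.subgroupOf S) :=
    isKleinFour_of_mulEquiv (Subgroup.subgroupOfEquivOfLe hUS).symm hU
  have hV' : IsKleinFour (V.subgroupOf S) :=
    isKleinFour_of_mulEquiv (Subgroup.subgroupOfEquivOfLe hVS).symm hV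
  have h := hS (U.subgroupOf S) (V.subgroupOf S) hU' hV'
  have key : ∀ A B : Subgroup S, Relation.ReflTransGen
      (fun A B : Subgroup S => IsKleinFour A ∧ IsKleinFour B ∧ ∀ a ∈ A, ∀ b ∈ B, a * b = b * a) A B →
      FourRel G (A.map S.subtype) (B.map S.subtype) := by
    intro A B hAB
    induction hAB with
    | refl => exact Relation.ReflTransGen.refl
    | tail _ hbc ih =>
      refine Relation.ReflTransGen.tail ih ?_
      obtain ⟨h1, h2, h3⟩ := hbc
      refine ⟨isKleinFour_of_mulEquiv (Subgroup.equivMapOfInjective _ _ S.subtype_injective) h1,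
        isKleinFour_of_mulEquiv (Subgroup.equivMapOfInjective _ _ S.subtype_injective) h2, ?_⟩
      rintro _ ⟨a, ha, rfl⟩ _ ⟨b, hb, rfl⟩
      have := h3 a ha b hb
      have h4 := congrArg (fun y : S => (y : G)) this
      simpa using h4
  have h2 := key _ _ h
  rwa [Subgroup.map_subgroupOf_eq_of_le hUS, Subgroup.map_subgroupOf_eq_of_le hVS] at h2

theorem exists_kleinFour_of_not_pRankLE {H : Type*} [Group H] [Finite H]
    (h : ¬ Cfsg.PRankLE 2 1 H) : ∃ V : Subgroup H, IsKleinFour V := by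
  unfold Cfsg.PRankLE at h
  push Not at h
  obtain ⟨A, _, hA2, hAc⟩ := h
  have hAp : IsPGroup 2 A := by
    intro a
    refine ⟨1, ?_⟩
    ext
    simpa using hA2 a a.2
  obtain ⟨k, hk⟩ := IsPGroup.iff_card.mp hAp
  have hk2 : 2 ≤ k := by
    by_contra hlt
    have hk1 : k ≤ 1 := by omega
    have : 2 ^ k ≤ 2 ^ 1 := Nat.pow_le_pow_right (by norm_num) hk1
    omega
  have hdvd : 2 ^ 2 ∣ Nat.card A := by
    rw [hk]; exact Nat.pow_dvd_pow 2 hk2
  obtain ⟨K, hK⟩ := Sylow.exists_subgroup_card_pow_prime 2 hdvd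
  refine ⟨K.map A.subtype, ?_⟩
  rw [isKleinFour_iff]
  refine ⟨?_, ?_⟩
  · rw [Subgroup.card_map_of_injective A.subtype_injective, hK]; norm_num
  · rintro _ ⟨a, _, rfl⟩
    exact hA2 a a.2

theorem exists_kleinFour_le_of_not_pRankLE [Finite G] (Q : Subgroup G)
    (h : ¬ Cfsg.PRankLE 2 1 Q) : ∃ V : Subgroup G, V ≤ Q ∧ IsKleinFour V := by
  obtain ⟨V', hV'⟩ := exists_kleinFour_of_not_pRankLE h
  exact ⟨V'.map Q.subtype, Subgroup.map_subtype_le V',
    isKleinFour_of_mulEquiv (Subgroup.equivMapOfInjective _ _ Q.subtype_injective) hV'⟩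

theorem not_pRankLE_of_kleinFour (Q V : Subgroup G) (hV : IsKleinFour V) (hVQ : V ≤ Q) :
    ¬ Cfsg.PRankLE 2 1 Q := by
  intro h
  have hV' : IsKleinFour (V.subgroupOf Q) :=
    isKleinFour_of_mulEquiv (Subgroup.subgroupOfEquivOfLe hVQ).symm hV
  have hcomm : IsMulCommutative (V.subgroupOf Q) :=
    ⟨⟨mul_comm_of_exponent_two hV'.exponent_two⟩⟩
  have h2 := h (V.subgroupOf Q) hcomm ((isKleinFour_iff _).mp hV').2
  rw [hV'.card_four] at h2
  norm_num at h2

theorem isPGroup_two_of_isKleinFour (V : Subgroup G) (hV : IsKleinFour V) : IsPGroup 2 V :=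
  IsPGroup.of_card (n := 2) (by rw [hV.card_four]; norm_num)

end Four

section Main

variable {G : Type*} [Group G]

/-- The stabilizer of the connected component of `U₀`. -/
def fourStab (U₀ : Subgroup G) : Subgroup G where
  carrier := {g | FourRel G U₀ (MulAut.conj g • U₀)}
  one_mem' := by
    show FourRel G U₀ (MulAut.conj (1 : G) • U₀)
    rw [map_one, one_smul]
    exact Relation.ReflTransGen.refl
  mul_mem' := by
    intro a b ha hb
    show FourRel G U₀ (MulAut.conj (a * b) • U₀)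
    rw [map_mul, mul_smul]
    exact FourRel.trans ha (FourRel.smul hb a)
  inv_mem' := by
    intro a ha
    show FourRel G U₀ (MulAut.conj a⁻¹ • U₀)
    have h1 : FourRel G (MulAut.conj a⁻¹ • U₀) (MulAut.conj a⁻¹ • (MulAut.conj a • U₀)) :=
      FourRel.smul ha a⁻¹
    rw [← mul_smul, ← map_mul, inv_mul_cancel, map_one, one_smul] at h1
    exact h1.symm

theorem mem_fourStab (U₀ : Subgroup G) (g : G) :
    g ∈ fourStab U₀ ↔ FourRel G U₀ (MulAut.conj g • U₀) := Iff.rfl

theorem smul_le_of_mem_normalizer (Q V : Subgroup G) (hVQ : V ≤ Q) (g : G)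
    (hg : g ∈ Subgroup.normalizer (Q : Set G)) : MulAut.conj g • V ≤ Q := by
  intro z hz
  rw [Subgroup.mem_smul_pointwise_iff_exists] at hz
  obtain ⟨v, hv, rfl⟩ := hz
  exact (Subgroup.mem_normalizer_iff.mp hg v).mp (hVQ hv)

variable [Finite G]

/-- If the 2-generated core is everything, the commuting graph is connected. -/
theorem isFourConnected_of_iSup_eq_top (S : Sylow 2 G)
    (hS : Cfsg.IsFourConnected (S : Subgroup G)) (U₀ : Subgroup G) (hU₀ : IsKleinFour U₀)
    (hU₀S : U₀ ≤ S)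
    (hΓ : (⨆ Q : {Q : Subgroup G // Q ≤ (S : Subgroup G) ∧ ¬ Cfsg.PRankLE 2 1 Q},
          Subgroup.normalizer ((Q : Subgroup G) : Set G)) = ⊤) :
    Cfsg.IsFourConnected G := by
  have hle : (⨆ Q : {Q : Subgroup G // Q ≤ (S : Subgroup G) ∧ ¬ Cfsg.PRankLE 2 1 Q},
      Subgroup.normalizer ((Q : Subgroup G) : Set G)) ≤ fourStab U₀ := by
    apply iSup_le
    rintro ⟨Q, hQS, hQr⟩ g hg
    obtain ⟨V, hVQ, hV⟩ := exists_kleinFour_le_of_not_pRankLE Q hQr
    have h1 : FourRel G U₀ V := fourRel_of_le S hS U₀ V hU₀ hV hU₀S (hVQ.trans hQS)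
    have h2 : FourRel G V (MulAut.conj g • V) :=
      fourRel_of_le S hS V _ hV (isKleinFour_smul g V hV) (hVQ.trans hQS)
        ((smul_le_of_mem_normalizer Q V hVQ g hg).trans hQS)
    have h3 : FourRel G (MulAut.conj g • U₀) (MulAut.conj g • V) := FourRel.smul h1 g
    exact (h1.trans h2).trans h3.symm
  rw [hΓ] at hle
  have key : ∀ U : Subgroup G, IsKleinFour U → FourRel G U₀ U := by
    intro U hU
    obtain ⟨P, hP⟩ := (isPGroup_two_of_isKleinFour U hU).exists_le_sylow
    obtain ⟨g, hg⟩ := MulAction.exists_smul_eq G S P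
    have hUg : MulAut.conj g⁻¹ • U ≤ S := by
      intro z hz
      rw [Subgroup.mem_smul_pointwise_iff_exists] at hz
      obtain ⟨u, hu, rfl⟩ := hz
      have h1 : u ∈ ((g • S : Sylow 2 G) : Subgroup G) := by rw [hg]; exact hP hu
      rw [Sylow.coe_subgroup_smul, Subgroup.mem_pointwise_smul_iff_inv_smul_mem] at h1
      simpa using h1
    have h1 : FourRel G U₀ (MulAut.conj g⁻¹ • U) :=
      fourRel_of_le S hS U₀ _ hU₀ (isKleinFour_smul g⁻¹ U hU) hU₀S hUg
    have h2 := FourRel.smul h1 g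
    rw [← mul_smul, ← map_mul, mul_inv_cancel, map_one, one_smul] at h2
    have h3 : FourRel G U₀ (MulAut.conj g • U₀) := hle (Subgroup.mem_top g)
    exact h3.trans h2
  intro U V hU hV
  exact (key U hU).symm.trans (key V hV)

/-- Alperin-style conjugation into `S` by elements of the 2-generated core. -/
theorem conj_into_sylow_of_core (S : Sylow 2 G) (Γ : Subgroup G)
    (hΓ : ∀ D : Subgroup G, D ≤ S → (∃ V : Subgroup G, V ≤ D ∧ IsKleinFour V) →
      Subgroup.normalizer (D : Set G) ≤ Γ) :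
    ∀ k : ℕ, ∀ T : Subgroup G, IsPGroup 2 T →
      (∃ V : Subgroup G, V ≤ T ⊓ S ∧ IsKleinFour V) →
      Nat.card (S : Subgroup G) - Nat.card (T ⊓ S : Subgroup G) = k →
      ∃ γ ∈ Γ, MulAut.conj γ • T ≤ S := by
  intro k
  induction k using Nat.strong_induction_on with
  | _ k ih =>
    intro T hT hV hk
    by_cases hTS : T ≤ S
    · exact ⟨1, Γ.one_mem, by rw [map_one, one_smul]; exact hTS⟩
    · have hDT : T ⊓ S < T :=
        lt_of_le_of_ne inf_le_left (fun h => hTS (by rw [← h]; exact inf_le_right))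
      have hDS : T ⊓ S < S := by
        refine lt_of_le_of_ne inf_le_right ?_
        intro h
        have hST : (S : Subgroup G) ≤ T := by rw [← h]; exact inf_le_left
        have h2 := S.is_maximal' hT hST
        exact hTS (by rw [h2])
      have hNΓ : Subgroup.normalizer ((T ⊓ S : Subgroup G) : Set G) ≤ Γ :=
        hΓ (T ⊓ S) inf_le_right hV
      obtain ⟨V, hVD, hVf⟩ := hV
      have hcX := Cfsg.Agent.Lib.Helper17.card_lt_card_inf_normalizer T (T ⊓ S) hT hDT
      have hcY := Cfsg.Agent.Lib.Helper17.card_lt_card_inf_normalizer (S : Subgroup G) (T ⊓ S) S.2 hDS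
      have hXlt := Cfsg.Agent.Lib.Helper17.lt_inf_normalizer_of_lt T (T ⊓ S) hT hDT
      have hYlt := Cfsg.Agent.Lib.Helper17.lt_inf_normalizer_of_lt (S : Subgroup G) (T ⊓ S) S.2 hDS
      obtain ⟨P₁, hP₁⟩ := Cfsg.Agent.Lib.Helper17.exists_sylow_map_ge
        (Subgroup.normalizer ((T ⊓ S : Subgroup G) : Set G))
        ((S : Subgroup G) ⊓ Subgroup.normalizer ((T ⊓ S : Subgroup G) : Set G))
        (S.2.to_le inf_le_left) inf_le_right
      obtain ⟨P₂, hP₂⟩ := Cfsg.Agent.Lib.Helper17.exists_sylow_map_ge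
        (Subgroup.normalizer ((T ⊓ S : Subgroup G) : Set G))
        (T ⊓ Subgroup.normalizer ((T ⊓ S : Subgroup G) : Set G))
        (hT.to_le inf_le_left) inf_le_right
      obtain ⟨n, hn⟩ := MulAction.exists_smul_eq
        (Subgroup.normalizer ((T ⊓ S : Subgroup G) : Set G)) P₂ P₁
      have hS₁p : IsPGroup 2 ((P₁ : Subgroup _).map
          (Subgroup.normalizer ((T ⊓ S : Subgroup G) : Set G)).subtype) := P₁.2.map _
      have hnX : MulAut.conj (n : G) • (T ⊓ Subgroup.normalizer ((T ⊓ S : Subgroup G) : Set G)) ≤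
          (P₁ : Subgroup _).map (Subgroup.normalizer ((T ⊓ S : Subgroup G) : Set G)).subtype := by
        intro z hz
        rw [Subgroup.mem_smul_pointwise_iff_exists] at hz
        obtain ⟨x, hx, rfl⟩ := hz
        obtain ⟨y, hy, rfl⟩ := hP₂ hx
        refine ⟨n * y * n⁻¹, ?_, ?_⟩
        · have h1 : n * y * n⁻¹ ∈ ((n • P₂ : Sylow 2 _) : Subgroup _) := by
            rw [Sylow.coe_subgroup_smul, Subgroup.mem_smul_pointwise_iff_exists]
            exact ⟨y, hy, by simp [MulAut.conj_apply]⟩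
          rw [hn] at h1
          exact h1
        · simp [MulAut.conj_apply]
      -- apply the induction hypothesis to `S₁`
      have hS₁S : (S : Subgroup G) ⊓ Subgroup.normalizer ((T ⊓ S : Subgroup G) : Set G) ≤
          (P₁ : Subgroup _).map (Subgroup.normalizer ((T ⊓ S : Subgroup G) : Set G)).subtype ⊓ S :=
        le_inf hP₁ inf_le_left
      have hc1 : Nat.card (T ⊓ S : Subgroup G) < Nat.card
          ((P₁ : Subgroup _).map (Subgroup.normalizer ((T ⊓ S : Subgroup G) : Set G)).subtype ⊓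
            (S : Subgroup G) : Subgroup G) :=
        lt_of_lt_of_le hcY (Nat.le_of_dvd Nat.card_pos (Subgroup.card_dvd_of_le hS₁S))
      have hc2 : Nat.card ((P₁ : Subgroup _).map
          (Subgroup.normalizer ((T ⊓ S : Subgroup G) : Set G)).subtype ⊓ (S : Subgroup G) : Subgroup G) ≤
          Nat.card (S : Subgroup G) :=
        Nat.le_of_dvd Nat.card_pos (Subgroup.card_dvd_of_le inf_le_right)
      obtain ⟨γ₁, hγ₁, hγ₁S⟩ := ih _ (by omega) _ hS₁p
        ⟨V, hVD.trans (hYlt.le.trans hS₁S), hVf⟩ rfl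
      -- the new subgroup `T'`
      have hT'p : IsPGroup 2 (MulAut.conj (γ₁ * (n : G)) • T : Subgroup G) :=
        hT.of_equiv (Subgroup.equivSMul (MulAut.conj (γ₁ * (n : G))) T)
      have hXT' : MulAut.conj (γ₁ * (n : G)) •
          (T ⊓ Subgroup.normalizer ((T ⊓ S : Subgroup G) : Set G)) ≤
          (MulAut.conj (γ₁ * (n : G)) • T : Subgroup G) ⊓ S := by
        apply le_inf
        · exact Subgroup.pointwise_smul_le_pointwise_smul_iff.mpr inf_le_left
        · rw [map_mul, mul_smul]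
          exact (Subgroup.pointwise_smul_le_pointwise_smul_iff.mpr hnX).trans hγ₁S
      have hc3 : Nat.card (T ⊓ S : Subgroup G) <
          Nat.card ((MulAut.conj (γ₁ * (n : G)) • T : Subgroup G) ⊓ S : Subgroup G) := by
        have h1 : Nat.card (MulAut.conj (γ₁ * (n : G)) •
            (T ⊓ Subgroup.normalizer ((T ⊓ S : Subgroup G) : Set G)) : Subgroup G) =
            Nat.card (T ⊓ Subgroup.normalizer ((T ⊓ S : Subgroup G) : Set G) : Subgroup G) :=
          Nat.card_congr (Subgroup.equivSMul (MulAut.conj (γ₁ * (n : G))) _).toEquiv.symm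
        have h2 := Nat.le_of_dvd Nat.card_pos (Subgroup.card_dvd_of_le hXT')
        omega
      have hc4 : Nat.card ((MulAut.conj (γ₁ * (n : G)) • T : Subgroup G) ⊓ S : Subgroup G) ≤
          Nat.card (S : Subgroup G) :=
        Nat.le_of_dvd Nat.card_pos (Subgroup.card_dvd_of_le inf_le_right)
      obtain ⟨γ₂, hγ₂, hγ₂S⟩ := ih _ (by omega) _ hT'p
        ⟨MulAut.conj (γ₁ * (n : G)) • V,
          (Subgroup.pointwise_smul_le_pointwise_smul_iff.mpr (hVD.trans hXlt.le)).trans hXT',
          isKleinFour_smul _ V hVf⟩ rfl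
      refine ⟨γ₂ * (γ₁ * (n : G)), Γ.mul_mem hγ₂ (Γ.mul_mem hγ₁ (hNΓ n.2)), ?_⟩
      rw [map_mul, mul_smul]
      exact hγ₂S

/-- If the commuting graph is connected, the 2-generated core is everything. -/
theorem iSup_eq_top_of_isFourConnected (S : Sylow 2 G) (U₀ : Subgroup G) (hU₀ : IsKleinFour U₀)
    (hU₀S : U₀ ≤ S) (hG : Cfsg.IsFourConnected G) :
    (⨆ Q : {Q : Subgroup G // Q ≤ (S : Subgroup G) ∧ ¬ Cfsg.PRankLE 2 1 Q},
          Subgroup.normalizer ((Q : Subgroup G) : Set G)) = ⊤ := by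
  have hΓ : ∀ D : Subgroup G, D ≤ S → (∃ V : Subgroup G, V ≤ D ∧ IsKleinFour V) →
      Subgroup.normalizer (D : Set G) ≤
        (⨆ Q : {Q : Subgroup G // Q ≤ (S : Subgroup G) ∧ ¬ Cfsg.PRankLE 2 1 Q},
          Subgroup.normalizer ((Q : Subgroup G) : Set G)) := by
    rintro D hDS ⟨V, hVD, hV⟩
    exact le_iSup (fun Q : {Q : Subgroup G // Q ≤ (S : Subgroup G) ∧ ¬ Cfsg.PRankLE 2 1 Q} =>
      Subgroup.normalizer ((Q : Subgroup G) : Set G))
      ⟨D, hDS, not_pRankLE_of_kleinFour D V hV hVD⟩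
  have hA := conj_into_sylow_of_core S _ hΓ
  -- Claim B
  have hB : ∀ V : Subgroup G, FourRel G U₀ V → ∃ γ ∈ (⨆ Q : {Q : Subgroup G //
      Q ≤ (S : Subgroup G) ∧ ¬ Cfsg.PRankLE 2 1 Q}, Subgroup.normalizer ((Q : Subgroup G) : Set G)),
      MulAut.conj γ • V ≤ S := by
    intro V hV
    induction hV with
    | refl => exact ⟨1, Subgroup.one_mem _, by rw [map_one, one_smul]; exact hU₀S⟩
    | @tail V W _ hVW ih =>
      obtain ⟨γ, hγ, hγV⟩ := ih
      obtain ⟨hVf, hWf, hcomm⟩ := hVW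
      have hVn : V ≤ Subgroup.normalizer (W : Set G) := by
        intro v hv
        rw [Subgroup.mem_normalizer_iff]
        intro w
        constructor
        · intro hw
          rw [hcomm v hv w hw, mul_assoc, mul_inv_cancel, mul_one]
          exact hw
        · intro hw
          have h1 := hcomm v hv _ hw
          have h2 : v * w * v⁻¹ = w := by
            have h3 : v * (v * w * v⁻¹) = v * w := by
              rw [h1]; group
            exact mul_left_cancel h3
          rw [← h2]; exact hw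
      have hp : IsPGroup 2 (V ⊔ W : Subgroup G) :=
        IsPGroup.to_sup_of_normal_right' (isPGroup_two_of_isKleinFour V hVf)
          (isPGroup_two_of_isKleinFour W hWf) hVn
      have hTp : IsPGroup 2 (MulAut.conj γ • (V ⊔ W) : Subgroup G) :=
        hp.of_equiv (Subgroup.equivSMul (MulAut.conj γ) _)
      obtain ⟨γ', hγ', hγ'S⟩ := hA _ (MulAut.conj γ • (V ⊔ W)) hTp
        ⟨MulAut.conj γ • V,
          le_inf (Subgroup.pointwise_smul_le_pointwise_smul_iff.mpr le_sup_left) hγV,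
          isKleinFour_smul γ V hVf⟩ rfl
      refine ⟨γ' * γ, Subgroup.mul_mem _ hγ' hγ, ?_⟩
      rw [map_mul, mul_smul]
      refine le_trans ?_ hγ'S
      exact Subgroup.pointwise_smul_le_pointwise_smul_iff.mpr
        (Subgroup.pointwise_smul_le_pointwise_smul_iff.mpr le_sup_right)
  -- Claim C
  have hC : ∀ x : G, MulAut.conj x • U₀ ≤ S → x ∈ (⨆ Q : {Q : Subgroup G //
      Q ≤ (S : Subgroup G) ∧ ¬ Cfsg.PRankLE 2 1 Q}, Subgroup.normalizer ((Q : Subgroup G) : Set G)) := by
    intro x hx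
    have hTp : IsPGroup 2 (MulAut.conj x⁻¹ • (S : Subgroup G) : Subgroup G) :=
      S.2.of_equiv (Subgroup.equivSMul (MulAut.conj x⁻¹) _)
    have hU₀T : U₀ ≤ MulAut.conj x⁻¹ • (S : Subgroup G) := by
      intro u hu
      rw [Subgroup.mem_pointwise_smul_iff_inv_smul_mem, ← map_inv, inv_inv]
      exact hx (Subgroup.smul_mem_pointwise_smul u _ U₀ hu)
    obtain ⟨γ, hγ, hγS⟩ := hA _ (MulAut.conj x⁻¹ • (S : Subgroup G)) hTp
      ⟨U₀, le_inf hU₀T hU₀S, hU₀⟩ rfl
    rw [← mul_smul, ← map_mul] at hγS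
    have heq : (γ * x⁻¹) • S = S := by
      apply Sylow.ext
      rw [Sylow.coe_subgroup_smul]
      apply Subgroup.eq_of_le_of_card_ge hγS
      exact (Nat.card_congr (Subgroup.equivSMul (MulAut.conj (γ * x⁻¹)) _).toEquiv).le
    have hnorm : γ * x⁻¹ ∈ Subgroup.normalizer ((S : Subgroup G) : Set G) :=
      Sylow.smul_eq_iff_mem_normalizer.mp heq
    have h1 := hΓ S le_rfl ⟨U₀, hU₀S, hU₀⟩ hnorm
    have h2 := Subgroup.mul_mem _ (Subgroup.inv_mem _ h1) hγ
    have h3 : (γ * x⁻¹)⁻¹ * γ = x := by group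
    rwa [h3] at h2
  rw [eq_top_iff]
  intro g _
  have h1 : FourRel G U₀ (MulAut.conj g • U₀) := hG U₀ _ hU₀ (isKleinFour_smul g U₀ hU₀)
  obtain ⟨γ, hγ, hγS⟩ := hB _ h1
  rw [← mul_smul, ← map_mul] at hγS
  have h2 := hC _ hγS
  have h3 := Subgroup.mul_mem _ (Subgroup.inv_mem _ hγ) h2
  have h4 : γ⁻¹ * (γ * g) = g := by group
  rwa [h4] at h3

/-- The 2-generated core criterion for disconnectedness. -/
theorem not_isFourConnected_iff (h2 : ¬ Cfsg.PRankLE 2 1 G) (S : Sylow 2 G)
    (hS : Cfsg.IsFourConnected (S : Subgroup G)) :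
    ¬ Cfsg.IsFourConnected G ↔
      (⨆ Q : {Q : Subgroup G // Q ≤ (S : Subgroup G) ∧ ¬ Cfsg.PRankLE 2 1 Q},
          Subgroup.normalizer ((Q : Subgroup G) : Set G)) ≠ ⊤ := by
  obtain ⟨U₁, hU₁⟩ := exists_kleinFour_of_not_pRankLE h2
  obtain ⟨P, hP⟩ := (isPGroup_two_of_isKleinFour U₁ hU₁).exists_le_sylow
  obtain ⟨g, hg⟩ := MulAction.exists_smul_eq G P S
  have hU₀ : IsKleinFour (MulAut.conj g • U₁ : Subgroup G) := isKleinFour_smul g U₁ hU₁
  have hU₀S : MulAut.conj g • U₁ ≤ S := by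
    rw [← hg, Sylow.coe_subgroup_smul]
    exact Subgroup.pointwise_smul_le_pointwise_smul_iff.mpr hP
  constructor
  · intro hn hΓ
    exact hn (isFourConnected_of_iSup_eq_top S hS _ hU₀ hU₀S hΓ)
  · intro hne hG
    exact hne (iSup_eq_top_of_isFourConnected S _ hU₀ hU₀S hG)

end Main

end Cfsg.Agent.Lib.Helper9
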