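import Mathlib
import Cfsg.Agent.Lib.Helper1.HallConj

set_option autoImplicit false

namespace Cfsg.Agent.Lib.Helper9

open scoped Pointwise

theorem card_dvd_card_mul_right {G : Type*} [Group G] (A B : Subgroup G) :
    Nat.card B ∣ Nat.card ((A : Set G) * (B : Set G) : Set G) := by
  rw [Subgroup.card_mul_eq_card_subgroup_mul_card_quotient]
  exact dvd_mul_right _ _

theorem card_dvd_card_mul_left {G : Type*} [Group G] (A B : Subgroup G) :
    Nat.card A ∣ Nat.card ((A : Set G) * (B : Set G) : Set G) := by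
  have h := card_dvd_card_mul_right B A
  have h2 : ((A : Set G) * (B : Set G))⁻¹ = (B : Set G) * (A : Set G) := by
    rw [mul_inv_rev, inv_coe_set, inv_coe_set]
  rw [← Set.natCard_inv, h2]
  exact h

theorem hall_arith (a b g ia ib : ℕ) (ha : ia * a = g) (hb : ib * b = g)
    (hca : a.Coprime ia) (hcb : b.Coprime ib) (hg : 0 < g) :
    ∃ n, g = Nat.lcm a b * n ∧ (Nat.lcm a b).Coprime n := by
  have hapos : 0 < a := by
    rcases Nat.eq_zero_or_pos a with h | h
    · rw [h, mul_zero] at ha; omega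
    · exact h
  have hbpos : 0 < b := by
    rcases Nat.eq_zero_or_pos b with h | h
    · rw [h, mul_zero] at hb; omega
    · exact h
  have hdvd : Nat.lcm a b ∣ g := Nat.lcm_dvd (Dvd.intro_left _ ha) (Dvd.intro_left _ hb)
  obtain ⟨n, hn⟩ := hdvd
  refine ⟨n, hn, ?_⟩
  have key : ∀ (c ic : ℕ), 0 < c → ic * c = g → c ∣ Nat.lcm a b → c.Coprime ic → c.Coprime n := by
    intro c ic hcpos hc hcl hcc
    obtain ⟨d, hd⟩ := hcl
    have h1 : c * ic = c * (d * n) := by
      rw [mul_comm c ic, hc, hn, hd, mul_assoc]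
    have h2 : ic = d * n := Nat.eq_of_mul_eq_mul_left hcpos h1
    exact Nat.Coprime.coprime_dvd_right (Dvd.intro_left _ h2.symm) hcc
  have h1 : a.Coprime n := key a ia hapos ha (Nat.dvd_lcm_left a b) hca
  have h2 : b.Coprime n := key b ib hbpos hb (Nat.dvd_lcm_right a b) hcb
  have h3 : (a * b).Coprime n := Nat.Coprime.mul_left h1 h2
  exact Nat.Coprime.coprime_dvd_left (Nat.lcm_dvd_mul a b) h3

theorem conj_smul_eq_self_of_normal_subgroupOf {G : Type*} [Group G] (A H : Subgroup G)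
    (hA : A ≤ H) (hAn : (A.subgroupOf H).Normal) (h : G) (hh : h ∈ H) :
    MulAut.conj h • A = A := by
  have key : ∀ t ∈ H, ∀ s ∈ A, t * s * t⁻¹ ∈ A := by
    intro t ht s hs
    have := hAn.conj_mem ⟨s, hA hs⟩ (Subgroup.mem_subgroupOf.mpr hs) ⟨t, ht⟩
    exact Subgroup.mem_subgroupOf.mp this
  ext z
  rw [Subgroup.mem_smul_pointwise_iff_exists]
  constructor
  · rintro ⟨s, hs, rfl⟩
    exact key h hh s hs
  · intro hz
    refine ⟨h⁻¹ * z * h, ?_, ?_⟩
    · have := key h⁻¹ (H.inv_mem hh) z hz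
      rwa [inv_inv] at this
    · simp only [MulAut.smul_def, MulAut.conj_apply]
      group

/-- Normal Hall subgroups of the factors of a factorized solvable group permute. -/
theorem hall_factor_permute {G : Type*} [Group G] [Finite G] [hs : Group.IsSolvable G]
    (H K A B : Subgroup G) (hHK : ∀ g : G, ∃ h ∈ H, ∃ k ∈ K, g = h * k) (hA : A ≤ H)
    (hAn : (A.subgroupOf H).Normal) (hB : B ≤ K) (hBn : (B.subgroupOf K).Normal)
    (hAh : (Nat.card A).Coprime A.index) (hBh : (Nat.card B).Coprime B.index) (x y : G) :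
    ∃ S : Subgroup G, (S : Set G) =
      ((MulAut.conj x • A : Subgroup G) : Set G) * ((MulAut.conj y • B : Subgroup G) : Set G) := by
  have hcA : Nat.card (MulAut.conj x • A : Subgroup G) = Nat.card A :=
    Nat.card_congr (Subgroup.equivSMul (MulAut.conj x) A).toEquiv.symm
  have hcB : Nat.card (MulAut.conj y • B : Subgroup G) = Nat.card B :=
    Nat.card_congr (Subgroup.equivSMul (MulAut.conj y) B).toEquiv.symm
  obtain ⟨n, hn, hmn⟩ := hall_arith (Nat.card A) (Nat.card B) (Nat.card G) A.index B.index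
    (Subgroup.index_mul_card A) (Subgroup.index_mul_card B) hAh hBh Nat.card_pos
  have hcopA : (Nat.card (MulAut.conj x • A : Subgroup G)).Coprime n := by
    rw [hcA]
    exact Nat.Coprime.coprime_dvd_left (Nat.dvd_lcm_left _ _) hmn
  have hcopB : (Nat.card (MulAut.conj y • B : Subgroup G)).Coprime n := by
    rw [hcB]
    exact Nat.Coprime.coprime_dvd_left (Nat.dvd_lcm_right _ _) hmn
  obtain ⟨S₁, hS₁c, hS₁⟩ := Cfsg.Agent.Lib.Helper1.hallDom_all G hs _ n hn hmn _ hcopA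
  obtain ⟨S₂, hS₂c, hS₂⟩ := Cfsg.Agent.Lib.Helper1.hallDom_all G hs _ n hn hmn _ hcopB
  obtain ⟨g₀, hg₀⟩ := Cfsg.Agent.Lib.Helper1.hallConj_all G hs _ n hn hmn S₁ S₂ hS₁c hS₂c
  -- factor `y⁻¹ g₀ x = k c h` with `c = y⁻¹ x`
  have hKH : ∀ g : G, ∃ k ∈ K, ∃ h ∈ H, g = k * h := by
    intro g
    obtain ⟨h, hh, k, hk, hgk⟩ := hHK g⁻¹
    refine ⟨k⁻¹, K.inv_mem hk, h⁻¹, H.inv_mem hh, ?_⟩
    rw [← mul_inv_rev, ← hgk, inv_inv]
  obtain ⟨k₁, hk₁, h₁, hh₁, e₁⟩ := hKH (y⁻¹ * g₀ * x)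
  obtain ⟨k₀, hk₀, h₀, hh₀, e₀⟩ := hKH (y⁻¹ * x)
  -- `g₀ = k' * h'` with `k' = y (k₁ k₀⁻¹) y⁻¹`, `h' = x (h₀⁻¹ h₁) x⁻¹`
  set k' := y * (k₁ * k₀⁻¹) * y⁻¹ with hk'
  set h' := x * (h₀⁻¹ * h₁) * x⁻¹ with hh'
  have hg₀' : g₀ = k' * h' := by
    have e2 : g₀ = y * (k₁ * h₁) * x⁻¹ := by rw [← e₁]; group
    have e3 : y⁻¹ * x = k₀ * h₀ := e₀
    have e4 : y⁻¹ * (k' * h') * x = k₁ * k₀⁻¹ * (y⁻¹ * x) * (h₀⁻¹ * h₁) := by
      rw [hk', hh']; group
    have e5 : y⁻¹ * (k' * h') * x = k₁ * h₁ := by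
      rw [e4, e3]; group
    have e6 : k' * h' = y * (y⁻¹ * (k' * h') * x) * x⁻¹ := by group
    rw [e6, e5, e2]
  have hmemH : h₀⁻¹ * h₁ ∈ H := H.mul_mem (H.inv_mem hh₀) hh₁
  have hmemK : k₁ * k₀⁻¹ ∈ K := K.mul_mem hk₁ (K.inv_mem hk₀)
  -- `h'` normalizes `x A x⁻¹`
  have hnormA : MulAut.conj h' • (MulAut.conj x • A : Subgroup G) = MulAut.conj x • A := by
    rw [← mul_smul, ← map_mul]
    have e : h' * x = x * (h₀⁻¹ * h₁) := by rw [hh']; group
    rw [e, map_mul, mul_smul, conj_smul_eq_self_of_normal_subgroupOf A H hA hAn _ hmemH]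
  -- `k'⁻¹` normalizes `y B y⁻¹`
  have hnormB : MulAut.conj k'⁻¹ • (MulAut.conj y • B : Subgroup G) = MulAut.conj y • B := by
    rw [← mul_smul, ← map_mul]
    have e : k'⁻¹ * y = y * (k₁ * k₀⁻¹)⁻¹ := by rw [hk']; group
    rw [e, map_mul, mul_smul,
      conj_smul_eq_self_of_normal_subgroupOf B K hB hBn _ (K.inv_mem hmemK)]
  -- the common Hall subgroup
  have hTA : (MulAut.conj x • A : Subgroup G) ≤ MulAut.conj h' • S₁ := by
    rw [← hnormA]
    exact Subgroup.pointwise_smul_le_pointwise_smul_iff.mpr hS₁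
  have hTB : (MulAut.conj y • B : Subgroup G) ≤ MulAut.conj h' • S₁ := by
    rw [← hnormB]
    have h1 : MulAut.conj k'⁻¹ • S₂ = MulAut.conj h' • S₁ := by
      rw [← hg₀, ← mul_smul, ← map_mul, hg₀']
      congr 2
      group
    rw [← h1]
    exact Subgroup.pointwise_smul_le_pointwise_smul_iff.mpr hS₂
  have hTc : Nat.card (MulAut.conj h' • S₁ : Subgroup G) = Nat.lcm (Nat.card A) (Nat.card B) := by
    rw [← hS₁c]
    exact Nat.card_congr (Subgroup.equivSMul (MulAut.conj h') S₁).toEquiv.symm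
  refine ⟨MulAut.conj h' • S₁, ?_⟩
  symm
  apply Set.eq_of_subset_of_ncard_le
  · rintro _ ⟨a, ha, b, hb, rfl⟩
    exact Subgroup.mul_mem _ (hTA ha) (hTB hb)
  · rw [← Nat.card_coe_set_eq, ← Nat.card_coe_set_eq]
    have h1 : Nat.lcm (Nat.card A) (Nat.card B) ∣
        Nat.card (((MulAut.conj x • A : Subgroup G) : Set G) *
          ((MulAut.conj y • B : Subgroup G) : Set G) : Set G) := by
      apply Nat.lcm_dvd
      · rw [← hcA]; exact card_dvd_card_mul_left _ _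
      · rw [← hcB]; exact card_dvd_card_mul_right _ _
    have hpos : 0 < Nat.card (((MulAut.conj x • A : Subgroup G) : Set G) *
          ((MulAut.conj y • B : Subgroup G) : Set G) : Set G) := by
      have : Nonempty (((MulAut.conj x • A : Subgroup G) : Set G) *
          ((MulAut.conj y • B : Subgroup G) : Set G) : Set G) :=
        ⟨⟨1 * 1, Set.mul_mem_mul (Subgroup.one_mem _) (Subgroup.one_mem _)⟩⟩
      exact Nat.card_pos
    have h2 := Nat.le_of_dvd hpos h1
    calc Nat.card ((MulAut.conj h' • S₁ : Subgroup G) : Set G) = Nat.lcm (Nat.card A) (Nat.card B) := hTc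
      _ ≤ _ := h2
  · exact Set.toFinite _

end Cfsg.Agent.Lib.Helper9
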