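import Mathlib

set_option autoImplicit false

namespace Cfsg.Agent.Lib.Helper9

theorem hall_split (n a d : ℕ) (hn : n ≠ 0) (ha : a ≠ 0) (hd : d ∣ n * a)
    (hexp : ∀ p : ℕ, p.Prime → p ∣ n → a.factorization p + 1 = n.factorization p) :
    ∃ m k b : ℕ, d = m * b ∧ n = m * k ∧ m.Coprime k ∧ b ∣ a := by
  classical
  have hna : n * a ≠ 0 := mul_ne_zero hn ha
  have hd0 : d ≠ 0 := fun h => hna (by rw [h] at hd; exact Nat.eq_zero_of_zero_dvd hd)
  set f : ℕ →₀ ℕ := n.factorization.filter (fun p => n.factorization p ≤ d.factorization p) with hf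
  have hfsupp : ∀ p ∈ f.support, p.Prime := by
    intro p hp
    rw [hf, Finsupp.support_filter, Finset.mem_filter] at hp
    exact Nat.prime_of_mem_primeFactors (by simpa using hp.1)
  set m := f.prod (· ^ ·) with hm
  have hmf : m.factorization = f := Nat.prod_pow_factorization_eq_self hfsupp
  have hm0 : m ≠ 0 := by
    rw [hm, Finsupp.prod]
    apply Finset.prod_ne_zero_iff.mpr
    intro p hp
    exact pow_ne_zero _ (hfsupp p hp).ne_zero
  have hfapp : ∀ p, f p = if n.factorization p ≤ d.factorization p then n.factorization p else 0 := by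
    intro p
    rw [hf, Finsupp.filter_apply]
  have hmn : m ∣ n := by
    rw [← Nat.factorization_le_iff_dvd hm0 hn, hmf]
    intro p
    rw [hfapp]
    split_ifs <;> omega
  have hmd : m ∣ d := by
    rw [← Nat.factorization_le_iff_dvd hm0 hd0, hmf]
    intro p
    rw [hfapp]
    split_ifs <;> omega
  obtain ⟨k, hk⟩ := hmn
  obtain ⟨b, hb⟩ := hmd
  have hk0 : k ≠ 0 := fun h => hn (by rw [hk, h, mul_zero])
  have hb0 : b ≠ 0 := fun h => hd0 (by rw [hb, h, mul_zero])
  refine ⟨m, k, b, hb, hk, ?_, ?_⟩
  · apply Nat.coprime_of_dvd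
    intro p hp hpm hpk
    have h1 : 0 < m.factorization p := hp.factorization_pos_of_dvd hm0 hpm
    have h2 : 0 < k.factorization p := hp.factorization_pos_of_dvd hk0 hpk
    have h3 : n.factorization p = m.factorization p + k.factorization p := by
      rw [hk, Nat.factorization_mul hm0 hk0]; rfl
    rw [hmf, hfapp] at h1 h3
    split_ifs at h1 h3 <;> omega
  · rw [← Nat.factorization_le_iff_dvd hb0 ha]
    intro p
    by_cases hp : p.Prime
    · have h3 : d.factorization p = m.factorization p + b.factorization p := by
        rw [hb, Nat.factorization_mul hm0 hb0]; rfl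
      have h4 : d.factorization p ≤ n.factorization p + a.factorization p := by
        have := (Nat.factorization_le_iff_dvd hd0 hna).mpr hd p
        rw [Nat.factorization_mul hn ha] at this
        exact this
      rw [hmf, hfapp] at h3
      by_cases hpn : p ∣ n
      · have h5 := hexp p hp hpn
        split_ifs at h3 <;> omega
      · have h5 : n.factorization p = 0 := Nat.factorization_eq_zero_of_not_dvd hpn
        split_ifs at h3 <;> omega
    · rw [Nat.factorization_eq_zero_of_not_prime _ hp]
      exact Nat.zero_le _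

end Cfsg.Agent.Lib.Helper9
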