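import Mathlib
import Cfsg.Agent.Lib.Helper15.HsBasic

/-!
# Hs hive (helper15, S2536), leaf HS-NUM `lemmaN` - BACKUP COPY in its own namespace (helper53 landed `Helper15.Hs.lemmaN` first; use `Cfsg.Agent.Lib.Helper53.HsNUM`)

Pure `ℕ`: `2 ≤ b ≤ a`, no prime `≤ a` divides `C(a+b,b)`  ⟹  `(a,b) = (4,3)`.
(N1) `a+b` prime, (N2) `a+1` prime, `b < a`, `(b+1) ∣ a`, (N3) `a = b+1`, `b` odd, (N4) `2b-1` prime, `3 ∣ b`,
(N5) `2b-3 ∣ 45`, leaving `b = 9` where `C(19,9)` is even.  The hypothesis `hq` is not needed.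
-/

set_option autoImplicit false
set_option linter.unusedVariables false

namespace Cfsg.Agent.Lib.Helper9.HsNum

/-- numbers all of whose prime factors are `≤ a` are coprime to `C` -/
theorem num_coprime {a C d : ℕ} (hcop : ∀ p : ℕ, p.Prime → p ≤ a → ¬ p ∣ C)
    (hd : ∀ p : ℕ, p.Prime → p ∣ d → p ≤ a) : Nat.Coprime d C :=
  Nat.coprime_of_dvd (fun k hk hkd hkC => hcop k hk (hd k hk hkd) hkC)

/-- the general identity `C(m,b) · b^{(j)} = m^{(j)} · C(m-j, b-j)` -/
theorem num_id (m b j : ℕ) (hj : j ≤ b) :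
    m.choose b * b.descFactorial j = m.descFactorial j * (m - j).choose (b - j) := by
  rw [Nat.descFactorial_eq_factorial_mul_choose, Nat.descFactorial_eq_factorial_mul_choose]
  calc m.choose b * (j.factorial * b.choose j) = j.factorial * (m.choose b * b.choose j) := by ring
    _ = j.factorial * (m.choose j * (m - j).choose (b - j)) := by rw [Nat.choose_mul hj]
    _ = _ := by ring

/-- divisibility extracted from the identity -/
theorem num_dvd {a m b j i : ℕ} (hcop : ∀ p : ℕ, p.Prime → p ≤ a → ¬ p ∣ m.choose b)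
    (hi : i < j) (hj : j ≤ b) (hsmall : ∀ p : ℕ, p.Prime → p ∣ m - i → p ≤ a) :
    (m - i) ∣ b.descFactorial j := by
  have h1 : (m - i) ∣ m.descFactorial j := by
    rw [Nat.descFactorial_eq_prod_range]
    exact Finset.dvd_prod_of_mem _ (Finset.mem_range.2 hi)
  have h2 : (m - i) ∣ m.choose b * b.descFactorial j := by
    rw [num_id m b j hj]
    exact Dvd.dvd.mul_right h1 _
  exact (num_coprime hcop hsmall).dvd_of_dvd_mul_left h2

theorem num_gcd_dvd {D x k r : ℕ} (h : k * x = D + r) : Nat.gcd D x ∣ r := by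
  have h1 : Nat.gcd D x ∣ D := Nat.gcd_dvd_left D x
  have h2 : Nat.gcd D x ∣ k * x := Dvd.dvd.mul_left (Nat.gcd_dvd_right D x) k
  rw [h] at h2
  exact (Nat.dvd_add_right h1).1 h2

theorem num_gcd_dvd' {D x k r : ℕ} (h : D = k * x + r) : Nat.gcd D x ∣ r := by
  have h1 : Nat.gcd D x ∣ k * x + r := h ▸ Nat.gcd_dvd_left D x
  have h2 : Nat.gcd D x ∣ k * x := Dvd.dvd.mul_left (Nat.gcd_dvd_right D x) k
  exact (Nat.dvd_add_right h2).1 h1

/-- strip a factor whose gcd with `D` divides `r` -/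
theorem num_strip {D x y r : ℕ} (h : D ∣ x * y) (hg : Nat.gcd D x ∣ r) : D ∣ r * y := by
  have h1 : D ∣ Nat.gcd D x * y := Nat.dvd_gcd_mul_iff_dvd_mul.2 h
  exact dvd_trans h1 (Nat.mul_dvd_mul_right hg y)

/-- a proper prime divisor is at most half -/
theorem num_half {p d : ℕ} (hpd : p ∣ d) (hne : p ≠ d) (hd : 0 < d) : 2 * p ≤ d := by
  obtain ⟨k, rfl⟩ := hpd
  rcases k with _ | _ | k
  · simp at hd
  · simp at hne
  · nlinarith

/-- (N3): `a = b + 1` -/
theorem num_N3 (a b : ℕ) (hb : 2 ≤ b) (hba : b < a) (hm : (a + b).Prime) (hdvd : (b + 1) ∣ a)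
    (hcop : ∀ p : ℕ, p.Prime → p ≤ a → ¬ p ∣ Nat.choose (a + b) b) : a = b + 1 ∧ Odd b := by
  have hmodd : Odd (a + b) := hm.odd_of_ne_two (by omega)
  -- (m-1) ∣ b (b-1)
  have h1 : (a + b - 1) ∣ b.descFactorial 2 := by
    apply num_dvd hcop (by norm_num : 1 < 2) hb
    intro p hp hpd
    by_cases hpe : p = a + b - 1
    · exfalso
      have : Even (a + b - 1) := by
        obtain ⟨k, hk⟩ := hmodd
        exact ⟨k, by omega⟩
      rw [← hpe] at this
      have := (Nat.Prime.even_iff hp).1 this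
      omega
    · have := num_half hpd hpe (by omega)
      omega
  have h2 : b.descFactorial 2 = b * (b - 1) := by
    simp [Nat.descFactorial_succ]
    ring
  rw [h2] at h1
  obtain ⟨c, rfl⟩ : ∃ c, b = c + 1 := ⟨b - 1, by omega⟩
  obtain ⟨t, ht⟩ := hdvd
  obtain ⟨s, hs⟩ := h1
  have ht0 : t ≠ 0 := by
    rintro rfl
    omega
  have hs' : (c + 1) * c = ((c + 2) * t + c) * s := by
    have e1 : c + 1 - 1 = c := by omega
    have e2 : a + (c + 1) - 1 = (c + 2) * t + c := by rw [ht]; ring_nf; omega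
    rw [e1, e2] at hs
    exact hs
  have hd2 : (c + 2) ∣ 2 * (s + 1) := by
    have e : (c + 2) * (s + t * s + 1) = 2 * (s + 1) + c * (c + 2) := by
      nlinarith [hs']
    have : (c + 2) ∣ 2 * (s + 1) + c * (c + 2) := ⟨_, e.symm⟩
    exact (Nat.dvd_add_left (Dvd.intro_left c rfl)).1 this
  have hbound : 2 * s ≤ c := by
    have h3 : (c + 1) * (2 * s) ≤ (c + 1) * c := by
      rw [hs']
      have : c + 2 ≤ (c + 2) * t := Nat.le_mul_of_pos_right _ (Nat.pos_of_ne_zero ht0)
      nlinarith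
    exact Nat.le_of_mul_le_mul_left h3 (by omega)
  have heq : 2 * (s + 1) = c + 2 := by
    have := Nat.le_of_dvd (by omega) hd2
    omega
  have hc : c = 2 * s := by omega
  have hs0 : s ≠ 0 := by
    rintro rfl
    omega
  subst hc
  have h4 : (2 * s + 2) * t = 2 * s + 2 := by
    have : s * (2 * (2 * s + 1)) = s * ((2 * s + 2) * t + 2 * s) := by nlinarith [hs']
    have := Nat.eq_of_mul_eq_mul_left (Nat.pos_of_ne_zero hs0) this
    omega
  constructor
  · rw [ht, h4]
  · exact ⟨s, by ring⟩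

/-- (N4) + (N5) -/
theorem num_N45 (b : ℕ) (hb : 3 ≤ b) (hodd : Odd b) (hm : (2 * b + 1).Prime) (ha1 : (b + 2).Prime)
    (hcop : ∀ p : ℕ, p.Prime → p ≤ b + 1 → ¬ p ∣ Nat.choose (2 * b + 1) b) : b = 3 := by
  -- (N4) 2b-1 is prime
  have hD : (2 * b - 1).Prime := by
    by_contra hnp
    have h1 : (2 * b + 1 - 2) ∣ b.descFactorial 3 := by
      apply num_dvd hcop (by norm_num : 2 < 3) hb
      intro p hp hpd
      have hne : p ≠ 2 * b + 1 - 2 := by
        rintro rfl
        exact hnp (by rwa [show 2 * b + 1 - 2 = 2 * b - 1 by omega] at hp)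
      have := num_half hpd hne (by omega)
      omega
    have h2 : b.descFactorial 3 = b * ((b - 1) * (b - 2)) := by
      simp [Nat.descFactorial_succ]
      ring
    rw [h2, show 2 * b + 1 - 2 = 2 * b - 1 by omega] at h1
    have g1 : Nat.gcd (2 * b - 1) b ∣ 1 := num_gcd_dvd (k := 2) (by omega)
    have h3 := num_strip h1 g1
    rw [one_mul] at h3
    have g2 : Nat.gcd (2 * b - 1) (b - 1) ∣ 1 := num_gcd_dvd' (k := 2) (by omega)
    have h4 := num_strip h3 g2
    rw [one_mul] at h4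
    have := Nat.le_of_dvd (by omega) h4
    omega
  -- 3 ∣ b
  have h3b : b % 3 = 0 := by
    by_contra h
    have hcases : b % 3 = 1 ∨ b % 3 = 2 := by omega
    rcases hcases with h1 | h2
    · have : 3 ∣ b + 2 := by omega
      have := (Nat.Prime.eq_one_or_self_of_dvd ha1 3 this)
      omega
    · have : 3 ∣ 2 * b - 1 := by omega
      have := (Nat.Prime.eq_one_or_self_of_dvd hD 3 this)
      omega
  by_contra hb3
  have hb9 : 9 ≤ b := by
    obtain ⟨k, hk⟩ := hodd
    omega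
  -- (N5)
  have hnp : ¬ (2 * b - 3).Prime := by
    intro hp
    have : 3 ∣ 2 * b - 3 := by omega
    have := (Nat.Prime.eq_one_or_self_of_dvd hp 3 this)
    omega
  have h1 : (2 * b + 1 - 4) ∣ b.descFactorial 5 := by
    apply num_dvd hcop (by norm_num : 4 < 5) (by omega)
    intro p hp hpd
    have hne : p ≠ 2 * b + 1 - 4 := by
      rintro rfl
      exact hnp (by rwa [show 2 * b + 1 - 4 = 2 * b - 3 by omega] at hp)
    have := num_half hpd hne (by omega)
    omega
  have h2 : b.descFactorial 5 = b * ((b - 1) * ((b - 2) * ((b - 3) * (b - 4)))) := by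
    simp [Nat.descFactorial_succ]
    ring
  rw [h2, show 2 * b + 1 - 4 = 2 * b - 3 by omega] at h1
  have g0 : Nat.gcd (2 * b - 3) b ∣ 3 := num_gcd_dvd (k := 2) (by omega)
  have s0 := num_strip h1 g0
  have s0' : (2 * b - 3) ∣ (b - 1) * (3 * ((b - 2) * ((b - 3) * (b - 4)))) := by
    convert s0 using 1
    ring
  have g1 : Nat.gcd (2 * b - 3) (b - 1) ∣ 1 := num_gcd_dvd (k := 2) (by omega)
  have s1 := num_strip s0' g1
  rw [one_mul] at s1
  have s1' : (2 * b - 3) ∣ (b - 2) * (3 * ((b - 3) * (b - 4))) := by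
    convert s1 using 1
    ring
  have g2 : Nat.gcd (2 * b - 3) (b - 2) ∣ 1 := num_gcd_dvd' (k := 2) (by omega)
  have s2 := num_strip s1' g2
  rw [one_mul] at s2
  have s2' : (2 * b - 3) ∣ (b - 3) * (3 * (b - 4)) := by
    convert s2 using 1
    ring
  have g3 : Nat.gcd (2 * b - 3) (b - 3) ∣ 3 := num_gcd_dvd' (k := 2) (by omega)
  have s3 := num_strip s2' g3
  have s3' : (2 * b - 3) ∣ (b - 4) * 9 := by
    convert s3 using 1
    ring
  have g4 : Nat.gcd (2 * b - 3) (b - 4) ∣ 5 := num_gcd_dvd' (k := 2) (by omega)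
  have s4 := num_strip s3' g4
  norm_num at s4
  have hle := Nat.le_of_dvd (by norm_num) s4
  have hb24 : b ≤ 24 := by omega
  obtain ⟨k, hk⟩ := hodd
  have hk' : k ≤ 11 := by omega
  have hk4 : 4 ≤ k := by omega
  subst hk
  interval_cases k
  · -- b = 9
    apply hcop 2 Nat.prime_two (by norm_num)
    decide
  all_goals omega

/-- (B) = (N3) + (N4) + (N5) -/
theorem num_tail (a b : ℕ) (hb : 2 ≤ b) (hba : b < a) (hm : (a + b).Prime) (ha1 : (a + 1).Prime)
    (hdvd : (b + 1) ∣ a)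
    (hcop : ∀ p : ℕ, p.Prime → p ≤ a → ¬ p ∣ Nat.choose (a + b) b) : a = 4 ∧ b = 3 := by
  obtain ⟨hab, hodd⟩ := num_N3 a b hb hba hm hdvd hcop
  subst hab
  have hb3 : 3 ≤ b := by
    obtain ⟨k, hk⟩ := hodd
    omega
  have := num_N45 b hb3 hodd (by rwa [show 2 * b + 1 = b + 1 + b by ring]) ha1
    (by rwa [show 2 * b + 1 = b + 1 + b by ring])
  omega

/-- (N1), Claim A: the `p`-part of `m = a + b` divides `gcd a b` for every prime `p ≤ a` -/
theorem num_ppart (a b : ℕ) (ha : 1 ≤ a) (hb : 1 ≤ b)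
    (hcop : ∀ p : ℕ, p.Prime → p ≤ a → ¬ p ∣ Nat.choose (a + b) b)
    (p : ℕ) (hp : p.Prime) (hpa : p ≤ a) :
    p ^ (a + b).factorization p ∣ Nat.gcd a b := by
  have hpm : p ^ (a + b).factorization p ∣ a + b := Nat.ordProj_dvd (a + b) p
  have hc : Nat.Coprime (p ^ (a + b).factorization p) ((a + b).choose b) :=
    Nat.Coprime.pow_left _ ((Nat.Prime.coprime_iff_not_dvd hp).2 (hcop p hp hpa))
  apply Nat.dvd_gcd
  · have h1 := Nat.add_one_mul_choose_eq (a + b - 1) (a - 1)
    rw [show a + b - 1 + 1 = a + b by omega, show a - 1 + 1 = a by omega, Nat.choose_symm_add] at h1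
    have h2 : p ^ (a + b).factorization p ∣ (a + b).choose b * a := by
      rw [← h1]
      exact Dvd.dvd.mul_right hpm _
    exact hc.dvd_of_dvd_mul_left h2
  · have h1 := Nat.add_one_mul_choose_eq (a + b - 1) (b - 1)
    rw [show a + b - 1 + 1 = a + b by omega, show b - 1 + 1 = b by omega] at h1
    have h2 : p ^ (a + b).factorization p ∣ (a + b).choose b * b := by
      rw [← h1]
      exact Dvd.dvd.mul_right hpm _
    exact hc.dvd_of_dvd_mul_left h2

/-- (N1): `a + b` is prime -/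
theorem num_N1 (a b : ℕ) (hb : 2 ≤ b) (hba : b ≤ a)
    (hcop : ∀ p : ℕ, p.Prime → p ≤ a → ¬ p ∣ Nat.choose (a + b) b) : (a + b).Prime := by
  have hm0 : a + b ≠ 0 := by omega
  have hg : Nat.gcd a b ∣ a + b := Dvd.dvd.add (Nat.gcd_dvd_left a b) (Nat.gcd_dvd_right a b)
  obtain ⟨d, hd⟩ := hg
  have hgpos : 0 < Nat.gcd a b := Nat.gcd_pos_of_pos_right a (by omega)
  have hgb : Nat.gcd a b ≤ b := Nat.le_of_dvd (by omega) (Nat.gcd_dvd_right a b)
  have hbig : ∀ p : ℕ, p.Prime → p ∣ d → a < p := by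
    intro p hp hpd
    by_contra hle
    have h1 := num_ppart a b (by omega) (by omega) hcop p hp (by omega)
    have h2 : p ^ (a + b).factorization p * p ∣ Nat.gcd a b * d := Nat.mul_dvd_mul h1 hpd
    rw [← hd, ← pow_succ] at h2
    exact Nat.pow_succ_factorization_not_dvd hm0 hp h2
  have hd1 : d ≠ 1 := by
    rintro rfl
    omega
  have hd0 : d ≠ 0 := by
    rintro rfl
    omega
  have hda : a < d := by
    have h1 := hbig d.minFac (Nat.minFac_prime hd1) (Nat.minFac_dvd d)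
    have h2 := Nat.minFac_le (Nat.pos_of_ne_zero hd0)
    omega
  have hg1 : Nat.gcd a b = 1 := by
    by_contra hne
    have : 2 ≤ Nat.gcd a b := by omega
    nlinarith
  rw [hg1, one_mul] at hd
  rw [Nat.prime_def_minFac]
  refine ⟨by omega, ?_⟩
  have hmf := hbig (a + b).minFac (Nat.minFac_prime (by omega)) (by rw [← hd]; exact Nat.minFac_dvd _)
  obtain ⟨k, hk⟩ := Nat.minFac_dvd (a + b)
  rcases k with _ | _ | k
  · omega
  · omega
  · exfalso
    nlinarith

/-- (A) = (N1) + (N2) -/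
theorem num_front (a b : ℕ) (hb : 2 ≤ b) (hba : b ≤ a)
    (hcop : ∀ p : ℕ, p.Prime → p ≤ a → ¬ p ∣ Nat.choose (a + b) b) :
    (a + b).Prime ∧ (a + 1).Prime ∧ b < a ∧ (b + 1) ∣ a := by
  have hm := num_N1 a b hb hba hcop
  have ha1 : (a + 1).Prime := by
    by_contra hnp
    have hc : Nat.Coprime (a + 1) ((a + b).choose b) := by
      apply num_coprime hcop
      intro p hp hpd
      have h1 := Nat.le_of_dvd (by omega) hpd
      have h2 : p ≠ a + 1 := by
        rintro rfl
        exact hnp hp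
      omega
    have h1 := Nat.add_one_mul_choose_eq (a + b) a
    rw [Nat.choose_symm_add] at h1
    have h2 : (a + 1) ∣ (a + b + 1) * (a + b).choose b := by
      rw [h1]
      exact Dvd.intro_left _ rfl
    have h3 := hc.dvd_of_dvd_mul_right h2
    rw [show a + b + 1 = (a + 1) + b by ring] at h3
    have h4 := (Nat.dvd_add_right (dvd_refl (a + 1))).1 h3
    have := Nat.le_of_dvd (by omega) h4
    omega
  have hlt : b < a := by
    rcases Nat.lt_or_ge b a with h | h
    · exact h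
    · exfalso
      have hab : a = b := le_antisymm h hba
      subst hab
      have he : Even (a + a) := ⟨a, rfl⟩
      have := (Nat.Prime.even_iff hm).1 he
      omega
  refine ⟨hm, ha1, hlt, ?_⟩
  have hc : Nat.Coprime (b + 1) ((a + b).choose b) := by
    apply num_coprime hcop
    intro p hp hpd
    have h1 := Nat.le_of_dvd (by omega) hpd
    omega
  have h1 := Nat.add_one_mul_choose_eq (a + b) b
  have h2 : (b + 1) ∣ (a + b + 1) * (a + b).choose b := by
    rw [h1]
    exact Dvd.intro_left _ rfl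
  have h3 := hc.dvd_of_dvd_mul_right h2
  rw [show a + b + 1 = (b + 1) + a by ring] at h3
  exact (Nat.dvd_add_right (dvd_refl (b + 1))).1 h3

/-- HS-NUM -/
theorem lemmaN (a b : ℕ) (hb : 2 ≤ b) (hba : b ≤ a) (hq : ∃ q : ℕ, q.Prime ∧ a < q ∧ q ≤ a + b)
    (hcop : ∀ p : ℕ, p.Prime → p ≤ a → ¬ p ∣ Nat.choose (a + b) b) : a = 4 ∧ b = 3 := by
  obtain ⟨hm, ha1, hlt, hdvd⟩ := num_front a b hb hba hcop
  exact num_tail a b hb hlt hm ha1 hdvd hcop

end Cfsg.Agent.Lib.Helper9.HsNum
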