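import Mathlib
import Cfsg.Prelude.Def_CaseTheorems
import Cfsg.Prelude.Def_IsolatedElements

set_option autoImplicit false

/-!
Isolated elements of order `p`: elementary lemmas.
-/

namespace Cfsg.Agent.Lib.Helper9

open Cfsg

section iso

variable {G : Type*} [Group G]

/-- A `p`-subgroup containing the isolated element `x` centralizes `x`. -/
theorem isolated_le_centralizer_of_isPGroup [Finite G] {p : ℕ} [Fact p.Prime] {x : G}
    (hiso : IsIsolated x) {P : Subgroup G} (hP : IsPGroup p P) (hxP : x ∈ P) :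
    P ≤ Subgroup.centralizer ({x} : Set G) := by
  classical
  have hnil : Group.IsNilpotent ↥P := hP.isNilpotent
  have hNC : NormalizerCondition ↥P := Group.normalizerCondition_of_isNilpotent
  set x' : ↥P := ⟨x, hxP⟩ with hx'
  set C : Subgroup ↥P := Subgroup.centralizer ({x'} : Set ↥P) with hC
  by_contra hcon
  have hCtop : C < ⊤ := by
    rw [lt_top_iff_ne_top]
    intro h
    apply hcon
    intro g hg
    have h1 : (⟨g, hg⟩ : ↥P) ∈ C := by rw [h]; exact Subgroup.mem_top _
    rw [hC, Subgroup.mem_centralizer_singleton_iff] at h1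
    rw [Subgroup.mem_centralizer_singleton_iff]
    exact congrArg Subtype.val h1
  have hlt := hNC C hCtop
  obtain ⟨g, hgN, hgC⟩ := SetLike.exists_of_lt hlt
  apply hgC
  have hx'C : x' ∈ C := by rw [hC, Subgroup.mem_centralizer_singleton_iff]
  have h1 : g * x' * g⁻¹ ∈ C := (Subgroup.mem_normalizer_iff.mp hgN x').mp hx'C
  rw [hC, Subgroup.mem_centralizer_singleton_iff] at h1
  have h2 : Commute x ((g : G) * x * (g : G)⁻¹) := by
    have h3 := congrArg Subtype.val h1
    simp only [Subgroup.coe_mul, Subgroup.coe_inv, hx'] at h3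
    exact h3.symm
  have h3 := hiso (g : G) h2
  rw [hC, Subgroup.mem_centralizer_singleton_iff]
  apply Subtype.ext
  simp only [Subgroup.coe_mul, hx']
  calc (g : G) * x = (g : G) * x * (g : G)⁻¹ * g := by group
    _ = x * g := by rw [h3]

/-- Every `p`-subgroup containing an isolated element `x` lies in a Sylow `p`-subgroup
centralizing `x`. -/
theorem exists_sylow_le_centralizer_of_isolated [Finite G] {p : ℕ} [Fact p.Prime] {x : G}
    (hiso : IsIsolated x) {Q : Subgroup G} (hQ : IsPGroup p Q) (hxQ : x ∈ Q) :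
    ∃ T : Sylow p G, Q ≤ (T : Subgroup G) ∧
      (T : Subgroup G) ≤ Subgroup.centralizer ({x} : Set G) := by
  obtain ⟨T, hT⟩ := hQ.exists_le_sylow
  exact ⟨T, hT, isolated_le_centralizer_of_isPGroup hiso T.isPGroup' (hT hxQ)⟩

theorem exists_zpow_mul_zpow_of_mem_closure_pair {a b u : G} (hab : Commute a b)
    (hu : u ∈ Subgroup.closure ({a, b} : Set G)) : ∃ i j : ℤ, u = a ^ i * b ^ j := by
  induction hu using Subgroup.closure_induction with
  | mem y hy =>
    rcases hy with rfl | rfl
    · exact ⟨1, 0, by simp⟩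
    · exact ⟨0, 1, by simp⟩
  | one => exact ⟨0, 0, by simp⟩
  | mul y z _ _ hy hz =>
    obtain ⟨i, j, rfl⟩ := hy
    obtain ⟨k, l, rfl⟩ := hz
    refine ⟨i + k, j + l, ?_⟩
    rw [zpow_add, zpow_add]
    have h1 : Commute (b ^ j) (a ^ k) := (hab.zpow_zpow k j).symm
    calc a ^ i * b ^ j * (a ^ k * b ^ l) = a ^ i * (b ^ j * a ^ k) * b ^ l := by group
      _ = a ^ i * (a ^ k * b ^ j) * b ^ l := by rw [h1.eq]
      _ = a ^ i * a ^ k * (b ^ j * b ^ l) := by group
  | inv y _ hy =>
    obtain ⟨i, j, rfl⟩ := hy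
    refine ⟨-i, -j, ?_⟩
    rw [mul_inv_rev, ← zpow_neg, ← zpow_neg]
    exact ((hab.zpow_zpow (-i) (-j)).eq).symm

theorem pow_eq_one_of_mem_closure_of_commute {S : Set G} {p : ℕ}
    (hc : ∀ s ∈ S, ∀ t ∈ S, s * t = t * s) (hp : ∀ s ∈ S, s ^ p = 1) :
    ∀ u ∈ Subgroup.closure S, u ^ p = 1 := by
  have hcomm := Subgroup.isMulCommutative_closure hc
  intro u hu
  induction hu using Subgroup.closure_induction with
  | mem y hy => exact hp y hy
  | one => simp
  | mul y z hy hz ihy ihz =>
    have h1 : Commute y z := by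
      have h2 := hcomm.is_comm.comm (⟨y, hy⟩ : Subgroup.closure S) ⟨z, hz⟩
      exact congrArg Subtype.val h2
    rw [h1.mul_pow, ihy, ihz, one_mul]
  | inv y hy ih => rw [inv_pow, ih, inv_one]

theorem mem_zpowers_zpow_of_orderOf_prime [Finite G] {p : ℕ} [hp : Fact p.Prime] {a : G} (ha : orderOf a = p)
    (i : ℤ) (hne : a ^ i ≠ 1) : a ∈ Subgroup.zpowers (a ^ i) := by
  have hle : Subgroup.zpowers (a ^ i) ≤ Subgroup.zpowers a :=
    Subgroup.zpowers_le.mpr (Subgroup.zpow_mem_zpowers a i)
  have hdvd : orderOf (a ^ i) ∣ p := by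
    apply orderOf_dvd_of_pow_eq_one
    rw [← zpow_natCast, ← zpow_mul, mul_comm, zpow_mul, zpow_natCast, ← ha, pow_orderOf_eq_one,
      one_zpow]
  have hord : orderOf (a ^ i) = p := by
    rcases (Nat.dvd_prime hp.out).mp hdvd with h | h
    · exact absurd (orderOf_eq_one_iff.mp h) hne
    · exact h
  have heq : Subgroup.zpowers (a ^ i) = Subgroup.zpowers a := by
    apply Subgroup.eq_of_le_of_card_ge hle
    rw [Nat.card_zpowers, Nat.card_zpowers, ha, hord]
  rw [heq]
  exact Subgroup.mem_zpowers a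

/-- In a group of `p`-rank at most two, an element `c` of exponent `p` commuting with the
independent commuting elements `a`, `b` of exponent `p` lies in `⟨a, b⟩`. -/
theorem mem_closure_pair_of_pRankLE [Finite G] {p : ℕ} [hp : Fact p.Prime]
    (hrank : PRankLE p 2 G) {a b c : G}
    (ha : orderOf a = p) (hb : b ^ p = 1) (hc : c ^ p = 1)
    (hab : Commute a b) (hac : Commute a c) (hbc : Commute b c)
    (hba : b ∉ Subgroup.zpowers a) : c ∈ Subgroup.closure ({a, b} : Set G) := by
  classical
  have hap : a ^ p = 1 := by rw [← ha]; exact pow_orderOf_eq_one a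
  set A : Subgroup G := Subgroup.closure ({a, b, c} : Set G) with hA
  set E : Subgroup G := Subgroup.closure ({a, b} : Set G) with hE
  have hEA : E ≤ A := by
    apply Subgroup.closure_mono
    intro y hy
    rcases hy with rfl | rfl
    · simp
    · simp
  have hcommS : ∀ s ∈ ({a, b, c} : Set G), ∀ t ∈ ({a, b, c} : Set G), s * t = t * s := by
    intro s hs t ht
    rcases hs with rfl | rfl | rfl <;> rcases ht with rfl | rfl | rfl
    · rfl
    · exact hab.eq
    · exact hac.eq
    · exact hab.eq.symm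
    · rfl
    · exact hbc.eq
    · exact hac.eq.symm
    · exact hbc.eq.symm
    · rfl
  have hexpS : ∀ s ∈ ({a, b, c} : Set G), s ^ p = 1 := by
    intro s hs
    rcases hs with rfl | rfl | rfl
    · exact hap
    · exact hb
    · exact hc
  have hAc : IsMulCommutative A := Subgroup.isMulCommutative_closure hcommS
  have hAe : ∀ u ∈ A, u ^ p = 1 := pow_eq_one_of_mem_closure_of_commute hcommS hexpS
  have hAcard : Nat.card A ≤ p ^ 2 := hrank A hAc hAe
  have hEp : IsPGroup p E := by
    intro g
    refine ⟨1, ?_⟩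
    apply Subtype.ext
    simp only [pow_one, Subgroup.coe_pow, Subgroup.coe_one]
    exact hAe _ (hEA g.2)
  obtain ⟨k, hk⟩ := hEp.exists_card_eq
  have haE : Subgroup.zpowers a ≤ E := by
    rw [Subgroup.zpowers_le]
    exact Subgroup.subset_closure (by simp)
  have hbE : b ∈ E := Subgroup.subset_closure (by simp)
  have hk2 : 2 ≤ k := by
    by_contra hlt
    have hk1 : k ≤ 1 := by omega
    have h1 : Nat.card E ≤ Nat.card (Subgroup.zpowers a) := by
      rw [hk, Nat.card_zpowers, ha]
      calc p ^ k ≤ p ^ 1 := Nat.pow_le_pow_right hp.out.pos hk1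
        _ = p := pow_one p
    have h2 := Subgroup.eq_of_le_of_card_ge haE h1
    apply hba
    rw [h2]
    exact hbE
  have hEcard : p ^ 2 ≤ Nat.card E := by
    rw [hk]
    exact Nat.pow_le_pow_right hp.out.pos hk2
  have hEA' : E = A := Subgroup.eq_of_le_of_card_ge hEA (hAcard.trans hEcard)
  rw [hEA']
  exact Subgroup.subset_closure (by simp)

theorem exists_zpow_mul_zpow_of_pRankLE [Finite G] {p : ℕ} [hp : Fact p.Prime]
    (hrank : PRankLE p 2 G) {a b c : G}
    (ha : orderOf a = p) (hb : b ^ p = 1) (hc : c ^ p = 1)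
    (hab : Commute a b) (hac : Commute a c) (hbc : Commute b c)
    (hba : b ∉ Subgroup.zpowers a) : ∃ i j : ℤ, c = a ^ i * b ^ j :=
  exists_zpow_mul_zpow_of_mem_closure_pair hab
    (mem_closure_pair_of_pRankLE hrank ha hb hc hab hac hbc hba)

end iso

end Cfsg.Agent.Lib.Helper9
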