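import Mathlib
import Cfsg.Agent.Lib.Helper9.IsoA
import Cfsg.Agent.Lib.Helper9.SubnormalSylow
import Cfsg.Agent.Lib.Helper91.Components
import Cfsg.Agent.Lib.Helper91.InnerAut
import Cfsg.Agent.Lib.Helper22.Bal
import Cfsg.Agent.Lib.Helper30.PPrimeCore
import Cfsg.Agent.Lib.Helper63.CoprimeOmega
import Cfsg.Agent.S0071

set_option autoImplicit false

/-!
Isolated elements of order `p` in groups of `p`-rank at most two: the key lemma.
-/

namespace Cfsg.Agent.Lib.Helper9

open Cfsg

universe u

section isoB

variable {G : Type u} [Group G] [Finite G] {p : ℕ} [hp : Fact p.Prime]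

/-- If `O_{p'}(G) = 1`, every Sylow `p`-subgroup of `G` meets every component in an element of
order `p`. -/
theorem exists_orderOf_eq_mem_sylow_inf_component (hcore : pPrimeCore p G = ⊥) {L : Subgroup G}
    (hL : IsComponent L) (T : Sylow p G) :
    ∃ z : G, z ∈ (T : Subgroup G) ∧ z ∈ L ∧ orderOf z = p := by
  classical
  obtain ⟨Q, hQ⟩ := exists_sylow_eq_subgroupOf p L hL.1 T
  have hnt : Nontrivial ↥L := Cfsg.Agent.Lib.Helper91.nontrivial_of_isQuasisimple hL.2
  have hdvd : p ∣ Nat.card ↥L := by
    by_contra hnd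
    have hc : (Nat.card ↥L).Coprime p :=
      ((Nat.Prime.coprime_iff_not_dvd hp.out).mpr hnd).symm
    have h1 := Cfsg.Agent.Lib.Helper30.subnormal_le_pPrimeCore p L hL.1 hc
    rw [hcore, le_bot_iff] at h1
    have : Subsingleton ↥L := by
      rw [h1]; infer_instance
    exact not_subsingleton ↥L this
  have hQne : (Q : Subgroup ↥L) ≠ ⊥ := Q.ne_bot_of_dvd_card hdvd
  have hQnt : Nontrivial ↥(Q : Subgroup ↥L) := (Subgroup.nontrivial_iff_ne_bot _).mpr hQne
  have hQd : p ∣ Nat.card ↥(Q : Subgroup ↥L) := by
    rcases Q.isPGroup'.card_eq_or_dvd with h | h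
    · exact absurd (Finite.one_lt_card_iff_nontrivial.mpr hQnt) (by omega)
    · exact h
  obtain ⟨z, hz⟩ := exists_prime_orderOf_dvd_card' p hQd
  refine ⟨((z : ↥L) : G), ?_, (z : ↥L).2, ?_⟩
  · have h1 : ∀ y : ↥L, y ∈ (Q : Subgroup ↥L) → (y : G) ∈ (T : Subgroup G) := by
      intro y hy
      rw [hQ, Subgroup.mem_subgroupOf] at hy
      exact hy
    exact h1 (z : ↥L) z.2
  · rw [Subgroup.orderOf_coe, Subgroup.orderOf_coe]
    exact hz

/-- **Key lemma.** Let `x` be an isolated element of order `p` (odd) in a group of `p`-rank at most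
two with `O_{p'}(G) = 1`, and let `L` be a component not centralized by `x`. Then no element of
order `p` of `C_G(L)` commutes with `x`. -/
theorem isolated_key (hp2 : p ≠ 2) (hcore : pPrimeCore p G = ⊥) (hrank : PRankLE p 2 G) {x : G}
    (hx : orderOf x = p) (hiso : IsIsolated x) {L : Subgroup G} (hL : IsComponent L)
    (hxL : x ∉ Subgroup.centralizer (L : Set G)) {z : G} (hz : orderOf z = p)
    (hzL : z ∈ Subgroup.centralizer (L : Set G)) (hxz : Commute x z) : False := by
  classical
  have hxp : x ^ p = 1 := by rw [← hx]; exact pow_orderOf_eq_one x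
  have hzp : z ^ p = 1 := by rw [← hz]; exact pow_orderOf_eq_one z
  have hz1 : z ≠ 1 := by
    intro h
    rw [h, orderOf_one] at hz
    exact hp.out.one_lt.ne hz
  -- `z ∉ ⟨x⟩`
  have hzx : z ∉ Subgroup.zpowers x := by
    intro hmem
    obtain ⟨i, hi⟩ := Subgroup.mem_zpowers_iff.mp hmem
    have hne : x ^ i ≠ 1 := by rw [hi]; exact hz1
    have h1 := mem_zpowers_zpow_of_orderOf_prime hx i hne
    rw [hi] at h1
    apply hxL
    exact (Subgroup.zpowers_le.mpr hzL) h1
  -- the group `E = ⟨x, z⟩`
  set E : Subgroup G := Subgroup.closure ({x, z} : Set G) with hE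
  have hcommS : ∀ s ∈ ({x, z} : Set G), ∀ t ∈ ({x, z} : Set G), s * t = t * s := by
    intro s hs t ht
    rcases hs with rfl | rfl <;> rcases ht with rfl | rfl
    · rfl
    · exact hxz.eq
    · exact hxz.eq.symm
    · rfl
  have hexpS : ∀ s ∈ ({x, z} : Set G), s ^ p = 1 := by
    intro s hs
    rcases hs with rfl | rfl
    · exact hxp
    · exact hzp
  have hEe : ∀ u ∈ E, u ^ p = 1 := pow_eq_one_of_mem_closure_of_commute hcommS hexpS
  have hEc : IsMulCommutative E := Subgroup.isMulCommutative_closure hcommS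
  have hEp : IsPGroup p E := by
    intro g
    refine ⟨1, ?_⟩
    apply Subtype.ext
    simp only [pow_one, Subgroup.coe_pow, Subgroup.coe_one]
    exact hEe _ g.2
  have hxE : x ∈ E := Subgroup.subset_closure (by simp)
  have hzE : z ∈ E := Subgroup.subset_closure (by simp)
  have hEx : ∀ u ∈ E, Commute x u := by
    intro u hu
    exact congrArg Subtype.val (hEc.is_comm.comm (⟨x, hxE⟩ : E) ⟨u, hu⟩)
  obtain ⟨T, hET, hTx⟩ := exists_sylow_le_centralizer_of_isolated hiso hEp hxE
  obtain ⟨Q, hQ⟩ := exists_sylow_eq_subgroupOf p L hL.1 T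
  -- elements of exponent `p` of `T ∩ L` lie in `E`
  have hF : ∀ u : G, u ∈ (T : Subgroup G) → u ∈ L → u ^ p = 1 → ∃ i j : ℤ, u = x ^ i * z ^ j := by
    intro u huT huL hup
    have hxu : Commute x u := by
      have := hTx huT
      rw [Subgroup.mem_centralizer_singleton_iff] at this
      exact this.symm
    have hzu : Commute z u := by
      have := Subgroup.mem_centralizer_iff.mp hzL u huL
      exact this.symm
    exact exists_zpow_mul_zpow_of_pRankLE hrank hx hzp hup hxz hxu hzu hzx
  -- `z` commutes with `L`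
  have hzc : ∀ l ∈ L, Commute z l := fun l hl => (Subgroup.mem_centralizer_iff.mp hzL l hl).symm
  -- the Frobenius condition
  have hfrob : ∀ R : Subgroup ↥L, R ≤ (Q : Subgroup ↥L) →
      ∀ g ∈ Subgroup.normalizer (R : Set ↥L), Nat.Coprime (orderOf g) p →
        g ∈ Subgroup.centralizer (R : Set ↥L) := by
    intro R hRQ g hgN hgo
    have hcore' : ∀ u ∈ R, u ^ p = 1 → g * u = u * g := by
      intro u huR hup
      have hu'R : g * u * g⁻¹ ∈ R := (Subgroup.mem_normalizer_iff.mp hgN u).mp huR
      have huT : ((u : ↥L) : G) ∈ (T : Subgroup G) := by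
        have := hRQ huR
        rw [hQ, Subgroup.mem_subgroupOf] at this
        exact this
      have hu'T : ((g * u * g⁻¹ : ↥L) : G) ∈ (T : Subgroup G) := by
        have := hRQ hu'R
        rw [hQ, Subgroup.mem_subgroupOf] at this
        exact this
      have hupG : ((u : ↥L) : G) ^ p = 1 := by
        have := congrArg Subtype.val hup
        simpa using this
      have hu'pG : ((g * u * g⁻¹ : ↥L) : G) ^ p = 1 := by
        have h1 : (g * u * g⁻¹) ^ p = 1 := by
          rw [conj_pow, hup, mul_one, mul_inv_cancel]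
        have := congrArg Subtype.val h1
        simpa using this
      obtain ⟨i, j, hij⟩ := hF _ huT u.2 hupG
      obtain ⟨k, l, hkl⟩ := hF _ hu'T (g * u * g⁻¹).2 hu'pG
      have hzg : Commute z (g : G) := hzc _ g.2
      apply Subtype.ext
      simp only [Subgroup.coe_mul]
      have hgoal : Commute (g : G) (u : G) := by
        rw [hij]
        apply Commute.mul_right
        · by_cases hxi : x ^ i = 1
          · rw [hxi]; exact Commute.one_right _
          · -- `x ∈ ⟨x ^ i⟩`
            have hmem := mem_zpowers_zpow_of_orderOf_prime hx i hxi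
            obtain ⟨m, hm⟩ := Subgroup.mem_zpowers_iff.mp hmem
            -- `g x^i g⁻¹ ∈ E`
            have h1 : (g : G) * x ^ i * (g : G)⁻¹ = x ^ k * z ^ l * z ^ (-j) := by
              have h2 : x ^ i = (u : G) * z ^ (-j) := by
                rw [hij, mul_assoc, ← zpow_add, add_neg_cancel, zpow_zero, mul_one]
              have h3 : Commute (z ^ (-j)) ((g : G)⁻¹) := (hzg.zpow_left (-j)).inv_right
              rw [h2, ← hkl]
              simp only [Subgroup.coe_mul, Subgroup.coe_inv]
              calc (g : G) * ((u : G) * z ^ (-j)) * (g : G)⁻¹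
                  = (g : G) * (u : G) * (z ^ (-j) * (g : G)⁻¹) := by group
                _ = (g : G) * (u : G) * ((g : G)⁻¹ * z ^ (-j)) := by rw [h3.eq]
                _ = (g : G) * (u : G) * (g : G)⁻¹ * z ^ (-j) := by group
            have h4 : (g : G) * x ^ i * (g : G)⁻¹ ∈ E := by
              rw [h1]
              exact E.mul_mem (E.mul_mem (E.zpow_mem hxE k) (E.zpow_mem hzE l)) (E.zpow_mem hzE (-j))
            have h5 : Commute x ((g : G) * x * (g : G)⁻¹) := by
              have h6 : (g : G) * x * (g : G)⁻¹ = ((g : G) * x ^ i * (g : G)⁻¹) ^ m := by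
                rw [conj_zpow, hm]
              rw [h6]
              exact (hEx _ h4).zpow_right m
            have h7 := hiso (g : G) h5
            have h8 : Commute (g : G) x := by
              have : (g : G) * x = x * (g : G) := by
                calc (g : G) * x = (g : G) * x * (g : G)⁻¹ * g := by group
                  _ = x * g := by rw [h7]
              exact this
            exact h8.zpow_right i
        · exact (hzg.zpow_left j).symm
      exact hgoal.eq
    have hcop : (Nat.card (Subgroup.zpowers g)).Coprime p := by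
      rw [Nat.card_zpowers]; exact hgo
    have hRp : IsPGroup p R := Q.isPGroup'.to_le hRQ
    have hAP : Subgroup.zpowers g ≤ Subgroup.normalizer (R : Set ↥L) :=
      Subgroup.zpowers_le.mpr hgN
    have hΩ : ∀ u ∈ R, u ^ p = 1 → ∀ a ∈ Subgroup.zpowers g, a * u = u * a := by
      intro u huR hup a ha
      obtain ⟨n, rfl⟩ := Subgroup.mem_zpowers_iff.mp ha
      have hc : Commute g u := hcore' u huR hup
      exact (hc.zpow_left n).eq
    have hle := Cfsg.Agent.Lib.Helper63.le_centralizer_of_centralizes_omega hp2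
      (Subgroup.zpowers g) R hcop hRp hAP hΩ
    rw [Subgroup.mem_centralizer_iff]
    intro r hr
    have h1 := Subgroup.mem_centralizer_iff.mp (hle hr) g (Subgroup.mem_zpowers g)
    exact h1.symm
  obtain ⟨N, hNn, hNc⟩ := (Cfsg.Agent.S0071.result Q).mpr hfrob
  -- `L / N` is a perfect `p`-group, hence trivial
  have hNtop : N = ⊤ := by
    by_contra hne
    have hnt : Nontrivial (↥L ⧸ N) := QuotientGroup.nontrivial_iff.mpr hne
    have hperf : Group.IsPerfect ↥L := hL.2.1
    have hperf' : Group.IsPerfect (↥L ⧸ N) :=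
      Group.IsPerfect.ofSurjective (f := QuotientGroup.mk' N) (QuotientGroup.mk'_surjective N)
    have hpq : IsPGroup p (↥L ⧸ N) := by
      obtain ⟨k, hk⟩ := Q.isPGroup'.exists_card_eq
      apply IsPGroup.of_card (n := k)
      rw [← hk]
      exact hNc.symm.index_eq_card
    have hnil : Group.IsNilpotent (↥L ⧸ N) := hpq.isNilpotent
    have hsolv : Group.IsSolvable (↥L ⧸ N) := inferInstance
    exact Group.IsPerfect.not_isSolvable (↥L ⧸ N) hsolv
  rw [hNtop] at hNc
  have hQbot : (Q : Subgroup ↥L) = ⊥ := Subgroup.isComplement'_top_left.mp hNc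
  obtain ⟨w, hwT, hwL, hwo⟩ := exists_orderOf_eq_mem_sylow_inf_component hcore hL T
  have hwQ : (⟨w, hwL⟩ : ↥L) ∈ (Q : Subgroup ↥L) := by
    rw [hQ, Subgroup.mem_subgroupOf]
    exact hwT
  rw [hQbot, Subgroup.mem_bot] at hwQ
  have hw1 : w = 1 := congrArg Subtype.val hwQ
  rw [hw1, orderOf_one] at hwo
  exact hp.out.one_lt.ne hwo

end isoB

end Cfsg.Agent.Lib.Helper9
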