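import Mathlib
import Cfsg.Agent.Lib.Helper22.KbDefs

/-!
# Kb hive (S1299, owner helper22): LEAF KB-K4 `kb_step` (the norm argument), by helper9.
Mathlib + KbDefs only.
-/

set_option autoImplicit false

namespace Cfsg.Agent.Lib.Helper22.Kb

open Subgroup
open scoped commutatorElement

variable {G : Type*} [Group G]

/-- the twisted action `q • w = y⁻¹ q y w q⁻¹` of `Q` on `W` -/
@[reducible] def kbk4h9_action {Q W : Subgroup G}
    (hQW : Q ≤ normalizer (W : Set G)) (y : G) (hy : ∀ q ∈ Q, y⁻¹ * q * y * q⁻¹ ∈ W) :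
    MulAction ↥Q ↥W where
  smul q w := ⟨y⁻¹ * (q : G) * y * (w : G) * (q : G)⁻¹, by
    have h1 : y⁻¹ * (q : G) * y * (q : G)⁻¹ ∈ W := hy q q.2
    have h2 : (q : G) * (w : G) * (q : G)⁻¹ ∈ W := (mem_normalizer_iff.1 (hQW q.2) (w : G)).1 w.2
    have e : y⁻¹ * (q : G) * y * (w : G) * (q : G)⁻¹ =
        (y⁻¹ * (q : G) * y * (q : G)⁻¹) * ((q : G) * (w : G) * (q : G)⁻¹) := by group
    rw [e]
    exact mul_mem h1 h2⟩
  one_smul w := by
    apply Subtype.ext
    show y⁻¹ * ((1 : ↥Q) : G) * y * (w : G) * ((1 : ↥Q) : G)⁻¹ = (w : G)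
    rw [Subgroup.coe_one]
    group
  mul_smul q₁ q₂ w := by
    apply Subtype.ext
    show y⁻¹ * ((q₁ * q₂ : ↥Q) : G) * y * (w : G) * ((q₁ * q₂ : ↥Q) : G)⁻¹ =
      y⁻¹ * (q₁ : G) * y * (y⁻¹ * (q₂ : G) * y * (w : G) * (q₂ : G)⁻¹) * (q₁ : G)⁻¹
    rw [Subgroup.coe_mul]
    group

/-- fixed point of the twisted action -/
theorem kbk4h9_fixed [Finite G] {p : ℕ} [Fact p.Prime]
    {Q W : Subgroup G} (hQ : IsPGroup p Q) (hW : ¬ p ∣ Nat.card W)
    (hQW : Q ≤ normalizer (W : Set G)) (y : G) (hy : ∀ q ∈ Q, y⁻¹ * q * y * q⁻¹ ∈ W) :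
    ∃ w ∈ W, y * w ∈ centralizer (Q : Set G) := by
  let _ : MulAction ↥Q ↥W := kbk4h9_action hQW y hy
  obtain ⟨w, hw⟩ := hQ.nonempty_fixed_point_of_prime_not_dvd_card ↥W hW
  refine ⟨(w : G), w.2, ?_⟩
  rw [mem_centralizer_iff]
  intro q hq
  have h1 : (⟨q, hq⟩ : ↥Q) • w = w := hw ⟨q, hq⟩
  have h2 : y⁻¹ * q * y * (w : G) * q⁻¹ = (w : G) := congrArg Subtype.val h1
  calc q * (y * (w : G)) = y * (y⁻¹ * q * y * (w : G) * q⁻¹) * q := by group
    _ = y * (w : G) * q := by rw [h2]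

/-- conjugation by an element of the normalizer, as an endomorphism of `↥M` -/
def kbk4h9_conj (M : Subgroup G) (f : G) (hf : f ∈ normalizer (M : Set G)) : ↥M →* ↥M where
  toFun m := ⟨f * (m : G) * f⁻¹, (mem_normalizer_iff.1 hf (m : G)).1 m.2⟩
  map_one' := by
    apply Subtype.ext
    show f * ((1 : ↥M) : G) * f⁻¹ = ((1 : ↥M) : G)
    rw [Subgroup.coe_one]
    group
  map_mul' a b := by
    apply Subtype.ext
    show f * ((a * b : ↥M) : G) * f⁻¹ = (f * (a : G) * f⁻¹) * (f * (b : G) * f⁻¹)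
    rw [Subgroup.coe_mul]
    group

theorem kbk4h9_conj_coe (M : Subgroup G) (f : G) (hf : f ∈ normalizer (M : Set G)) (m : ↥M) :
    ((kbk4h9_conj M f hf m : ↥M) : G) = f * (m : G) * f⁻¹ := rfl

theorem kbk4h9_norm_inf {H K : Subgroup G} {f : G} (h1 : f ∈ normalizer (H : Set G))
    (h2 : f ∈ normalizer (K : Set G)) : f ∈ normalizer ((H ⊓ K : Subgroup G) : Set G) := by
  rw [mem_normalizer_iff] at h1 h2 ⊢
  intro x
  rw [mem_inf, mem_inf, h1 x, h2 x]

theorem kbk4h9_comm_map (M : Subgroup G) : (_root_.commutator ↥M).map M.subtype = ⁅M, M⁆ := by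
  have h := kbSeries_eq_map M 1
  rw [derivedSeries_one] at h
  exact h.symm

theorem kbk4h9_comm_norm {A M : Subgroup G} (hAM : A ≤ normalizer (M : Set G)) :
    A ≤ normalizer ((⁅M, M⁆ : Subgroup G) : Set G) :=
  kbSeries_normalizer hAM 1

variable {p : ℕ} {A W : Subgroup G} {ℱ : Set (Subgroup G)} {Y : Subgroup G → Subgroup G}

/-- LEAF KB-K4 (the norm argument). -/
theorem kb_step [Finite G] [Fact p.Prime] (h : KbSys p A W ℱ Y) {M : Subgroup G} (hMW : M ≤ W)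
    (hM : M ≤ kbCov ℱ Y M) (hAM : A ≤ normalizer (M : Set G)) {F : Subgroup G} (hF : F ∈ ℱ)
    (hIH : ⁅M, M⁆ ⊓ centralizer (F : Set G) ≤ Y F) : M ⊓ centralizer (F : Set G) ≤ Y F := by
  classical
  have : Fintype ↥F := Fintype.ofFinite ↥F
  have hFA : F ≤ A := h.hFA F hF
  have hFp : IsPGroup p ↥F := h.hAp.to_le hFA
  have hFN : ∀ f : ↥F, (f : G) ∈ normalizer (M : Set G) := fun f => hAM (hFA f.2)
  -- the maps
  set π : ↥M →* Abelianization ↥M := Abelianization.of with hπ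
  let c : ↥F → (↥M →* ↥M) := fun f => kbk4h9_conj M (f : G) (hFN f)
  have hc_coe : ∀ (f : ↥F) (m : ↥M), ((c f m : ↥M) : G) = (f : G) * (m : G) * (f : G)⁻¹ :=
    fun f m => rfl
  have hc_mul : ∀ (q f : ↥F) (m : ↥M), c q (c f m) = c (q * f) m := by
    intro q f m
    apply Subtype.ext
    rw [hc_coe, hc_coe, hc_coe, Subgroup.coe_mul]
    group
  let ψ : ↥M → Abelianization ↥M := fun m => ∏ f : ↥F, π (c f m)
  have hψ_mul : ∀ a b : ↥M, ψ (a * b) = ψ a * ψ b := by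
    intro a b
    show (∏ f : ↥F, π (c f (a * b))) = (∏ f : ↥F, π (c f a)) * ∏ f : ↥F, π (c f b)
    rw [← Finset.prod_mul_distrib]
    refine Finset.prod_congr rfl fun f _ => ?_
    rw [map_mul, map_mul]
  let Ψ : ↥M →* Abelianization ↥M := MonoidHom.mk' ψ hψ_mul
  have hΨ : ∀ m, Ψ m = ∏ f : ↥F, π (c f m) := fun m => rfl
  have hkerπ : ∀ g : ↥M, π g = 1 ↔ (g : G) ∈ ⁅M, M⁆ := by
    intro g
    rw [← kbk4h9_comm_map M, ← MonoidHom.mem_ker, hπ, Abelianization.ker_of]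
    constructor
    · intro hg
      exact ⟨g, hg, rfl⟩
    · rintro ⟨g', hg', hgg'⟩
      have : g' = g := Subtype.ext hgg'
      rwa [← this]
  -- the target subgroup
  set P : Subgroup (Abelianization ↥M) := ((M ⊓ Y F).subgroupOf M).map π with hP
  -- main claim: Ψ maps the generators into P
  have hgen : ∀ F' ∈ ℱ, ∀ m : ↥M, (m : G) ∈ Y F' → Ψ m ∈ P := by
    intro F' hF' m hmY
    set B : Subgroup G := M ⊓ Y F' with hB
    set B₀ : Subgroup G := B ⊓ ⁅M, M⁆ with hB₀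
    have hFB : ∀ f : ↥F, (f : G) ∈ normalizer (B : Set G) := fun f =>
      kbk4h9_norm_inf (hFN f) (h.hYA F' hF' (hFA f.2))
    have hFB₀ : F ≤ normalizer (B₀ : Set G) := fun f hf =>
      kbk4h9_norm_inf (hFB ⟨f, hf⟩) (kbk4h9_comm_norm hAM (hFA hf))
    -- the ordered product
    set L : List ↥F := (Finset.univ : Finset ↥F).toList with hL
    set n' : ↥M := (L.map fun f => c f m).prod with hn'
    have hπn : π n' = Ψ m := by
      rw [hn', map_list_prod, List.map_map, hΨ, hL]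
      exact Finset.prod_map_toList _ _
    have hmB : (m : G) ∈ B := ⟨m.2, hmY⟩
    have hcB : ∀ (f : ↥F) (x : ↥M), (x : G) ∈ B → ((c f x : ↥M) : G) ∈ B := by
      intro f x hx
      rw [hc_coe]
      exact (mem_normalizer_iff.1 (hFB f) (x : G)).1 hx
    have hnB : (n' : G) ∈ B := by
      have : n' ∈ B.subgroupOf M := by
        rw [hn']
        apply Subgroup.list_prod_mem
        intro x hx
        rw [List.mem_map] at hx
        obtain ⟨f, _, rfl⟩ := hx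
        rw [mem_subgroupOf]
        exact hcB f m hmB
      exact mem_subgroupOf.1 this
    have hπc : ∀ q : ↥F, π (c q n') = π n' := by
      intro q
      rw [hπn, hn', map_list_prod, map_list_prod, List.map_map, List.map_map, hΨ, hL]
      have e1 : (List.map ((⇑π ∘ ⇑(c q)) ∘ fun f => c f m) (Finset.univ : Finset ↥F).toList).prod
          = ∏ f : ↥F, π (c q (c f m)) := Finset.prod_map_toList _ _
      rw [e1]
      have e2 : ∀ f : ↥F, π (c q (c f m)) = π (c (q * f) m) := fun f => by rw [hc_mul]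
      rw [Finset.prod_congr rfl fun f _ => e2 f]
      exact Equiv.prod_comp (Equiv.mulLeft q) fun f => π (c f m)
    have hy : ∀ q ∈ F, (n' : G)⁻¹ * q * (n' : G) * q⁻¹ ∈ B₀ := by
      intro q hq
      have e : (n' : G)⁻¹ * q * (n' : G) * q⁻¹ = ((n'⁻¹ * c ⟨q, hq⟩ n' : ↥M) : G) := by
        rw [Subgroup.coe_mul, Subgroup.coe_inv, hc_coe]
        group
      rw [e]
      refine ⟨?_, ?_⟩
      · rw [Subgroup.coe_mul, Subgroup.coe_inv]
        exact B.mul_mem (B.inv_mem hnB) (hcB ⟨q, hq⟩ n' hnB)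
      · exact (hkerπ _).1 (by rw [map_mul, map_inv, hπc, inv_mul_cancel])
    have hB₀W : ¬ p ∣ Nat.card ↥B₀ := by
      intro hdvd
      have h1 : B₀ ≤ W := fun x hx => hMW hx.1.1
      exact h.hW (hdvd.trans (Subgroup.card_dvd_of_le h1))
    obtain ⟨w, hw, hcent⟩ := kbk4h9_fixed hFp hB₀W hFB₀ (n' : G) hy
    -- b = n * w
    have hbB : (n' : G) * w ∈ B := B.mul_mem hnB hw.1
    have hbYF : (n' : G) * w ∈ Y F := h.hcross F hF F' hF' ⟨hbB.2, hcent⟩
    have hwM : w ∈ M := hw.1.1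
    have hπw : π ⟨w, hwM⟩ = 1 := (hkerπ ⟨w, hwM⟩).2 hw.2
    have hb : π (n' * ⟨w, hwM⟩) = Ψ m := by rw [map_mul, hπw, mul_one, hπn]
    rw [hP, ← hb]
    refine Subgroup.mem_map_of_mem π ?_
    rw [mem_subgroupOf]
    exact ⟨M.mul_mem n'.2 hwM, hbYF⟩
  -- Ψ maps all of M into P
  have hall : ∀ m : ↥M, Ψ m ∈ P := by
    set S : Subgroup G := (P.comap Ψ).map M.subtype with hS
    have h1 : kbCov ℱ Y M ≤ S := by
      refine iSup₂_le fun F' hF' => ?_
      intro x hx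
      exact ⟨⟨x, hx.1⟩, hgen F' hF' ⟨x, hx.1⟩ hx.2, rfl⟩
    intro m
    obtain ⟨m', hm', hmm'⟩ := h1 (hM m.2)
    have : m' = m := Subtype.ext hmm'
    rw [← this]
    exact hm'
  -- the element x
  intro x hx
  set xx : ↥M := ⟨x, hx.1⟩ with hxx
  have hxc : ∀ f : ↥F, c f xx = xx := by
    intro f
    apply Subtype.ext
    rw [hc_coe]
    have := (mem_centralizer_iff.1 hx.2) (f : G) f.2
    show (f : G) * x * (f : G)⁻¹ = x
    rw [this]
    group
  have hΨx : Ψ xx = π xx ^ Nat.card ↥F := by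
    rw [hΨ, Finset.prod_congr rfl fun f _ => by rw [hxc f], Finset.prod_const, Finset.card_univ,
      Nat.card_eq_fintype_card]
  obtain ⟨k, hk⟩ := (IsPGroup.iff_card (p := p)).1 hFp
  have hcop : (Nat.card ↥F).Coprime (orderOf (π xx)) := by
    rw [hk]
    apply Nat.Coprime.pow_left
    rw [Nat.Prime.coprime_iff_not_dvd (Fact.out : p.Prime)]
    intro hdvd
    apply h.hW
    refine hdvd.trans ((orderOf_map_dvd π xx).trans ?_)
    exact (orderOf_dvd_natCard xx).trans (Subgroup.card_dvd_of_le hMW)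
  obtain ⟨j, hj⟩ := exists_pow_eq_self_of_coprime hcop
  have hπx : π xx ∈ P := by
    rw [← hj, ← hΨx]
    exact P.pow_mem (hall xx) j
  obtain ⟨yy, hyy0, hyx⟩ := hπx
  have hyy : (yy : G) ∈ M ⊓ Y F := mem_subgroupOf.1 hyy0
  have hg : π (yy⁻¹ * xx) = 1 := by rw [map_mul, map_inv, hyx, inv_mul_cancel]
  rw [hkerπ] at hg
  have hgc : ((yy⁻¹ * xx : ↥M) : G) ∈ centralizer (F : Set G) := by
    rw [Subgroup.coe_mul, Subgroup.coe_inv]
    exact (centralizer (F : Set G)).mul_mem ((centralizer (F : Set G)).inv_mem (h.hYC F hF hyy.2)) hx.2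
  have hgY : ((yy⁻¹ * xx : ↥M) : G) ∈ Y F := hIH ⟨hg, hgc⟩
  have e : x = (yy : G) * ((yy⁻¹ * xx : ↥M) : G) := by
    rw [Subgroup.coe_mul, Subgroup.coe_inv]
    show x = (yy : G) * ((yy : G)⁻¹ * x)
    group
  rw [e]
  exact (Y F).mul_mem hyy.2 hgY

end Cfsg.Agent.Lib.Helper22.Kb
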