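import Mathlib
import Cfsg.Prelude.Def_Balance

/-! # Mc hive (owner helper18, S1305), leaf MC-DRK: the rank contradiction. -/

set_option autoImplicit false

open Cfsg

namespace Cfsg.Agent.Lib.Helper18.Mc

open Subgroup

/-- MC-DRK.  The rank contradiction. -/
theorem rank_contra {G : Type*} [Group G] [Finite G] (C₁ C₂ B E : Subgroup G)
    (hBel : IsElementaryAbelian 2 B)
    (hBmax : ∀ B' : Subgroup G, B' ≤ C₁ → IsElementaryAbelian 2 B' → Nat.card B' ≤ Nat.card B)
    (htr : ∀ k : ℕ, PRankLE 2 k ↥C₁ → PRankLE 2 k ↥C₂)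
    (hE : E ≤ C₂) (hEel : IsElementaryAbelian 2 E) (hlt : Nat.card B < Nat.card E) : False := by
  -- `|B| = 2 ^ k`
  have hBp : IsPGroup 2 B := by
    intro g
    refine ⟨1, ?_⟩
    have := hBel.2 g.1 g.2
    apply Subtype.ext
    simpa using this
  obtain ⟨k, hk⟩ := IsPGroup.iff_card.mp hBp
  -- rank bound in `C₁`
  have h1 : PRankLE 2 k ↥C₁ := by
    intro A hA hA2
    have hle : A.map C₁.subtype ≤ C₁ := by
      rintro _ ⟨a, -, rfl⟩
      exact a.2
    have hel : IsElementaryAbelian 2 (A.map C₁.subtype) := by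
      refine ⟨?_, ?_⟩
      · have := hA
        infer_instance
      · rintro _ ⟨a, ha, rfl⟩
        have := hA2 a ha
        have h := congrArg Subtype.val this
        simpa using h
    have hc := hBmax _ hle hel
    have hcard : Nat.card ↥(A.map C₁.subtype) = Nat.card ↥A :=
      Nat.card_congr (A.equivMapOfInjective C₁.subtype C₁.subtype_injective).symm.toEquiv
    rw [hcard, hk] at hc
    exact hc
  have h2 : PRankLE 2 k ↥C₂ := htr k h1
  have hcomm : IsMulCommutative ↥(E.subgroupOf C₂) := by
    have := hEel.1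
    infer_instance
  have h3 := h2 (E.subgroupOf C₂) hcomm (by
    intro a ha
    have := hEel.2 a.1 ha
    apply Subtype.ext
    simpa using this)
  have hcard : Nat.card ↥(E.subgroupOf C₂) = Nat.card ↥E :=
    Nat.card_congr (Subgroup.subgroupOfEquivOfLe hE).toEquiv
  rw [hcard, ← hk] at h3
  omega

end Cfsg.Agent.Lib.Helper18.Mc
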