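import Mathlib
import Cfsg.Agent.Lib.Helper6.Nc.Defs
import Cfsg.Agent.Lib.Helper6.Nc.Leaves

/-!
# Nc hive (S3894, owner helper6): case assembly NC-CASE2B2 `nc_case2B2` (silent backup by helper9).
Uses the leaves as black boxes through `Helper6.Nc.Leaves`.
-/

set_option autoImplicit false

namespace Cfsg.Agent.Lib.Helper6.Nc

open Matrix

variable {F : Type*} [Field F]

/-- conjugation by `ζ' * τ` with `ζ'` central is conjugation by `τ` -/
theorem nccase2b2_conj_central {Γ : Type*} [Group Γ] (ζ' τ g : Γ) (hζ' : ζ' ∈ Subgroup.center Γ) :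
    (ζ' * τ) * g * (ζ' * τ)⁻¹ = τ * g * τ⁻¹ := by
  have hc : ∀ x : Γ, x * ζ' = ζ' * x := fun x => Subgroup.mem_center_iff.1 hζ' x
  calc (ζ' * τ) * g * (ζ' * τ)⁻¹ = ζ' * (τ * g * τ⁻¹) * ζ'⁻¹ := by group
    _ = (τ * g * τ⁻¹) * ζ' * ζ'⁻¹ := by rw [hc (τ * g * τ⁻¹)]
    _ = τ * g * τ⁻¹ := by group

/-- the commutator with `ζ * σ`, `ζ` central, is the commutator with `σ` -/
theorem nccase2b2_comm_central {Γ : Type*} [Group Γ] (ζ τ σ : Γ) (hζ : ζ ∈ Subgroup.center Γ) :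
    τ * (ζ * σ) * τ⁻¹ * (ζ * σ)⁻¹ = τ * σ * τ⁻¹ * σ⁻¹ := by
  have hc : ∀ x : Γ, x * ζ = ζ * x := fun x => Subgroup.mem_center_iff.1 hζ x
  calc τ * (ζ * σ) * τ⁻¹ * (ζ * σ)⁻¹ = (τ * ζ) * (σ * τ⁻¹ * σ⁻¹) * ζ⁻¹ := by group
    _ = (ζ * τ) * (σ * τ⁻¹ * σ⁻¹) * ζ⁻¹ := by rw [hc τ]
    _ = ζ * (τ * σ * τ⁻¹ * σ⁻¹) * ζ⁻¹ := by group
    _ = (τ * σ * τ⁻¹ * σ⁻¹) * ζ * ζ⁻¹ := by rw [hc (τ * σ * τ⁻¹ * σ⁻¹)]
    _ = τ * σ * τ⁻¹ * σ⁻¹ := by group

/-- `σ_x = toGL (sig x)` carries `e₀` to `vec x` -/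
theorem nccase2b2_sig_vec (x : Option F) :
    ((Matrix.SpecialLinearGroup.toGL (sig x) : GL (Fin 2) F) : Matrix (Fin 2) (Fin 2) F) *ᵥ
      ![(1 : F), 0] = vec x := sig_vec x

/-- `u_x = σ_x u σ_x⁻¹` fixes the line `vec x` -/
theorem nccase2b2_ux_mem (x : Option F) :
    Matrix.SpecialLinearGroup.toGL (sig x) * uUg F * (Matrix.SpecialLinearGroup.toGL (sig x))⁻¹ ∈
      lineStab (vec x) := by
  rw [← nccase2b2_sig_vec x, lineStab_conj]
  have e : (Matrix.SpecialLinearGroup.toGL (sig x))⁻¹ *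
      (Matrix.SpecialLinearGroup.toGL (sig x) * uUg F * (Matrix.SpecialLinearGroup.toGL (sig x))⁻¹) *
      Matrix.SpecialLinearGroup.toGL (sig x) = uUg F := by group
  rw [e]
  exact uUg_mem

/-- ... and `g⁻¹ u_x g` fixes `vec y` only if `g⁻¹`-transported: general transport lemma -/
theorem nccase2b2_ux_conj (x y : Option F) (g : GL (Fin 2) F)
    (h : g⁻¹ * (Matrix.SpecialLinearGroup.toGL (sig x) * uUg F *
      (Matrix.SpecialLinearGroup.toGL (sig x))⁻¹) * g ∈ lineStab (vec y)) :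
    (Matrix.SpecialLinearGroup.toGL (sig x))⁻¹ * g * Matrix.SpecialLinearGroup.toGL (sig y) ∈
      lineStab ![(1 : F), 0] := by
  rw [← nccase2b2_sig_vec y, lineStab_conj] at h
  apply uUg_unique
  have e : (Matrix.SpecialLinearGroup.toGL (sig y))⁻¹ *
      (g⁻¹ * (Matrix.SpecialLinearGroup.toGL (sig x) * uUg F *
        (Matrix.SpecialLinearGroup.toGL (sig x))⁻¹) * g) *
      Matrix.SpecialLinearGroup.toGL (sig y) =
      ((Matrix.SpecialLinearGroup.toGL (sig x))⁻¹ * g * Matrix.SpecialLinearGroup.toGL (sig y))⁻¹ *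
        uUg F *
      ((Matrix.SpecialLinearGroup.toGL (sig x))⁻¹ * g * Matrix.SpecialLinearGroup.toGL (sig y)) := by
    group
  rw [e] at h
  exact h

theorem nccase2b2_ux_unique (x : Option F) (g : GL (Fin 2) F)
    (h : g⁻¹ * (Matrix.SpecialLinearGroup.toGL (sig x) * uUg F *
      (Matrix.SpecialLinearGroup.toGL (sig x))⁻¹) * g ∈ lineStab (vec x)) :
    g ∈ lineStab (vec x) := by
  have h1 := nccase2b2_ux_conj x x g h
  rw [← nccase2b2_sig_vec x, lineStab_conj]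
  exact h1

/-- if `u_x` fixes the line `vec y` then `x = y` -/
theorem nccase2b2_ux_inj (x y : Option F)
    (h : Matrix.SpecialLinearGroup.toGL (sig x) * uUg F *
      (Matrix.SpecialLinearGroup.toGL (sig x))⁻¹ ∈ lineStab (vec y)) : x = y := by
  have h0 : (1 : GL (Fin 2) F)⁻¹ * (Matrix.SpecialLinearGroup.toGL (sig x) * uUg F *
      (Matrix.SpecialLinearGroup.toGL (sig x))⁻¹) * 1 ∈ lineStab (vec y) := by
    simpa using h
  have h1 := nccase2b2_ux_conj x y 1 h0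
  rw [mul_one] at h1
  obtain ⟨c, hc⟩ := mem_lineStab.1 h1
  symm
  apply vec_inj y x
  refine ⟨c, ?_⟩
  have e : Matrix.SpecialLinearGroup.toGL (sig y) =
      Matrix.SpecialLinearGroup.toGL (sig x) *
        ((Matrix.SpecialLinearGroup.toGL (sig x))⁻¹ * Matrix.SpecialLinearGroup.toGL (sig y)) := by
    group
  rw [← nccase2b2_sig_vec y, ← nccase2b2_sig_vec x, e, Units.val_mul, ← Matrix.mulVec_mulVec, hc,
    Matrix.mulVec_smul]

/-- NC-CASE2B2 -/
theorem nc_case2B2 [Fintype F] (Gh : Subgroup (GL (Fin 2) F))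
    (hSL : (Matrix.SpecialLinearGroup.toGL :
      Matrix.SpecialLinearGroup (Fin 2) F →* GL (Fin 2) F).range ≤ Gh)
    (AA : Finset (Subgroup (GL (Fin 2) F))) (h : MinNilCover Gh AA)
    (hle : Gh ≤ Lh 2 F) (i : Fˣ) (hi : (i : F) * i = -1) (h2 : (2 : F) ≠ 0) : False := by
  classical
  have hGhmem : ∀ t : Matrix.SpecialLinearGroup (Fin 2) F,
      Matrix.SpecialLinearGroup.toGL t ∈ Gh := fun t => hSL ⟨t, rfl⟩
  -- `i² ≠ 1`
  have hi2 : i ^ 2 ≠ 1 := by
    intro h1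
    have h3 : ((i ^ 2 : Fˣ) : F) = 1 := by rw [h1]; rfl
    rw [Units.val_pow_eq_pow_val, pow_two, hi] at h3
    apply h2
    linear_combination (-1 : F) * h3
  have hii : (i : F) ≠ ((i⁻¹ : Fˣ) : F) := by
    intro he
    have : i = i⁻¹ := Units.ext he
    apply hi2
    rw [pow_two]
    calc i * i = i * i⁻¹ := by rw [← this]
      _ = 1 := mul_inv_cancel i
  -- the elements
  set σg : Option F → GL (Fin 2) F := fun x => Matrix.SpecialLinearGroup.toGL (sig x) with hσg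
  set ux : Option F → GL (Fin 2) F := fun x => σg x * uUg F * (σg x)⁻¹ with hux
  have huU : uUg F ∈ Gh := hGhmem (uU F)
  have hux_mem : ∀ x, ux x ∈ Gh := fun x =>
    Gh.mul_mem (Gh.mul_mem (hGhmem (sig x)) huU) (Gh.inv_mem (hGhmem (sig x)))
  have hs_mem : sDg i ∈ Gh := hGhmem (sD i)
  choose Ax hAx huxA using fun x : Option F => h.cover.covers (ux x) (hux_mem x)
  obtain ⟨As, hAs, hsAs⟩ := h.cover.covers (sDg i) hs_mem
  have hAx_le : ∀ x, Ax x ≤ lineStab (vec x) := fun x =>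
    nc_nfp (Ax x) (lineStab (vec x)) (h.nilp (Ax x) (hAx x)) (ux x) (huxA x) (nccase2b2_ux_mem x)
      (fun g _ hg => nccase2b2_ux_unique x g hg)
  -- `As ≠ Ax x`
  have hAsx : ∀ x, As ≠ Ax x := by
    intro x he
    have hsx : sDg i ∈ lineStab (vec x) := hAx_le x (he ▸ hsAs)
    have hnot := sD_not_with_unip i hi2 As (h.nilp As hAs) hsAs
    rcases sDg_fix i hi2 x hsx with rfl | rfl
    · apply hnot.1
      have e : ux none = uUg F := by
        show Matrix.SpecialLinearGroup.toGL (sig (none : Option F)) * uUg F *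
          (Matrix.SpecialLinearGroup.toGL (sig (none : Option F)))⁻¹ = uUg F
        have : sig (none : Option F) = 1 := rfl
        rw [this, map_one]
        group
      rw [he, ← e]
      exact huxA none
    · apply hnot.2
      have e : ux (some 0) = (uLg F)⁻¹ := sig_some_zero
      have h3 : (uLg F)⁻¹ ∈ As := by
        rw [he, ← e]
        exact huxA (some 0)
      exact (Subgroup.inv_mem_iff As).1 h3
  -- every element of `As` has a fixed line
  have hAsP : ∀ b ∈ As, HasFix b := by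
    have hsZ : sDg i ∉ Subgroup.center (GL (Fin 2) F) := by
      intro hz
      have h3 : sDg i ∈ lineStab (vec (some (1 : F))) := center_le_lineStab _ hz
      rcases sDg_fix i hi2 (some 1) h3 with h4 | h4
      · exact absurd h4 (by simp)
      · exact one_ne_zero (Option.some.inj h4)
    have hnot : ¬ As ≤ Subgroup.center (GL (Fin 2) F) := fun hle' => hsZ (hle' hsAs)
    obtain ⟨z, hzA, hzZ, hzc⟩ := nc_cent As (Subgroup.center (GL (Fin 2) F)) (h.nilp As hAs) hnot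
    -- decomposition of elements of `Lh`
    have hdec : ∀ g ∈ As, ∃ ζ ∈ Subgroup.center (GL (Fin 2) F),
        ∃ τ : Matrix.SpecialLinearGroup (Fin 2) F, g = ζ * Matrix.SpecialLinearGroup.toGL τ := by
      intro g hg
      have hgL : g ∈ Lh 2 F := hle (h.le As hAs hg)
      obtain ⟨ζ, hζ, t, ⟨τ, rfl⟩, rfl⟩ := Subgroup.mem_sup_of_normal_left.1 hgL
      exact ⟨ζ, hζ, τ, rfl⟩
    obtain ⟨ζ, hζ, σ0, hzσ⟩ := hdec z hzA
    set σ : GL (Fin 2) F := Matrix.SpecialLinearGroup.toGL σ0 with hσ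
    have hσZ : σ ∉ Subgroup.center (GL (Fin 2) F) := by
      intro hc
      apply hzZ
      rw [hzσ]
      exact Subgroup.mul_mem _ hζ hc
    have hσdet : (σ : Matrix (Fin 2) (Fin 2) F).det = 1 := σ0.det_coe
    -- commutators with `σ` are central
    have hcomm : ∀ b ∈ As, ∀ ζ' ∈ Subgroup.center (GL (Fin 2) F), ∀ τ : GL (Fin 2) F,
        b = ζ' * τ → τ * σ * τ⁻¹ * σ⁻¹ ∈ Subgroup.center (GL (Fin 2) F) := by
      intro b hb ζ' hζ' τ hbτ
      have h3 := hzc b hb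
      rw [hbτ, hzσ] at h3
      have e : ζ' * τ * (ζ * σ) * (ζ' * τ)⁻¹ * (ζ * σ)⁻¹ = τ * σ * τ⁻¹ * σ⁻¹ := by
        rw [nccase2b2_conj_central ζ' τ (ζ * σ) hζ', nccase2b2_comm_central ζ τ σ hζ]
      rw [e] at h3
      exact h3
    -- `σ` is monomial
    have hσmono : IsMono σ := by
      apply comm_diag_mono (i : F) ((i⁻¹ : Fˣ) : F) hii (sDg i) (coe_sDg i) σ
      have h3 := hcomm (sDg i) hsAs 1 (Subgroup.one_mem _) (sDg i) (one_mul _).symm
      have e : σ * sDg i * σ⁻¹ * (sDg i)⁻¹ = (sDg i * σ * (sDg i)⁻¹ * σ⁻¹)⁻¹ := by group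
      rw [e]
      exact Subgroup.inv_mem _ h3
    obtain ⟨P, δ, d₀, d₁, hd01, hδ, hσP⟩ := mono_diagonalize (i : F) hi h2 σ hσmono hσdet hσZ
    have hPdet : ((P⁻¹ : GL (Fin 2) F) : Matrix (Fin 2) (Fin 2) F).det *
        (P : Matrix (Fin 2) (Fin 2) F).det = 1 := by
      rw [← Matrix.det_mul, ← Units.val_mul, inv_mul_cancel, Units.val_one, Matrix.det_one]
    intro b hb
    obtain ⟨ζ', hζ', τ0, hbτ⟩ := hdec b hb
    set τ : GL (Fin 2) F := Matrix.SpecialLinearGroup.toGL τ0 with hτ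
    have hτdet : (τ : Matrix (Fin 2) (Fin 2) F).det = 1 := τ0.det_coe
    have h3 := hcomm b hb ζ' hζ' τ hbτ
    set τ' : GL (Fin 2) F := P⁻¹ * τ * P with hτ'
    have h4 : τ' * δ * τ'⁻¹ * δ⁻¹ ∈ Subgroup.center (GL (Fin 2) F) := by
      have e : τ' * δ * τ'⁻¹ * δ⁻¹ = P⁻¹ * (τ * σ * τ⁻¹ * σ⁻¹) * P⁻¹⁻¹ := by
        rw [hσP, hτ']
        group
      rw [e]
      exact (Subgroup.normal_of_characteristic (Subgroup.center (GL (Fin 2) F))).conj_mem _ h3 _
    have hτ'mono : IsMono τ' := comm_diag_mono d₀ d₁ hd01 δ hδ τ' h4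
    have hτ'det : (τ' : Matrix (Fin 2) (Fin 2) F).det = 1 := by
      rw [hτ', Units.val_mul, Units.val_mul, Matrix.det_mul, Matrix.det_mul, hτdet, mul_one, hPdet]
    obtain ⟨v, hv, hτ'v⟩ := mono_hasFix (i : F) hi τ' hτ'mono hτ'det
    have hτPv : τ ∈ lineStab ((P : Matrix (Fin 2) (Fin 2) F) *ᵥ v) := (lineStab_conj P τ v).2 hτ'v
    have hPv : (P : Matrix (Fin 2) (Fin 2) F) *ᵥ v ≠ 0 := by
      intro h0
      apply hv
      have : ((P⁻¹ : GL (Fin 2) F) : Matrix (Fin 2) (Fin 2) F) *ᵥ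
          ((P : Matrix (Fin 2) (Fin 2) F) *ᵥ v) = v := by
        rw [Matrix.mulVec_mulVec, ← Units.val_mul, inv_mul_cancel, Units.val_one, Matrix.one_mulVec]
      rw [← this, h0, Matrix.mulVec_zero]
    refine ⟨(P : Matrix (Fin 2) (Fin 2) F) *ᵥ v, hPv, ?_⟩
    rw [hbτ]
    exact Subgroup.mul_mem _ (center_le_lineStab _ hζ') hτPv
  -- the counting lemma
  let f : Option (Option F) → Subgroup (GL (Fin 2) F) := fun o => o.elim As Ax
  refine nc_count h HasFix (fun x : Option F => lineStab (vec x))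
    (fun x => center_le_lineStab (vec x)) ?_ ?_ f ?_ ?_ ?_
  · intro x hle'
    obtain ⟨t, ht⟩ := vec_proper x
    exact ht (hle' (hGhmem t))
  · rintro g _ ⟨v, hv, hg⟩
    obtain ⟨x, hx⟩ := vec_cover v hv
    exact ⟨x, hx ▸ hg⟩
  · intro a b hab
    rcases a with _ | x <;> rcases b with _ | y
    · rfl
    · exact absurd hab (hAsx y)
    · exact absurd hab.symm (hAsx x)
    · have hab' : Ax x = Ax y := hab
      have h3 : ux x ∈ lineStab (vec y) := hAx_le y (hab' ▸ huxA x)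
      rw [nccase2b2_ux_inj x y h3]
  · intro o
    rcases o with _ | x
    · exact hAs
    · exact hAx x
  · intro o g hg
    rcases o with _ | x
    · exact hAsP g hg
    · exact ⟨vec x, vec_ne_zero x, hAx_le x hg⟩

end Cfsg.Agent.Lib.Helper6.Nc
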