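import Mathlib
import Cfsg.Prelude.Def_GeometricClasses
import Cfsg.Agent.Lib.Helper44.OcDefs
import Cfsg.Agent.Lib.Helper37.OmegaIndex
import Cfsg.Agent.Lib.Helper37.SpinorNorm
import Cfsg.Agent.Lib.Helper53.OcODDO

/-!
# Oc hive (helper44, S5977 / S5978), leaf OC-CNEG : `cent_sq_neg_covers` (helper9)

`x ∈ O(Q)` with `x² = -1`, `h ∈ SO(Q)`: some `c ∈ C_{O(Q)}(x)` has `c h ∈ Ω`.
If `h ∉ Ω`, take a nonsingular `v`; `v' = x v` has `Q v' = Q v`, `B(v, v') = 0`; with
`s² + t² = α` a nonsquare, `c = r_v r_{s v + t v'}` is a rotation of the plane `⟨v, v'⟩`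
(`c = 1 + (t / (α Q v)) ((s B(v',·) - t B(v,·)) v - (s B(v,·) + t B(v',·)) v')`), it commutes with
`x`, and its spinor norm `α (Q v)²` is a nonsquare.
-/

set_option autoImplicit false
open scoped MatrixGroups
open Matrix Polynomial

namespace Cfsg.Agent.Lib.Helper44.Oc

open Cfsg.Agent.Lib.Helper37

/-- the product of the reflections in `v` and `s v + t v'` (`Q v = Q v'`, `v ⟂ v'`) is a rotation
of the plane `⟨v, v'⟩` -/
theorem cneg_rot {F : Type*} [Field F] {κ : Type} [Fintype κ] [DecidableEq κ]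
    {Q : (κ → F) → F} {G : Matrix κ κ F} (h : IsGram Q G) (v v' : κ → F) (c₀ : F) (hc₀ : c₀ ≠ 0)
    (hv : Q v = c₀) (hv' : Q v' = c₀) (horth : Matrix.toBilin' G v v' = 0) (s t : F)
    (hα0 : s ^ 2 + t ^ 2 ≠ 0) (y : κ → F) :
    Cfsg.reflectionMatrix Q v *ᵥ (Cfsg.reflectionMatrix Q (s • v + t • v') *ᵥ y) =
      y + (((s ^ 2 + t ^ 2) * c₀)⁻¹ * t *
            (s * Matrix.toBilin' G v' y - t * Matrix.toBilin' G v y)) • v
        - (((s ^ 2 + t ^ 2) * c₀)⁻¹ * t *
            (s * Matrix.toBilin' G v y + t * Matrix.toBilin' G v' y)) • v' := by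
  have hQu : Q (s • v + t • v') = (s ^ 2 + t ^ 2) * c₀ := by
    rw [h.Q_add, h.Q_smul, h.Q_smul, hv, hv']
    simp only [map_smul, LinearMap.smul_apply, smul_eq_mul, horth]
    ring
  have hvv : Matrix.toBilin' G v v = 2 * c₀ := by rw [h.self, hv]
  rw [h.refl_mulVec (s • v + t • v') y, h.refl_mulVec v, hQu, hv]
  simp only [map_add, map_smul, map_sub, LinearMap.add_apply, LinearMap.smul_apply, smul_eq_mul,
    hvv, horth]
  funext k
  simp only [Pi.add_apply, Pi.sub_apply, Pi.smul_apply, smul_eq_mul]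
  field_simp
  ring

universe v

variable {F : Type v} [Field F] {ι : Type} [Fintype ι] [DecidableEq ι]

/-- the product of two nonsquares in a finite field of odd characteristic is a square -/
theorem cneg_isSquare_mul [Fintype F] [DecidableEq F] (a b : F) (ha : ¬ IsSquare a)
    (hb : ¬ IsSquare b) : IsSquare (a * b) := by
  have ha0 : a ≠ 0 := fun h => ha (h ▸ IsSquare.zero)
  have hb0 : b ≠ 0 := fun h => hb (h ▸ IsSquare.zero)
  rw [← quadraticChar_one_iff_isSquare (mul_ne_zero ha0 hb0), map_mul,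
    quadraticChar_neg_one_iff_not_isSquare.mpr ha, quadraticChar_neg_one_iff_not_isSquare.mpr hb]
  norm_num

/-- OC-CNEG -/
theorem cent_sq_neg_covers [Fintype F] (h2 : (2 : F) ≠ 0) (Q : (ι → F) → F)
    (hQ : Cfsg.Geo.IsNondegenerateQuadraticForm Q) [Nonempty ι]
    (x : GL ι F) (hx : x ∈ Cfsg.isometryGroup F Q)
    (hxx : (x : Matrix ι ι F) * (x : Matrix ι ι F) = -1)
    (h : GL ι F) (hh : h ∈ Cfsg.isometryGroup F Q) (hdet : (h : Matrix ι ι F).det = 1) :
    ∃ c : GL ι F, c ∈ Cfsg.isometryGroup F Q ∧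
      (c : Matrix ι ι F) * (x : Matrix ι ι F) = (x : Matrix ι ι F) * (c : Matrix ι ι F) ∧
      c * h ∈ Cfsg.Geo.omegaGL Q := by
  classical
  obtain ⟨G, hG, hGdet⟩ := oddo_exists_gram h2 Q hQ
  obtain ⟨vs, hvs, hprod⟩ := hG.cartan_dieudonne hGdet ⟨h, hh⟩
  have hlen : Even vs.length := by
    apply hG.even_of_neg_one_pow
    rw [← hG.det_list vs hvs, ← hprod]
    exact hdet
  by_cases hsq : IsSquare (vs.map (fun v => Q v)).prod
  · refine ⟨1, Subgroup.one_mem _, by simp, ?_⟩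
    rw [one_mul]
    exact ⟨⟨h, hh⟩, hG.mem_omega_of_even_and_isSquare ⟨h, hh⟩ vs hvs hprod hlen hsq, rfl⟩
  · obtain ⟨v, hv, -⟩ := hG.exists_nonsingular_perp hGdet (k := 0) (fun i => i.elim0)
      (fun i => i.elim0) (fun i => i.elim0) Fintype.card_pos
    obtain ⟨α, hα⟩ := FiniteField.exists_nonsquare (ringChar_ne_two_of_two_ne_zero h2)
    obtain ⟨s, t, hst⟩ := Cfsg.Agent.S0756.exists_sq_add_sq h2 1 1 α one_ne_zero one_ne_zero
    have hst' : s ^ 2 + t ^ 2 = α := by rw [← hst]; ring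
    have hα0 : s ^ 2 + t ^ 2 ≠ 0 := by
      rw [hst']
      intro h0
      exact hα (h0 ▸ IsSquare.zero)
    have hX : ∀ u, Q ((x : Matrix ι ι F) *ᵥ u) = Q u := (mem_isometryGroup_iff' Q x).mp hx
    have hXX : ∀ w, (x : Matrix ι ι F) *ᵥ ((x : Matrix ι ι F) *ᵥ w) = -w := by
      intro w
      rw [Matrix.mulVec_mulVec, hxx, Matrix.neg_mulVec, Matrix.one_mulVec]
    have hB : ∀ u w, Matrix.toBilin' G ((x : Matrix ι ι F) *ᵥ u) ((x : Matrix ι ι F) *ᵥ w) =
        Matrix.toBilin' G u w := hG.isometry_bilin _ hX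
    have hQv' : Q ((x : Matrix ι ι F) *ᵥ v) = Q v := hX v
    have horth : Matrix.toBilin' G v ((x : Matrix ι ι F) *ᵥ v) = 0 := by
      have h1 := hB v ((x : Matrix ι ι F) *ᵥ v)
      rw [hXX, map_neg, hG.symmB] at h1
      have h3 : 2 * Matrix.toBilin' G v ((x : Matrix ι ι F) *ᵥ v) = 0 := by
        linear_combination -h1
      exact (mul_eq_zero.1 h3).resolve_left h2
    have hBv : ∀ w, Matrix.toBilin' G v ((x : Matrix ι ι F) *ᵥ w) =
        -Matrix.toBilin' G ((x : Matrix ι ι F) *ᵥ v) w := by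
      intro w
      have h1 := hB ((x : Matrix ι ι F) *ᵥ v) w
      rw [hXX, map_neg, LinearMap.neg_apply] at h1
      linear_combination -h1
    have hBv' : ∀ w, Matrix.toBilin' G ((x : Matrix ι ι F) *ᵥ v) ((x : Matrix ι ι F) *ᵥ w) =
        Matrix.toBilin' G v w := fun w => hB v w
    have hQu : Q (s • v + t • (x : Matrix ι ι F) *ᵥ v) = (s ^ 2 + t ^ 2) * Q v := by
      rw [hG.Q_add, hG.Q_smul, hG.Q_smul, hQv']
      simp only [map_smul, LinearMap.smul_apply, smul_eq_mul, horth]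
      ring
    have hu : Q (s • v + t • (x : Matrix ι ι F) *ᵥ v) ≠ 0 := by
      rw [hQu]
      exact mul_ne_zero hα0 hv
    have hcomm : (Cfsg.reflectionMatrix Q v *
          Cfsg.reflectionMatrix Q (s • v + t • (x : Matrix ι ι F) *ᵥ v)) * (x : Matrix ι ι F) =
        (x : Matrix ι ι F) * (Cfsg.reflectionMatrix Q v *
          Cfsg.reflectionMatrix Q (s • v + t • (x : Matrix ι ι F) *ᵥ v)) := by
      apply Matrix.mulVec_injective
      funext w
      simp only [← Matrix.mulVec_mulVec]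
      rw [cneg_rot hG v _ (Q v) hv rfl hQv' horth s t hα0,
        cneg_rot hG v _ (Q v) hv rfl hQv' horth s t hα0]
      rw [hBv, hBv', Matrix.mulVec_sub, Matrix.mulVec_add, Matrix.mulVec_smul, Matrix.mulVec_smul,
        hXX]
      funext k
      simp only [Pi.add_apply, Pi.sub_apply, Pi.smul_apply, smul_eq_mul, Pi.neg_apply]
      ring
    refine ⟨((hG.reflG v hv * hG.reflG _ hu : ↥(Cfsg.isometryGroup F Q)) : GL ι F),
      (hG.reflG v hv * hG.reflG _ hu).2, hcomm, ?_⟩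
    refine ⟨hG.reflG v hv * hG.reflG _ hu * ⟨h, hh⟩, ?_, rfl⟩
    apply hG.mem_omega_of_even_and_isSquare _
      (v :: (s • v + t • (x : Matrix ι ι F) *ᵥ v) :: vs)
    · intro w hw
      rcases List.mem_cons.1 hw with rfl | hw
      · exact hv
      rcases List.mem_cons.1 hw with rfl | hw
      · exact hu
      · exact hvs w hw
    · rw [map_mul, map_mul, hprod, List.map_cons, List.map_cons, List.prod_cons, List.prod_cons,
        mul_assoc]
      rfl
    · rw [List.length_cons, List.length_cons]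
      obtain ⟨k, hk⟩ := hlen
      exact ⟨k + 1, by omega⟩
    · rw [List.map_cons, List.map_cons, List.prod_cons, List.prod_cons, hQu, hst']
      obtain ⟨z, hz⟩ := cneg_isSquare_mul α _ hα hsq
      exact ⟨Q v * z, by linear_combination (Q v) ^ 2 * hz⟩

end Cfsg.Agent.Lib.Helper44.Oc
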