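import Cfsg.Agent.Lib.Helper3.S1936.Defs
import Cfsg.Agent.Lib.Helper3.S1936.CommCore

/-!
# S1936 hive (owner helper3): the end game (step (4) of helper3's tip), offered by helper9.

`H` proper with `N(A) ≤ H`, `P ≤ H`, the local structure (D) of `H` (exact shape of the conclusion of
leaf L16) and `C_A(N(A)) = 1` (leaf L08) force every `p'`-subgroup `B ≤ A` normalizing the Sylow
`p`-subgroup `P` to be trivial: for `b ∈ B`, `n ∈ N(A)`: `[b, n] ∈ R ⊓ A = 1` by leaf L21.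
(No need for `[P, B] = P`.)
-/

set_option autoImplicit false

universe u

namespace Cfsg.Agent.Lib.Helper3.S1936

open Subgroup

variable {G : Type u} [Group G] [Finite G] {p : ℕ} [Fact p.Prime]

theorem l9_endgame_eq_bot {A H B : Subgroup G} (P : Sylow p G)
    (hAc : ∀ x ∈ A, ∀ y ∈ A, x * y = y * x) (hAp : (Nat.card ↥A).Coprime p)
    (hAH : A ≤ H) (hNH : normalizer (A : Set G) ≤ H)
    (hF0 : ∃ k : ℕ, Nat.card ↥H = p ^ k * Nat.card ↥A)
    (hloc : ∃ R : Subgroup G, R ≤ H ∧ IsPGroup p ↥R ∧ H ≤ normalizer (R : Set G) ∧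
      H ≤ normalizer ((R ⊔ A : Subgroup G) : Set G) ∧
      (∀ T : Subgroup G, T ≤ H → IsPGroup p ↥T → A ≤ normalizer (T : Set G) → T ≤ R) ∧
      (∀ T : Subgroup G, T ≤ R ⊔ A → IsPGroup p ↥T → T ≤ R) ∧
      (∀ h ∈ H, ∃ r ∈ R, h * r ∈ normalizer (A : Set G)))
    (hK3 : ∀ a ∈ A, (∀ n ∈ normalizer (A : Set G), n * a = a * n) → a = 1)
    (hPH : (P : Subgroup G) ≤ H) (hBA : B ≤ A)
    (hBP : B ≤ normalizer ((P : Subgroup G) : Set G)) : B = ⊥ := by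
  obtain ⟨R, hRH, hRp, hHR, hHRA, -, hsyl, -⟩ := hloc
  -- `R ⊓ A = ⊥`
  have hRA : R ⊓ A = ⊥ := by
    obtain ⟨j, hj⟩ := (IsPGroup.iff_card (p := p)).1 hRp
    apply disjoint_iff.1
    apply Subgroup.disjoint_of_coprime_natCard
    rw [hj]
    exact Nat.Coprime.pow_left j hAp.symm
  rw [eq_bot_iff]
  intro b hb
  rw [mem_bot]
  apply hK3 b (hBA hb)
  intro n hn
  have h1 : b * n * b⁻¹ * n⁻¹ ∈ R :=
    commutator_mem_core P hAc hAp hAH hRH hRp hHR hHRA hsyl hF0 hPH (hBA hb) (hBP hb) n (hNH hn)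
  have h2 : b * n * b⁻¹ * n⁻¹ ∈ A := by
    have e : b * n * b⁻¹ * n⁻¹ = b * (n * b⁻¹ * n⁻¹) := by group
    rw [e]
    exact A.mul_mem (hBA hb) ((mem_normalizer_iff.1 hn b⁻¹).1 (A.inv_mem (hBA hb)))
  have h3 : b * n * b⁻¹ * n⁻¹ ∈ R ⊓ A := ⟨h1, h2⟩
  rw [hRA, mem_bot] at h3
  -- `b n b⁻¹ n⁻¹ = 1` gives `n b = b n`
  have h4 : b * n = n * b := by
    have e : b * n = (b * n * b⁻¹ * n⁻¹) * (n * b) := by group
    rw [e, h3, one_mul]
  exact h4.symm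

end Cfsg.Agent.Lib.Helper3.S1936
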