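import Cfsg.Agent.Lib.Helper66.S3.CL
import Cfsg.Agent.Lib.Helper66.S3.D1
import Cfsg.Agent.Lib.Helper66.S3.D4

/-! # S3 hive (owner helper66, S4305), leaf CA `configC_allfixed_sig`: the whole argument, with the
sibling leaves D5 D7 D8 D9 SL as hypotheses (written by helper9). -/

set_option autoImplicit false

namespace Cfsg.Agent.Lib.Helper66.S3

universe u

/-! ### facts about `A3` -/

theorem ca_A3_cases : ∀ a : A3, a = 1 ∨ a = sig ∨ a = sig * sig ∨ a = tau ∨ a = tau * sig ∨
    a = tau * (sig * sig) := by decide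

theorem ca_sig3 : sig * sig * sig = 1 := by decide

theorem ca_tau2 : tau * tau = 1 := by decide

theorem ca_sig_tau : sig * tau = tau * (sig * sig) := by decide

theorem ca_card_A3 : Nat.card A3 = 6 := by
  rw [Nat.card_eq_fintype_card, Fintype.card_perm, Fintype.card_fin]
  rfl

/-! ### a fixed-point-free involutory endomorphism inverts -/

theorem ca_inv_of_fpf {H : Type*} [Group H] [Finite H] (φ : H →* H) (hφ2 : ∀ x, φ (φ x) = x)
    (K : Subgroup H) (hK : ∀ k ∈ K, φ k ∈ K) (hfpf : ∀ k ∈ K, φ k = k → k = 1) :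
    ∀ k ∈ K, φ k = k⁻¹ := by
  let f : K → K := fun k => ⟨(k : H)⁻¹ * φ k, K.mul_mem (K.inv_mem k.2) (hK k k.2)⟩
  have hf : Function.Injective f := by
    intro n m h
    have h' : (n : H)⁻¹ * φ n = (m : H)⁻¹ * φ m := congrArg Subtype.val h
    have hg : (m : H) * (n : H)⁻¹ ∈ K := K.mul_mem m.2 (K.inv_mem n.2)
    have e1 : φ m = (m : H) * (n : H)⁻¹ * φ n := by
      rw [mul_assoc, h']; group
    have hfix : φ ((m : H) * (n : H)⁻¹) = (m : H) * (n : H)⁻¹ := by
      rw [map_mul, map_inv, e1]; group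
    have h1 := hfpf _ hg hfix
    have h2 : (m : H) = n := mul_inv_eq_one.mp h1
    exact Subtype.ext h2.symm
  have hs : Function.Surjective f := Finite.injective_iff_surjective.mp hf
  intro g hg
  obtain ⟨n, hn⟩ := hs ⟨g, hg⟩
  have hn' : (n : H)⁻¹ * φ n = g := congrArg Subtype.val hn
  rw [← hn', map_mul, map_inv, hφ2]
  group

/-! ### elementwise description of `mapA` -/

section

variable {H V : Type u} [Group H] [CommGroup V] [MulDistribMulAction A3 H]
  [MulDistribMulAction A3 V] [MulDistribMulAction H V] {p r : ℕ} {F : Subgroup H}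

theorem ca_mem_mapA (a : A3) (C : Subgroup H) (x : H) : x ∈ mapA a C ↔ ∃ c ∈ C, a • c = x := by
  constructor
  · rintro ⟨c, hc, rfl⟩
    exact ⟨c, hc, rfl⟩
  · rintro ⟨c, hc, rfl⟩
    exact ⟨c, hc, rfl⟩

theorem ca_mapA_mul (a b : A3) (C : Subgroup H) : mapA (a * b) C = mapA a (mapA b C) := by
  ext x
  rw [ca_mem_mapA, ca_mem_mapA]
  constructor
  · rintro ⟨c, hc, rfl⟩
    exact ⟨b • c, (ca_mem_mapA b C _).2 ⟨c, hc, rfl⟩, (mul_smul a b c).symm⟩
  · rintro ⟨y, hy, rfl⟩
    obtain ⟨c, hc, rfl⟩ := (ca_mem_mapA b C y).1 hy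
    exact ⟨c, hc, mul_smul a b c⟩

theorem ca_mapA_one (C : Subgroup H) : mapA (1 : A3) C = C := by
  ext x
  rw [ca_mem_mapA]
  constructor
  · rintro ⟨c, hc, rfl⟩
    rwa [one_smul]
  · intro hx
    exact ⟨x, hx, one_smul _ _⟩

theorem ca_mapA_sig2 (C : Subgroup H) (hs : mapA sig C = C) : mapA (sig * sig) C = C := by
  rw [ca_mapA_mul, hs, hs]

/-- every `a` maps a `σ`-stable `C` to `C` or to `τ C`, according to its parity -/
theorem ca_mapA_cases (C : Subgroup H) (hs : mapA sig C = C) (a : A3) :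
    ((a = 1 ∨ a = sig ∨ a = sig * sig) ∧ mapA a C = C) ∨
      ((a = tau ∨ a = tau * sig ∨ a = tau * (sig * sig)) ∧ mapA a C = mapA tau C) := by
  rcases ca_A3_cases a with h | h | h | h | h | h
  · exact Or.inl ⟨Or.inl h, by rw [h, ca_mapA_one]⟩
  · exact Or.inl ⟨Or.inr (Or.inl h), by rw [h, hs]⟩
  · exact Or.inl ⟨Or.inr (Or.inr h), by rw [h, ca_mapA_sig2 C hs]⟩
  · exact Or.inr ⟨Or.inl h, by rw [h]⟩
  · exact Or.inr ⟨Or.inr (Or.inl h), by rw [h, ca_mapA_mul, hs]⟩
  · exact Or.inr ⟨Or.inr (Or.inr h), by rw [h, ca_mapA_mul, ca_mapA_sig2 C hs]⟩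

/-- fixed points of `c` on `V`, as a subgroup -/
def ca_fixV (c : H) : Subgroup V where
  carrier := {v | c • v = v}
  one_mem' := smul_one c
  mul_mem' := by
    intro x y hx hy
    show c • (x * y) = x * y
    rw [smul_mul', hx, hy]
  inv_mem' := by
    intro x hx
    show c • x⁻¹ = x⁻¹
    rw [smul_inv', hx]

/-- fixed points of `σ` on `H`, as a subgroup -/
def ca_fixH : Subgroup H where
  carrier := {h | sig • h = h}
  one_mem' := smul_one sig
  mul_mem' := by
    intro x y hx hy
    show sig • (x * y) = x * y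
    rw [smul_mul', hx, hy]
  inv_mem' := by
    intro x hx
    show sig • x⁻¹ = x⁻¹
    rw [smul_inv', hx]

theorem ca_comp_ne_bot_mapA (cfg : Config H V p r F) (C : Subgroup H) (a : A3)
    (hC : comp (V := V) F C ≠ ⊥) : comp (V := V) F (mapA a C) ≠ ⊥ := by
  obtain ⟨⟨v, hv⟩, hv1⟩ := (Subgroup.ne_bot_iff_exists_ne_one).1 hC
  have hv1' : v ≠ 1 := fun h => hv1 (Subtype.ext h)
  intro hbot
  have h1 : a • v ∈ comp (V := V) F (mapA a C) := comp_smulA cfg C a v hv
  rw [hbot, Subgroup.mem_bot] at h1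
  apply hv1'
  calc v = a⁻¹ • (a • v) := by rw [← mul_smul, inv_mul_cancel, one_smul]
    _ = 1 := by rw [h1, smul_one]

omit [MulDistribMulAction A3 H] in
theorem ca_comm_of_comm_one {x f : H} (h : x * f * x⁻¹ * f⁻¹ = 1) : x * f = f * x := by
  have h1 : x * f * x⁻¹ = f := mul_inv_eq_one.mp h
  exact mul_inv_eq_iff_eq_mul.mp h1

/-- CA core: configuration C, all components fixed by `H` and by `σ` (`|Ω| ≤ 2`). -/
theorem ca_core (cfg : Config H V p r F)
    (hD5 : ⨆ C : Subgroup H, comp (V := V) F C = ⊤)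
    (hD7 : ∀ C C' : Subgroup H, comp (V := V) F C ≠ ⊥ → comp (V := V) F C' ≠ ⊥ →
      ∃ (a : A3) (h : H), C' = mapA a (mapH h C))
    (hD8 : ∀ C : Subgroup H, comp (V := V) F C ≠ ⊥ → ∀ (h : H) (a : A3), mapH h C = C →
      mapA a C = C → ∀ f ∈ F, (h⁻¹ * a • h) * f * (h⁻¹ * a • h)⁻¹ * f⁻¹ ∈ C)
    (hD9 : ∀ C : Subgroup H, comp (V := V) F C ≠ ⊥ → ∃ a : A3, a ≠ 1 ∧ mapA a C = C ∧
      ∀ v ∈ comp (V := V) F C, (∀ b : A3, mapA b C = C → b • v = v) → v = 1)
    (hSL : ∀ C : Subgroup H, comp (V := V) F C ≠ ⊥ → mapA sig C = C →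
      (∀ v ∈ comp (V := V) F C, sig • v = v → v = 1) → ∀ f ∈ F, f⁻¹ * sig • f ∈ C)
    (hself : ∀ h : H, (∀ f ∈ F, h * f = f * h) → h ∈ F)
    (hfix : ∀ (h : H) (C : Subgroup H), comp (V := V) F C ≠ ⊥ → mapH h C = C)
    (hsig : ∀ C : Subgroup H, comp (V := V) F C ≠ ⊥ → mapA sig C = C) : False := by
  classical
  have : Finite H := cfg.hyp.finH
  have : Finite V := cfg.hyp.finV
  -- `V` is nontrivial
  have hVnt : ∃ v : V, v ≠ 1 := by
    by_contra hcon
    push Not at hcon
    obtain ⟨x, y, hxy⟩ := cfg.nonab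
    have h1 : ∀ h : H, h = 1 := fun h => cfg.faithful h (fun v => by rw [hcon v, smul_one])
    apply hxy
    rw [h1 x, h1 y]
  -- some component is nontrivial
  have hex : ∃ C : Subgroup H, comp (V := V) F C ≠ ⊥ := by
    by_contra hcon
    push Not at hcon
    have h1 : (⨆ C : Subgroup H, comp (V := V) F C) = ⊥ := by
      rw [eq_bot_iff]
      apply iSup_le
      intro C
      rw [hcon C]
    rw [hD5] at h1
    obtain ⟨v, hv⟩ := hVnt
    have : v ∈ (⊤ : Subgroup V) := Subgroup.mem_top v
    rw [h1, Subgroup.mem_bot] at this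
    exact hv this
  obtain ⟨C, hC0⟩ := hex
  have hsC : mapA sig C = C := hsig C hC0
  have hcopF : (Nat.card F).Coprime 6 :=
    Nat.Coprime.coprime_dvd_left (Subgroup.card_subgroup_dvd_card F) cfg.hyp.copH
  by_cases ht : mapA tau C = C
  · -- Case 1: `Ω = {C}`
    have hall : ∀ a : A3, mapA a C = C := by
      intro a
      rcases ca_mapA_cases C hsC a with ⟨-, h⟩ | ⟨-, h⟩
      · exact h
      · rw [h, ht]
    have honly : ∀ C' : Subgroup H, comp (V := V) F C' ≠ ⊥ → C' = C := by
      intro C' hC'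
      obtain ⟨a, h, rfl⟩ := hD7 C C' hC0 hC'
      rw [hfix h C hC0, hall a]
    have htop : comp (V := V) F C = ⊤ := by
      rw [eq_top_iff, ← hD5]
      apply iSup_le
      intro C'
      by_cases hC' : comp (V := V) F C' = ⊥
      · rw [hC']; exact bot_le
      · rw [honly C' hC']
    have hCbot : ∀ c ∈ C, c = 1 := by
      intro c hc
      apply cfg.faithful c
      intro v
      exact comp_triv C c hc v (by rw [htop]; exact Subgroup.mem_top v)
    have hF : ∀ (h : H) (a : A3), h⁻¹ * a • h ∈ F := by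
      intro h a
      apply hself
      intro f hf
      apply ca_comm_of_comm_one
      exact hCbot _ (hD8 C hC0 h a (hfix h C hC0) (hall a) f hf)
    have hFtop : F = ⊤ := by
      rw [eq_top_iff]
      intro h _
      have hcop : (Nat.card F).Coprime (Nat.card A3) := by rw [ca_card_A3]; exact hcopF
      obtain ⟨n, hn, hfixn⟩ := coprime_lift (B := A3) F cfg.Fcomm hcop cfg.FA h (hF h)
      have h1 : h * n = 1 := cfg.hyp.fpfH (h * n) hfixn
      have h2 : h = n⁻¹ := eq_inv_of_mul_eq_one_left h1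
      rw [h2]
      exact F.inv_mem hn
    exact cfg.Fne hFtop
  · -- Case 2: `Ω = {C, τ C}`
    have hCt0 : comp (V := V) F (mapA tau C) ≠ ⊥ := ca_comp_ne_bot_mapA cfg C tau hC0
    have hsCt : mapA sig (mapA tau C) = mapA tau C := hsig _ hCt0
    have htt : mapA tau (mapA tau C) = C := by
      rw [← ca_mapA_mul, ca_tau2, ca_mapA_one]
    have htwo : ∀ C' : Subgroup H, comp (V := V) F C' ≠ ⊥ → C' = C ∨ C' = mapA tau C := by
      intro C' hC'
      obtain ⟨a, h, rfl⟩ := hD7 C C' hC0 hC'
      rw [hfix h C hC0]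
      rcases ca_mapA_cases C hsC a with ⟨-, h⟩ | ⟨-, h⟩
      · exact Or.inl h
      · exact Or.inr h
    -- stabilizers are `⟨σ⟩`
    have hst1 : ∀ b : A3, mapA b C = C → b = 1 ∨ b = sig ∨ b = sig * sig := by
      intro b hb
      rcases ca_mapA_cases C hsC b with ⟨h, -⟩ | ⟨-, h⟩
      · exact h
      · exact absurd (h ▸ hb) ht
    have hst2 : ∀ b : A3, mapA b (mapA tau C) = mapA tau C → b = 1 ∨ b = sig ∨ b = sig * sig := by
      intro b hb
      rcases ca_mapA_cases (mapA tau C) hsCt b with ⟨h, -⟩ | ⟨-, h⟩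
      · exact h
      · exfalso
        rw [htt] at h
        exact ht (h ▸ hb).symm
    -- `σ` is fixed point free on both components
    have hfpfW : ∀ C' : Subgroup H, comp (V := V) F C' ≠ ⊥ →
        (∀ b : A3, mapA b C' = C' → b = 1 ∨ b = sig ∨ b = sig * sig) →
        ∀ v ∈ comp (V := V) F C', sig • v = v → v = 1 := by
      intro C' hC' hst v hv hsv
      obtain ⟨a, -, -, hD9'⟩ := hD9 C' hC'
      apply hD9' v hv
      intro b hb
      rcases hst b hb with h | h | h
      · rw [h, one_smul]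
      · rw [h, hsv]
      · rw [h, mul_smul, hsv, hsv]
    have hSL1 := hSL C hC0 hsC (hfpfW C hC0 hst1)
    have hSL2 := hSL (mapA tau C) hCt0 hsCt (hfpfW _ hCt0 hst2)
    -- `C ⊓ τ C = ⊥`
    have hint : ∀ c : H, c ∈ C → c ∈ mapA tau C → c = 1 := by
      intro c hc hct
      apply cfg.faithful c
      intro v
      have hle : (⨆ C' : Subgroup H, comp (V := V) F C') ≤ ca_fixV (V := V) c := by
        apply iSup_le
        intro C'
        by_cases hC' : comp (V := V) F C' = ⊥
        · rw [hC']; exact bot_le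
        · rcases htwo C' hC' with h | h
          · rw [h]; intro w hw; exact comp_triv C c hc w hw
          · rw [h]; intro w hw; exact comp_triv (mapA tau C) c hct w hw
      rw [hD5] at hle
      exact hle (Subgroup.mem_top v)
    -- `σ` centralizes `F`
    have hsF : ∀ f ∈ F, sig • f = f := by
      intro f hf
      have h1 := hint _ (hSL1 f hf) (hSL2 f hf)
      exact (inv_mul_eq_one.mp h1).symm
    -- `C_H(σ)` is inverted by `τ`, hence abelian, hence equal to `F`
    have hKinv : ∀ k ∈ (ca_fixH : Subgroup H), tau • k = k⁻¹ := by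
      apply ca_inv_of_fpf (MulDistribMulAction.toMonoidHom H tau)
      · intro x
        show tau • tau • x = x
        rw [← mul_smul, ca_tau2, one_smul]
      · intro k hk
        show sig • tau • k = tau • k
        have hk' : sig • k = k := hk
        rw [← mul_smul, ca_sig_tau, mul_smul, mul_smul, hk', hk']
      · intro k hk htk
        have hk' : sig • k = k := hk
        have htk' : tau • k = k := htk
        apply cfg.hyp.fpfH k
        intro a
        rcases ca_A3_cases a with h | h | h | h | h | h <;> rw [h]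
        · rw [one_smul]
        · exact hk'
        · rw [mul_smul, hk', hk']
        · exact htk'
        · rw [mul_smul, hk', htk']
        · rw [mul_smul, mul_smul, hk', hk', htk']
    have hKab : ∀ a ∈ (ca_fixH : Subgroup H), ∀ b ∈ (ca_fixH : Subgroup H), a * b = b * a := by
      intro a ha b hb
      have h1 := hKinv (a * b) ((ca_fixH : Subgroup H).mul_mem ha hb)
      rw [smul_mul', hKinv a ha, hKinv b hb] at h1
      have h5 : (a⁻¹ * b⁻¹)⁻¹ = ((a * b)⁻¹)⁻¹ := by rw [h1]
      have h6 : (a⁻¹ * b⁻¹)⁻¹ = b * a := by group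
      rw [h6, inv_inv] at h5
      exact h5.symm
    have hKF : ∀ k : H, sig • k = k → k ∈ F := by
      intro k hk
      apply hself
      intro f hf
      exact hKab k hk f (hsF f hf)
    -- `h⁻¹ σ(h) ∈ F`
    have hF : ∀ h : H, h⁻¹ * sig • h ∈ F := by
      intro h
      apply hself
      intro f hf
      apply ca_comm_of_comm_one
      apply hint
      · exact hD8 C hC0 h sig (hfix h C hC0) hsC f hf
      · exact hD8 (mapA tau C) hCt0 h sig (hfix h _ hCt0) hsCt f hf
    have hFtop : F = ⊤ := by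
      rw [eq_top_iff]
      intro h _
      apply hKF
      obtain ⟨v, hv⟩ : ∃ v, v = h⁻¹ * sig • h := ⟨_, rfl⟩
      have hvF : v ∈ F := hv ▸ hF h
      have hsv : sig • v = v := hsF v hvF
      have e1 : sig • h = h * v := by rw [hv]; group
      have e2 : sig • sig • h = h * v * v := by rw [e1, smul_mul', e1, hsv]
      have e3 : sig • sig • sig • h = h * v * v * v := by
        rw [e2, smul_mul', smul_mul', e1, hsv]
      have e4 : sig • sig • sig • h = h := by
        rw [← mul_smul, ← mul_smul, ca_sig3, one_smul]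
      have hv3 : v ^ 3 = 1 := by
        have : h * v * v * v = h := e3.symm.trans e4
        have h2 : h * (v * v * v) = h * 1 := by
          rw [mul_one]
          calc h * (v * v * v) = h * v * v * v := by group
            _ = h := this
        have h3 := mul_left_cancel h2
        rw [pow_succ, pow_two]; exact h3
      have hord : orderOf v ∣ 3 := orderOf_dvd_of_pow_eq_one hv3
      have hord2 : orderOf v ∣ Nat.card H := orderOf_dvd_natCard v
      have hc36 : (Nat.card H).Coprime 3 :=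
        Nat.Coprime.coprime_dvd_right (by norm_num : 3 ∣ 6) cfg.hyp.copH
      have h1 : orderOf v = 1 := Nat.eq_one_of_dvd_coprimes hc36 hord2 hord
      have hv1 : v = 1 := orderOf_eq_one_iff.mp h1
      rw [e1, hv1, mul_one]
    exact cfg.Fne hFtop

end

end Cfsg.Agent.Lib.Helper66.S3
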