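import Cfsg.Agent.Lib.Helper76.SlDefs

set_option autoImplicit false

/-! Definitions for the K3 sub-hive (owner helper9) of the `Sl` hive (S2332, owner helper76).
`G = Gm F (m+1) = SL_{m+3}(F)`, indices `Fin (m+3)`: `0`, the middle indices `k3mid m j = j+1` (`j : Fin (m+1)`),
and `Fin.last (m+2)`.  `h(a,b,z) = [[1, aᵀ, z],[0, I, b],[0, 0, 1]]`. -/

namespace Cfsg.Agent.Lib.Helper76.Sl

open Matrix
open scoped ComplexConjugate

variable (F : Type*) [Field F] [Fintype F] [DecidableEq F]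

/-- the middle index `j + 1` of `Fin (m + 3)` -/
def k3mid (m : ℕ) (j : Fin (m + 1)) : Fin (m + 3) := Fin.succ (Fin.castSucc j)

/-- `H = {h(a,b,z)}`: entries off row `0` and off the last column are those of the identity, and the two
corner diagonal entries are `1`.  Coordinates: `a j = g 0 (k3mid m j)`, `b j = g (k3mid m j) last`,
`z = g 0 last`.  A group of order `q^(2m+3)`. -/
def K3H (m : ℕ) : Set (Gm F (m + 1)) :=
  {g | (∀ i j : Fin (m + 3), i ≠ 0 → j ≠ Fin.last (m + 2) →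
        g.1 i j = (1 : Matrix (Fin (m + 3)) (Fin (m + 3)) F) i j) ∧
      g.1 0 0 = 1 ∧ g.1 (Fin.last (m + 2)) (Fin.last (m + 2)) = 1}

/-- `Q' = {h(0,b,z)}`: all columns except the last one are columns of the identity (all transvections
with axis `x_last = 0`).  Elementary abelian of order `q^(m+2)`. -/
def K3Qp (m : ℕ) : Set (Gm F (m + 1)) :=
  {g | ∀ i j : Fin (m + 3), j ≠ Fin.last (m + 2) →
        g.1 i j = (1 : Matrix (Fin (m + 3)) (Fin (m + 3)) F) i j}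

open Classical in
/-- `μ(α,β) = |H|⁻¹ ∑_{g ∈ H} χ(g) conj e(α·a(g) + β·b(g))`: the multiplicity of the linear character
`h(a,b,z) ↦ e(α·a + β·b)` of `H` in `χ|_H`. -/
noncomputable def k3mu (m : ℕ) (e : AddChar F ℂ) (χ : Gm F (m + 1) → ℂ) (α β : Fin (m + 1) → F) : ℂ :=
  ((Fintype.card F : ℂ) ^ (2 * m + 3))⁻¹ *
    ∑ g ∈ Finset.univ.filter (fun g : Gm F (m + 1) => g ∈ K3H F m),
      χ g * conj (e (∑ j, (α j * g.1 0 (k3mid m j) + β j * g.1 (k3mid m j) (Fin.last (m + 2)))))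

open Classical in
/-- `|Q'|⁻¹ ∑_{g ∈ Q'} χ g` -/
noncomputable def k3avgQp (m : ℕ) (χ : Gm F (m + 1) → ℂ) : ℂ :=
  ((Fintype.card F : ℂ) ^ (m + 2))⁻¹ *
    ∑ g ∈ Finset.univ.filter (fun g : Gm F (m + 1) => g ∈ K3Qp F m), χ g

open Classical in
/-- `|H|⁻¹ ∑_{g ∈ H} χ g` -/
noncomputable def k3avgH (m : ℕ) (χ : Gm F (m + 1) → ℂ) : ℂ :=
  ((Fintype.card F : ℂ) ^ (2 * m + 3))⁻¹ *
    ∑ g ∈ Finset.univ.filter (fun g : Gm F (m + 1) => g ∈ K3H F m), χ g

end Cfsg.Agent.Lib.Helper76.Sl
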