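import Cfsg.Agent.Lib.Helper6.Uni.Defs
import Cfsg.Agent.Lib.Helper19.UniA2

/-! # S2316 hive (helper70), leaf SPU-CNT (backup copy, renamed `cnt_card_le_of_stab_h9`; the hive uses helper72's file).

`B n B` is the preimage of the `U`-orbit of `n B` in `L ⧸ B` (`Uni.a2_C_eq`), so
`|B n B| = |B| |U : Stab_U(nB)|`, and `Stab_U(nB) = {g ∈ U | n⁻¹ g n ∈ B}` embeds in `V`. -/

set_option autoImplicit false

namespace Cfsg.Agent.Lib.Helper70.SpU

open Cfsg Cfsg.Agent.Lib.Helper6 Cfsg.Agent.Lib.Helper6.Uni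

universe u

/-- SPU-CNT (duplicate of `Cfsg.Agent.Lib.Helper72.SpUCNT`, which is the one the hive uses; renamed to avoid a
clash). -/
theorem cnt_card_le_of_stab_h9 {L : Type u} [Group L] [Finite L] (Q : Cfsg.BNPair L) (U V : Subgroup L)
    (hUB : U ≤ Q.B) (hUn : Q.B ≤ Subgroup.normalizer (U : Set L)) (hUH : U ⊔ (Q.B ⊓ Q.N) = Q.B)
    (n : L) (hn : n ∈ Q.N) (h : ∀ g ∈ U, n⁻¹ * g * n ∈ Q.B → g ∈ V) :
    Nat.card U * Nat.card Q.B ≤ Nat.card V * Nat.card (C Q n) := by
  classical
  have h1 : Nat.card (C Q n) =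
      Nat.card (MulAction.orbit U (QuotientGroup.mk n : L ⧸ Q.B)) * Nat.card Q.B := by
    rw [a2_C_eq Q U hUB hUn hUH n hn,
      Nat.card_congr (QuotientGroup.preimageMkEquivSubgroupProdSet Q.B _), Nat.card_prod, mul_comm]
  have h2 : Nat.card (MulAction.orbit U (QuotientGroup.mk n : L ⧸ Q.B)) *
      Nat.card (MulAction.stabilizer U (QuotientGroup.mk n : L ⧸ Q.B)) = Nat.card U := by
    rw [← Nat.card_prod]
    exact Nat.card_congr (MulAction.orbitProdStabilizerEquivGroup U _)
  have h3 : Nat.card (MulAction.stabilizer U (QuotientGroup.mk n : L ⧸ Q.B)) ≤ Nat.card V := by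
    have hmem : ∀ s : MulAction.stabilizer U (QuotientGroup.mk n : L ⧸ Q.B),
        ((s : U) : L) ∈ V := by
      intro s
      apply h _ (s : U).2
      have hs := s.2
      rw [MulAction.mem_stabilizer_iff] at hs
      change ((s : U) : L) • (QuotientGroup.mk n : L ⧸ Q.B) = _ at hs
      rw [MulAction.Quotient.smul_mk, smul_eq_mul, QuotientGroup.eq] at hs
      have h4 := Q.B.inv_mem hs
      have h5 : ((((s : U) : L) * n)⁻¹ * n)⁻¹ = n⁻¹ * ((s : U) : L) * n := by group
      rwa [h5] at h4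
    refine Nat.card_le_card_of_injective (fun s => (⟨((s : U) : L), hmem s⟩ : V)) ?_
    intro s t hst
    have h6 : ((s : U) : L) = ((t : U) : L) := by
      have := congrArg (fun v : V => (v : L)) hst
      exact this
    exact Subtype.ext (Subtype.ext h6)
  calc Nat.card U * Nat.card Q.B
      = Nat.card (MulAction.orbit U (QuotientGroup.mk n : L ⧸ Q.B)) *
          Nat.card (MulAction.stabilizer U (QuotientGroup.mk n : L ⧸ Q.B)) * Nat.card Q.B := by
        rw [h2]
    _ ≤ Nat.card (MulAction.orbit U (QuotientGroup.mk n : L ⧸ Q.B)) * Nat.card V *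
          Nat.card Q.B :=
        Nat.mul_le_mul_right _ (Nat.mul_le_mul_left _ h3)
    _ = Nat.card V * Nat.card (C Q n) := by rw [h1]; ring

end Cfsg.Agent.Lib.Helper70.SpU
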