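import Cfsg.Agent.Lib.Helper9.SpUSYLcore
import Cfsg.Agent.Lib.Helper69.SpUCARDcore
import Cfsg.Agent.Lib.Helper97.SpUUT
import Cfsg.Agent.Lib.Helper27.SpUNORM
import Cfsg.Agent.Lib.Helper13.SpUTRI

/-! # S2316 hive (helper70), leaf SPU-SYL : `Usp_sylow`. -/

set_option autoImplicit false

namespace Cfsg.Agent.Lib.Helper70.SpU

open Matrix Cfsg Cfsg.Agent.Lib.Helper13 Cfsg.Agent.Lib.Helper41.SpBN

universe u

variable {F : Type u} [Field F] {m : ℕ}

/-- SPU-SYL. `U` is a `p`-group of `p'`-index. -/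
theorem Usp_sylow [Fintype F] (p : ℕ) [Fact p.Prime] [CharP F p] :
    IsPGroup p (Usp F m) ∧ ¬ p ∣ (Usp F m).index :=
  syl_core p (card_core Usp_sup_T Usp_inf_T (by
    rw [Bsp_eq_Pl]
    exact Pl_le_normalizer _))

end Cfsg.Agent.Lib.Helper70.SpU
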