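import Mathlib
import Cfsg.Agent.Lib.Helper20.SqCore
import Cfsg.Agent.Lib.Helper45.SpAutSylow2
import Cfsg.Agent.Lib.Helper9.UniInv

/-!
# Sq hive (helper20, S4625), leaf SQ-PSP `sq_psp` (helper9)

`U = US m F = DS ⊔ NS` (helper45): `DS` = image of the unitriangular group under the Levi embedding
`A ↦ diag(A, A⁻ᵀ)`, `NS` = pointwise stabilizer of the standard Lagrangian.  `U` is a 2-group of odd index
(order formula of helper5), `NS` has exponent 2 and `DS` is generated by involutions (column peeling,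
`Helper9.UniInv`).
-/

set_option autoImplicit false
set_option linter.unusedVariables false

namespace Cfsg.Agent.Lib.Helper20.Sq

open Matrix
open Cfsg.Agent.Lib.Helper45.SpAut
open Cfsg.Agent.Lib.Helper5.AutPSLn (Uni)

variable {F : Type} [Field F] [Fintype F] {m : ℕ}

theorem psp_card_US_ge : Fintype.card F ^ (m ^ 2) ≤ Nat.card (US m F) := by
  classical
  have hinj : Function.Injective
      (fun f : Fin m × Fin m → F => (⟨iota f, iota_mem f⟩ : US m F)) := by
    intro f f' h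
    exact iota_injective (congrArg Subtype.val h)
  have h1 := Nat.card_le_card_of_injective _ hinj
  rw [Nat.card_eq_fintype_card, Fintype.card_fun, Fintype.card_prod, Fintype.card_fin] at h1
  rwa [sq]

theorem psp_US_index [CharP F 2] : ¬ 2 ∣ (US m F).index := by
  classical
  have : Fact (Nat.Prime 2) := ⟨Nat.prime_two⟩
  intro hdvd
  obtain ⟨k, -, hk⟩ := FiniteField.card F 2
  obtain ⟨a, ha⟩ := (US_isPGroup (m := m) (F := F) 2).exists_card_eq
  have h1 := psp_card_US_ge (m := m) (F := F)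
  rw [ha, hk, ← pow_mul] at h1
  have h2 : (k : ℕ) * m ^ 2 ≤ a := (Nat.pow_le_pow_iff_right (by norm_num)).1 h1
  have h3 := Subgroup.card_mul_index (US m F)
  have h5 := Cfsg.Agent.Lib.Helper5.card_symplecticGroup_fin (F := F) m
  obtain ⟨t, ht⟩ := hdvd
  have hSp : 2 ^ ((k : ℕ) * m ^ 2) * ∏ i ∈ Finset.range m, (Fintype.card F ^ (2 * (i + 1)) - 1) =
      2 ^ a * (2 * t) := by
    rw [pow_mul, ← hk, ← h5, ← h3, ha, ht]
  have h7 : 2 ^ ((k : ℕ) * m ^ 2) * 2 ∣
      2 ^ ((k : ℕ) * m ^ 2) * ∏ i ∈ Finset.range m, (Fintype.card F ^ (2 * (i + 1)) - 1) := by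
    rw [hSp]
    obtain ⟨d, rfl⟩ := Nat.exists_eq_add_of_le h2
    refine ⟨2 ^ d * t, ?_⟩
    rw [pow_add]
    ring
  have h9 : 2 ∣ ∏ i ∈ Finset.range m, (Fintype.card F ^ (2 * (i + 1)) - 1) :=
    Nat.dvd_of_mul_dvd_mul_left (pow_pos (by norm_num) _) h7
  obtain ⟨i, -, hi⟩ := (Prime.dvd_finsetProd_iff Nat.prime_two.prime _).1 h9
  have h10 : 2 ∣ Fintype.card F ^ (2 * (i + 1)) := by
    rw [hk]
    exact dvd_pow (dvd_pow_self 2 k.ne_zero) (by omega)
  have h11 : 1 ≤ Fintype.card F ^ (2 * (i + 1)) := Nat.one_le_pow _ _ Fintype.card_pos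
  have h12 : 2 ∣ 1 := by
    have := Nat.dvd_sub h10 hi
    rwa [Nat.sub_sub_self h11] at this
  exact absurd h12 (by norm_num)

omit [Fintype F] in
theorem psp_NS_sq [CharP F 2] {g : SpG m F} (hg : g ∈ NS m F) : g ^ 2 = 1 := by
  apply sp_ext
  intro x
  show ((g ^ 2 : SpG m F)).1 *ᵥ x = (1 : SpG m F).1 *ᵥ x
  rw [NS_pow_mulVec hg]
  have h2 : ((2 : ℕ) : F) = 0 := CharP.cast_eq_zero F 2
  rw [h2, zero_smul, add_zero, one_mulVec']

theorem psp_DS_closure [CharP F 2] :
    Subgroup.closure ((dHom : _ →* SpG m F) '' Cfsg.Agent.Lib.Helper9.UniInv.invSet m F) = DS m F := by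
  unfold DS
  rw [← Cfsg.Agent.Lib.Helper9.UniInv.closure_inv_eq_uni, MonoidHom.map_closure]

/-- SQ-PSP -/
theorem sq_psp (F : Type) [Field F] [Fintype F] [CharP F 2] (m : ℕ) (hm : 2 ≤ m) :
    SqD (Matrix.symplecticGroup (Fin m) F) := by
  have : Fact (Nat.Prime 2) := ⟨Nat.prime_two⟩
  refine sqD_of_isPGroup (US m F) (US_isPGroup 2) psp_US_index ?_
  apply sq_of_closure_involutions (US m F)
    (((dHom : _ →* SpG m F) '' Cfsg.Agent.Lib.Helper9.UniInv.invSet m F) ∪ (NS m F : Set (SpG m F)))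
  · rw [Subgroup.closure_union, psp_DS_closure, Subgroup.closure_eq]
    rfl
  · rintro s (⟨x, hx, rfl⟩ | hs)
    · rw [← map_pow, sq, hx.2, map_one]
    · exact psp_NS_sq hs

end Cfsg.Agent.Lib.Helper20.Sq
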