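import Cfsg.Agent.Lib.Helper9.Stn_NPKILLcore
import Cfsg.Agent.Lib.Helper44.Stn_NPMON
import Cfsg.Agent.Lib.Helper70.Stn_NPDIAGH

/-! # Stn hive (S2401, helper41), sub-hive NPERM (helper64), leaf NP-KILL `ne_zero_of_ww`. -/

set_option autoImplicit false

namespace Cfsg.Agent.Lib.Helper41.Stn

open Matrix

variable {K : Type*} [Field K] {n : ℕ}

theorem ne_zero_of_ww (φ : St K n →* SpecialLinearGroup (Fin n) K) (hφ : IsStd φ) {S : Finset (Fin n)}
    {a m : Fin n} (ha : a ∉ S) (hm : m ∈ S) {h ν' : St K n} (hh : h ∈ HH K n) (hν' : ν' ∈ NS K S) :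
    (φ (h * ww a m 1 * ν')).1 m a ≠ 0 :=
  npkill_core φ hφ ha hm (NS_monomial φ hφ hν') (std_HH_diag φ hφ hh)

end Cfsg.Agent.Lib.Helper41.Stn
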