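import Mathlib
import Cfsg.Agent.Lib.Helper9.Supersolvable

set_option autoImplicit false

namespace Cfsg.Agent.Lib.Helper9

open scoped commutatorElement

/-- If `zpowers z` is normal, conjugation by `a * b` and by `b * a` agree on `z`. -/
theorem conj_mul_comm_of_zpowers_normal {Q : Type*} [Group Q] (z : Q)
    (hZ : (Subgroup.zpowers z).Normal) (a b : Q) :
    (a * b) * z * (a * b)⁻¹ = (b * a) * z * (b * a)⁻¹ := by
  obtain ⟨i, hi⟩ := Subgroup.mem_zpowers_iff.mp (hZ.conj_mem z (Subgroup.mem_zpowers z) a)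
  obtain ⟨j, hj⟩ := Subgroup.mem_zpowers_iff.mp (hZ.conj_mem z (Subgroup.mem_zpowers z) b)
  have h1 : (a * b) * z * (a * b)⁻¹ = (z ^ i) ^ j := by
    calc (a * b) * z * (a * b)⁻¹ = a * (b * z * b⁻¹) * a⁻¹ := by group
      _ = a * z ^ j * a⁻¹ := by rw [hj]
      _ = (a * z * a⁻¹) ^ j := by rw [conj_zpow]
      _ = (z ^ i) ^ j := by rw [hi]
  have h2 : (b * a) * z * (b * a)⁻¹ = (z ^ j) ^ i := by
    calc (b * a) * z * (b * a)⁻¹ = b * (a * z * a⁻¹) * b⁻¹ := by group
      _ = b * z ^ i * b⁻¹ := by rw [hi]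
      _ = (b * z * b⁻¹) ^ i := by rw [conj_zpow]
      _ = (z ^ j) ^ i := by rw [hj]
  rw [h1, h2, ← zpow_mul, ← zpow_mul, mul_comm]

theorem commutatorElement_comm_of_zpowers_normal {Q : Type*} [Group Q] (z : Q)
    (hZ : (Subgroup.zpowers z).Normal) (a b : Q) : ⁅a, b⁆ * z = z * ⁅a, b⁆ := by
  have hw := hZ.conj_mem z (Subgroup.mem_zpowers z) (b * a)⁻¹
  obtain ⟨k, hk⟩ := Subgroup.mem_zpowers_iff.mp hw
  have h1 : (a * b) * (z ^ k) * (a * b)⁻¹ = (b * a) * (z ^ k) * (b * a)⁻¹ := by
    rw [← conj_zpow, ← conj_zpow, conj_mul_comm_of_zpowers_normal z hZ a b]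
  rw [hk] at h1
  have h2 : (b * a) * ((b * a)⁻¹ * z * (b * a)⁻¹⁻¹) * (b * a)⁻¹ = z := by group
  rw [h2] at h1
  have h3 : ⁅a, b⁆ * z * ⁅a, b⁆⁻¹ = (a * b) * ((b * a)⁻¹ * z * (b * a)⁻¹⁻¹) * (a * b)⁻¹ := by
    rw [commutatorElement_def]; group
  rw [h1] at h3
  calc ⁅a, b⁆ * z = (⁅a, b⁆ * z * ⁅a, b⁆⁻¹) * ⁅a, b⁆ := by group
    _ = z * ⁅a, b⁆ := by rw [h3]

theorem commutator_comm_of_zpowers_normal {Q : Type*} [Group Q] (z : Q)
    (hZ : (Subgroup.zpowers z).Normal) : ∀ c ∈ commutator Q, c * z = z * c := by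
  intro c hc
  have : commutator Q ≤ Subgroup.centralizer {z} := by
    rw [commutator_eq_closure, Subgroup.closure_le]
    rintro _ ⟨a, b, rfl⟩
    rw [SetLike.mem_coe, Subgroup.mem_centralizer_iff]
    intro w hw
    rw [Set.mem_singleton_iff] at hw
    subst hw
    exact (commutatorElement_comm_of_zpowers_normal w hZ a b).symm
  have h := this hc
  rw [Subgroup.mem_centralizer_iff] at h
  exact (h z rfl).symm

theorem map_mk'_sup_zpowers {G : Type*} [Group G] (K : Subgroup G) [K.Normal] (g : G) :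
    (K ⊔ Subgroup.zpowers g).map (QuotientGroup.mk' K) = Subgroup.zpowers (QuotientGroup.mk' K g) := by
  rw [Subgroup.map_sup, MonoidHom.map_zpowers]
  have : K.map (QuotientGroup.mk' K) = ⊥ := by
    apply (Subgroup.map_eq_bot_iff _).mpr
    rw [QuotientGroup.ker_mk' K]
  rw [this, bot_sup_eq]

/-- Key step: the derived subgroup acts trivially on a cyclic normal factor. -/
theorem commutatorElement_mem_of_step {G : Type*} [Group G] (K : Subgroup G) [hK : K.Normal]
    (g : G) (hK' : (K ⊔ Subgroup.zpowers g).Normal) {x y : G} (hx : x ∈ K ⊔ Subgroup.zpowers g)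
    (hy : y ∈ commutator G) : ⁅x, y⁆ ∈ K := by
  set π := QuotientGroup.mk' K with hπ
  have hZ : (Subgroup.zpowers (π g)).Normal := by
    rw [← map_mk'_sup_zpowers]
    exact hK'.map π (QuotientGroup.mk'_surjective K)
  have hx' : π x ∈ Subgroup.zpowers (π g) := by
    rw [← map_mk'_sup_zpowers]
    exact Subgroup.mem_map_of_mem _ hx
  have hy' : π y ∈ commutator (G ⧸ K) := by
    have h1 : (commutator G).map π ≤ commutator (G ⧸ K) := by
      rw [_root_.commutator_def, _root_.commutator_def, Subgroup.map_commutator]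
      exact Subgroup.commutator_mono le_top le_top
    exact h1 (Subgroup.mem_map_of_mem _ hy)
  obtain ⟨m, hm⟩ := Subgroup.mem_zpowers_iff.mp hx'
  have hc := commutator_comm_of_zpowers_normal (π g) hZ (π y) hy'
  have hc2 : π y * π x = π x * π y := by
    rw [← hm]
    exact ((Commute.zpow_right (show Commute (π y) (π g) from hc)) m).eq
  have : π ⁅x, y⁆ = 1 := by
    rw [map_commutatorElement, commutatorElement_eq_one_iff_mul_comm]
    exact hc2.symm
  rw [← QuotientGroup.ker_mk' K]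
  exact this

theorem SSReach.le_upperCentralSeries_commutator {G : Type*} [Group G] {K : Subgroup G}
    (h : SSReach K) :
    ∃ n, K.subgroupOf (commutator G) ≤ Subgroup.upperCentralSeries (commutator G) n := by
  induction h with
  | bot => exact ⟨0, by rw [Subgroup.bot_subgroupOf]; exact bot_le⟩
  | step K g hK hn ih =>
    obtain ⟨n, hn'⟩ := ih
    have hKn : K.Normal := hK.normal
    refine ⟨n + 1, ?_⟩
    intro x hx
    rw [Subgroup.mem_upperCentralSeries_succ_iff]
    intro y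
    apply hn'
    rw [Subgroup.mem_subgroupOf] at hx ⊢
    have := commutatorElement_mem_of_step K g hn hx y.2
    simpa [commutatorElement_def] using this

theorem isNilpotent_commutator_of_isSupersolvable {G : Type*} [Group G]
    (hG : Cfsg.IsSupersolvable G) : Group.IsNilpotent (commutator G) := by
  rw [isSupersolvable_iff] at hG
  obtain ⟨n, hn⟩ := hG.le_upperCentralSeries_commutator
  rw [Subgroup.top_subgroupOf] at hn
  exact ⟨⟨n, top_le_iff.mp hn⟩⟩

end Cfsg.Agent.Lib.Helper9
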