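import Mathlib
import Cfsg.Agent.Lib.Helper32.PGroupCenter

set_option autoImplicit false
set_option linter.style.haveILetI false
set_option linter.unusedSectionVars false

/-! SuzT7 for helper86's S1138: a non-central normal subgroup of a finite `p`-group contains a
non-central element of the second centre. -/

namespace Cfsg.Agent.Lib.Helper9.SuzT7

theorem exists_mem_second_center {G : Type*} [Group G] [Finite G] {p : ℕ} [Fact p.Prime]
    (hG : IsPGroup p G) (N : Subgroup G) [N.Normal] (hN : ¬ N ≤ Subgroup.center G) :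
    ∃ w ∈ N, w ∉ Subgroup.center G ∧ ∀ g : G, w⁻¹ * g⁻¹ * w * g ∈ Subgroup.center G := by
  have hQ : IsPGroup p (G ⧸ Subgroup.center G) := hG.to_quotient (Subgroup.center G)
  have hNbar : (N.map (QuotientGroup.mk' (Subgroup.center G))) ≠ ⊥ := by
    intro h
    apply hN
    intro x hx
    have h1 : QuotientGroup.mk' (Subgroup.center G) x ∈
        N.map (QuotientGroup.mk' (Subgroup.center G)) := Subgroup.mem_map_of_mem _ hx
    rw [h, Subgroup.mem_bot] at h1
    exact (QuotientGroup.eq_one_iff x).mp h1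
  haveI : (N.map (QuotientGroup.mk' (Subgroup.center G))).Normal :=
    Subgroup.Normal.map inferInstance _ (QuotientGroup.mk'_surjective (Subgroup.center G))
  obtain ⟨x, hxN, hxZ, hx1⟩ :=
    Cfsg.Agent.Lib.Helper32.exists_ne_one_mem_normal_inf_center hQ _ hNbar
  obtain ⟨w, hwN, rfl⟩ := Subgroup.mem_map.mp hxN
  refine ⟨w, hwN, ?_, ?_⟩
  · intro hw
    apply hx1
    exact (QuotientGroup.eq_one_iff w).mpr hw
  · intro g
    rw [← QuotientGroup.eq_one_iff]
    have h2 := Subgroup.mem_center_iff.mp hxZ (QuotientGroup.mk' (Subgroup.center G) g)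
    simp only [QuotientGroup.mk'_apply] at h2
    have h3 : ((w⁻¹ * g⁻¹ * w * g : G) : G ⧸ Subgroup.center G) =
        (w : G ⧸ Subgroup.center G)⁻¹ * (g : G ⧸ Subgroup.center G)⁻¹ *
          ((w : G ⧸ Subgroup.center G) * (g : G ⧸ Subgroup.center G)) := by
      simp [mul_assoc]
    rw [h3, ← h2]
    group

end Cfsg.Agent.Lib.Helper9.SuzT7
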