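import Mathlib
import Cfsg.Prelude.Def_ClassicalGeometry
import Cfsg.Prelude.Def_GeometricClasses
import Cfsg.Agent.Lib.Helper59.TqDefs
import Cfsg.Agent.Lib.Helper5.HyDefs
import Cfsg.Agent.Lib.Helper37.SpinorNorm
import Cfsg.Agent.Lib.Helper37.CartanDieudonne

/-!
# TQ-TWOFIX sub-hive (helper67; Tq hive of helper59), leaf TWOFIX-SPIN, core (helper9)

The spinor norm of an isometry `g` with `g² = -1` is `2^n` (`card κ = 2 n`), given a "complex
orthogonal basis" (TWOFIX-CB, here a hypothesis): `g = ∏_j r_{v_j} r_{v_j - g v_j}` and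
`Q (v_j - g v_j) = 2 Q v_j`.
-/

set_option autoImplicit false

namespace Cfsg.Agent.Lib.Helper59.Tq

open Module Matrix
open Cfsg.Agent.Lib.Helper2.BG Cfsg.Agent.Lib.Helper99 Cfsg.Agent.Lib.Helper48.Ti
open Cfsg.Agent.Lib.Helper5.Hy
open Cfsg.Agent.Lib.Helper37

section

variable {κ : Type} [Fintype κ] [DecidableEq κ] {F : Type*} [Field F]
  {Q : (κ → F) → F} {G : Matrix κ κ F}

/-- a product of reflections fixes the vectors orthogonal to all the roots -/
theorem twofix_spin_prod_fix (h : IsGram Q G) (vs : List (κ → F)) (u : κ → F)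
    (hu : ∀ w ∈ vs, Matrix.toBilin' G w u = 0) :
    (vs.map (fun v => Cfsg.reflectionMatrix Q v)).prod *ᵥ u = u := by
  induction vs with
  | nil => simp
  | cons a l ih =>
    rw [List.map_cons, List.prod_cons, ← Matrix.mulVec_mulVec,
      ih (fun w hw => hu w (List.mem_cons_of_mem _ hw)), h.refl_fixes a u (hu a List.mem_cons_self)]

/-- the rotation by a quarter turn of the plane `⟨v, X v⟩` as a product of two reflections -/
theorem twofix_spin_pair (h : IsGram Q G) (X : Matrix κ κ F) (hX : ∀ u, Q (X *ᵥ u) = Q u)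
    (hXX : ∀ w, X *ᵥ (X *ᵥ w) = -w) (v : κ → F) (hv : Q v ≠ 0) :
    Matrix.toBilin' G v (X *ᵥ v) = 0 ∧ Q (v - X *ᵥ v) = 2 * Q v ∧
    Cfsg.reflectionMatrix Q v *ᵥ (Cfsg.reflectionMatrix Q (v - X *ᵥ v) *ᵥ v) = X *ᵥ v ∧
    Cfsg.reflectionMatrix Q v *ᵥ (Cfsg.reflectionMatrix Q (v - X *ᵥ v) *ᵥ (X *ᵥ v)) = -v := by
  have hB : ∀ u w, Matrix.toBilin' G (X *ᵥ u) (X *ᵥ w) = Matrix.toBilin' G u w :=
    h.isometry_bilin _ hX
  have horth : Matrix.toBilin' G v (X *ᵥ v) = 0 := by
    have h1 := hB v (X *ᵥ v)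
    rw [hXX, map_neg, h.symmB] at h1
    have h3 : 2 * Matrix.toBilin' G v (X *ᵥ v) = 0 := by
      linear_combination -h1
    exact (mul_eq_zero.1 h3).resolve_left h.two_ne
  have hQw : Q (v - X *ᵥ v) = 2 * Q v := by
    rw [h.Q_sub, hX, horth]
    ring
  have hw0 : Q (v - X *ᵥ v) ≠ 0 := by
    rw [hQw]
    exact mul_ne_zero h.two_ne hv
  have e1 : Cfsg.reflectionMatrix Q (v - X *ᵥ v) *ᵥ v = X *ᵥ v :=
    h.refl_sub_apply v (X *ᵥ v) (hX v).symm hw0
  have e2 : Cfsg.reflectionMatrix Q (v - X *ᵥ v) *ᵥ (X *ᵥ v) = v := by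
    have h3 : Cfsg.reflectionMatrix Q (v - X *ᵥ v) *ᵥ (Cfsg.reflectionMatrix Q (v - X *ᵥ v) *ᵥ v) =
        Cfsg.reflectionMatrix Q (v - X *ᵥ v) *ᵥ (X *ᵥ v) := by rw [e1]
    rw [Matrix.mulVec_mulVec, h.refl_refl _ hw0, Matrix.one_mulVec] at h3
    exact h3.symm
  have e3 : Cfsg.reflectionMatrix Q v *ᵥ (X *ᵥ v) = X *ᵥ v := h.refl_fixes v _ horth
  have e4 : Cfsg.reflectionMatrix Q v *ᵥ v = -v := by
    have h3 := h.refl_self_apply v hv
    rw [Matrix.mulVec_neg] at h3
    exact neg_eq_iff_eq_neg.1 h3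
  exact ⟨horth, hQw, by rw [e1, e3], by rw [e2, e4]⟩

/-- the list of roots attached to a list of indices -/
def twofix_spin_roots {n : ℕ} (X : Matrix κ κ F) (v : Fin n → (κ → F)) (L : List (Fin n)) :
    List (κ → F) :=
  L.flatMap (fun j => [v j, v j - X *ᵥ v j])

theorem twofix_spin_roots_cons {n : ℕ} (X : Matrix κ κ F) (v : Fin n → (κ → F)) (j : Fin n)
    (L : List (Fin n)) :
    twofix_spin_roots X v (j :: L) = v j :: (v j - X *ᵥ v j) :: twofix_spin_roots X v L := by
  unfold twofix_spin_roots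
  rw [List.flatMap_cons]
  rfl

theorem twofix_spin_mem_roots {n : ℕ} (X : Matrix κ κ F) (v : Fin n → (κ → F)) (L : List (Fin n))
    (w : κ → F) (hw : w ∈ twofix_spin_roots X v L) :
    ∃ j ∈ L, w = v j ∨ w = v j - X *ᵥ v j := by
  unfold twofix_spin_roots at hw
  obtain ⟨j, hj, hwj⟩ := List.mem_flatMap.1 hw
  refine ⟨j, hj, ?_⟩
  simpa using hwj

/-- the product of the rotations fixes what is orthogonal to all the planes -/
theorem twofix_spin_fix {n : ℕ} (h : IsGram Q G) (X : Matrix κ κ F) (v : Fin n → (κ → F))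
    (L : List (Fin n)) (y : κ → F)
    (hy : ∀ j ∈ L, Matrix.toBilin' G (v j) y = 0 ∧ Matrix.toBilin' G (X *ᵥ v j) y = 0) :
    ((twofix_spin_roots X v L).map (fun v => Cfsg.reflectionMatrix Q v)).prod *ᵥ y = y := by
  apply twofix_spin_prod_fix h
  intro w hw
  obtain ⟨j, hj, rfl | rfl⟩ := twofix_spin_mem_roots X v L w hw
  · exact (hy j hj).1
  · rw [map_sub, LinearMap.sub_apply, (hy j hj).1, (hy j hj).2, sub_zero]

/-- the product of the rotations acts as `X` on the planes -/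
theorem twofix_spin_act {n : ℕ} (h : IsGram Q G) (X : Matrix κ κ F)
    (hX : ∀ u, Q (X *ᵥ u) = Q u) (hXX : ∀ w, X *ᵥ (X *ᵥ w) = -w) (v : Fin n → (κ → F))
    (hv : ∀ j, Q (v j) ≠ 0)
    (horth : ∀ j k, j ≠ k → Matrix.toBilin' G (v j) (v k) = 0 ∧
      Matrix.toBilin' G (v j) (X *ᵥ v k) = 0) :
    ∀ L : List (Fin n), L.Nodup → ∀ k ∈ L,
      ((twofix_spin_roots X v L).map (fun v => Cfsg.reflectionMatrix Q v)).prod *ᵥ (v k) =
        X *ᵥ v k ∧
      ((twofix_spin_roots X v L).map (fun v => Cfsg.reflectionMatrix Q v)).prod *ᵥ (X *ᵥ v k) =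
        -(v k) := by
  have hB : ∀ u w, Matrix.toBilin' G (X *ᵥ u) (X *ᵥ w) = Matrix.toBilin' G u w :=
    h.isometry_bilin _ hX
  -- orthogonality relations between different planes
  have o1 : ∀ j k, j ≠ k → Matrix.toBilin' G (X *ᵥ v j) (v k) = 0 := by
    intro j k hjk
    rw [h.symmB]
    exact (horth k j (Ne.symm hjk)).2
  have o2 : ∀ j k, j ≠ k → Matrix.toBilin' G (X *ᵥ v j) (X *ᵥ v k) = 0 := by
    intro j k hjk
    rw [hB]
    exact (horth j k hjk).1
  intro L
  induction L with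
  | nil => intro _ k hk; simp at hk
  | cons j L ih =>
    intro hnd k hk
    rw [List.nodup_cons] at hnd
    rw [twofix_spin_roots_cons, List.map_cons, List.map_cons, List.prod_cons, List.prod_cons]
    obtain ⟨-, -, p3, p4⟩ := twofix_spin_pair h X hX hXX (v j) (hv j)
    by_cases hkL : k ∈ L
    · have hkj : j ≠ k := fun e => hnd.1 (e ▸ hkL)
      obtain ⟨i1, i2⟩ := ih hnd.2 k hkL
      have f1 : ∀ y,
          (Cfsg.reflectionMatrix Q (v j) * (Cfsg.reflectionMatrix Q (v j - X *ᵥ v j) *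
            ((twofix_spin_roots X v L).map (fun v => Cfsg.reflectionMatrix Q v)).prod)) *ᵥ y =
          Cfsg.reflectionMatrix Q (v j) *ᵥ (Cfsg.reflectionMatrix Q (v j - X *ᵥ v j) *ᵥ
            (((twofix_spin_roots X v L).map (fun v => Cfsg.reflectionMatrix Q v)).prod *ᵥ y)) := by
        intro y
        rw [← Matrix.mulVec_mulVec, ← Matrix.mulVec_mulVec]
      constructor
      · rw [f1, i1]
        rw [h.refl_fixes (v j - X *ᵥ v j) (X *ᵥ v k) (by
          rw [map_sub, LinearMap.sub_apply, (horth j k hkj).2, o2 j k hkj, sub_zero])]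
        exact h.refl_fixes (v j) _ (horth j k hkj).2
      · rw [f1, i2, Matrix.mulVec_neg, Matrix.mulVec_neg]
        rw [h.refl_fixes (v j - X *ᵥ v j) (v k) (by
          rw [map_sub, LinearMap.sub_apply, (horth j k hkj).1, o1 j k hkj, sub_zero])]
        rw [h.refl_fixes (v j) _ (horth j k hkj).1]
    · have hkj : k = j := by
        rcases List.mem_cons.1 hk with h' | h'
        · exact h'
        · exact absurd h' hkL
      subst hkj
      have g1 : ((twofix_spin_roots X v L).map (fun v => Cfsg.reflectionMatrix Q v)).prod *ᵥ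
          (v k) = v k := by
        apply twofix_spin_fix h X v L
        intro i hi
        have hik : i ≠ k := fun e => hkL (e ▸ hi)
        exact ⟨(horth i k hik).1, o1 i k hik⟩
      have g2 : ((twofix_spin_roots X v L).map (fun v => Cfsg.reflectionMatrix Q v)).prod *ᵥ
          (X *ᵥ v k) = X *ᵥ v k := by
        apply twofix_spin_fix h X v L
        intro i hi
        have hik : i ≠ k := fun e => hkL (e ▸ hi)
        exact ⟨(horth i k hik).2, o2 i k hik⟩
      constructor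
      · rw [← Matrix.mulVec_mulVec, ← Matrix.mulVec_mulVec, g1]
        exact p3
      · rw [← Matrix.mulVec_mulVec, ← Matrix.mulVec_mulVec, g2]
        exact p4

/-- the product of the norms of the roots -/
theorem twofix_spin_norms {n : ℕ} (h : IsGram Q G) (X : Matrix κ κ F)
    (hX : ∀ u, Q (X *ᵥ u) = Q u) (hXX : ∀ w, X *ᵥ (X *ᵥ w) = -w) (v : Fin n → (κ → F))
    (hv : ∀ j, Q (v j) ≠ 0) (L : List (Fin n)) :
    ((twofix_spin_roots X v L).map (fun v => Q v)).prod =
      2 ^ L.length * ((L.map (fun j => Q (v j))).prod) ^ 2 := by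
  induction L with
  | nil => simp [twofix_spin_roots]
  | cons j L ih =>
    rw [twofix_spin_roots_cons, List.map_cons, List.map_cons, List.prod_cons, List.prod_cons, ih,
      (twofix_spin_pair h X hX hXX (v j) (hv j)).2.1, List.length_cons, List.map_cons,
      List.prod_cons]
    ring

theorem twofix_spin_roots_ne {n : ℕ} (h : IsGram Q G) (X : Matrix κ κ F)
    (hX : ∀ u, Q (X *ᵥ u) = Q u) (hXX : ∀ w, X *ᵥ (X *ᵥ w) = -w) (v : Fin n → (κ → F))
    (hv : ∀ j, Q (v j) ≠ 0) (L : List (Fin n)) :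
    ∀ w ∈ twofix_spin_roots X v L, Q w ≠ 0 := by
  intro w hw
  obtain ⟨j, -, rfl | rfl⟩ := twofix_spin_mem_roots X v L w hw
  · exact hv j
  · rw [(twofix_spin_pair h X hX hXX (v j) (hv j)).2.1]
    exact mul_ne_zero h.two_ne (hv j)

/-- TWOFIX-SPIN with the complex orthogonal basis (TWOFIX-CB) as a hypothesis -/
theorem twofix_spin_core [Fintype F] (h : IsGram Q G)
    (g : ↥(Cfsg.isometryGroup F Q))
    (hgΩ : g ∈ Cfsg.Omega F Q) (hg2 : toMat Q g * toMat Q g = -1) (n : ℕ)
    (hn : Fintype.card κ = 2 * n)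
    (hcb : ∃ (n' : ℕ) (v : Fin n' → (κ → F)), finrank F (κ → F) = 2 * n' ∧
      (∀ j, Matrix.toBilin' G (v j) (v j) ≠ 0) ∧
      (∀ j k, j ≠ k → Matrix.toBilin' G (v j) (v k) = 0 ∧
        Matrix.toBilin' G (v j) (Matrix.toLin' (toMat Q g) (v k)) = 0) ∧
      Submodule.span F (Set.range v ∪ Set.range (fun j => Matrix.toLin' (toMat Q g) (v j))) = ⊤) :
    IsSquare ((2 : F) ^ n) := by
  classical
  obtain ⟨n', v, hfr, hvv, horth, hspan⟩ := hcb
  have hn' : n' = n := by
    rw [Module.finrank_fintype_fun_eq_card, hn] at hfr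
    omega
  subst hn'
  have hX : ∀ u, Q (toMat Q g *ᵥ u) = Q u := fun u => IsGram.toMat_isometry g u
  have hXX : ∀ w, toMat Q g *ᵥ (toMat Q g *ᵥ w) = -w := by
    intro w
    rw [Matrix.mulVec_mulVec, hg2, Matrix.neg_mulVec, Matrix.one_mulVec]
  have hv : ∀ j, Q (v j) ≠ 0 := by
    intro j h0
    apply hvv j
    rw [h.self, h0, mul_zero]
  have horth' : ∀ j k, j ≠ k → Matrix.toBilin' G (v j) (v k) = 0 ∧
      Matrix.toBilin' G (v j) (toMat Q g *ᵥ v k) = 0 := by
    intro j k hjk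
    have := horth j k hjk
    rwa [Matrix.toLin'_apply] at this
  have hact := twofix_spin_act h (toMat Q g) hX hXX v hv horth' (List.finRange n')
    (List.nodup_finRange n')
  have hprod : toMat Q g = ((twofix_spin_roots (toMat Q g) v (List.finRange n')).map
      (fun v => Cfsg.reflectionMatrix Q v)).prod := by
    apply Matrix.toLin'.injective
    apply LinearMap.ext_on hspan
    rintro y (⟨k, rfl⟩ | ⟨k, rfl⟩)
    · rw [Matrix.toLin'_apply, Matrix.toLin'_apply, (hact k (List.mem_finRange k)).1]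
    · simp only [Matrix.toLin'_apply]
      rw [(hact k (List.mem_finRange k)).2, hXX]
  obtain ⟨-, hsq⟩ := h.even_and_isSquare_of_mem_omega g _
    (twofix_spin_roots_ne h (toMat Q g) hX hXX v hv (List.finRange n')) hprod hgΩ
  rw [twofix_spin_norms h (toMat Q g) hX hXX v hv (List.finRange n'), List.length_finRange] at hsq
  have hc : ((List.finRange n').map (fun j => Q (v j))).prod ≠ 0 := by
    apply List.prod_ne_zero
    intro h0
    obtain ⟨j, -, hj⟩ := List.mem_map.1 h0
    exact hv j hj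
  obtain ⟨z, hz⟩ := hsq
  refine ⟨z / ((List.finRange n').map (fun j => Q (v j))).prod, ?_⟩
  field_simp
  linear_combination hz

end

end Cfsg.Agent.Lib.Helper59.Tq
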