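import Mathlib
import Cfsg.Prelude.Def_Local
import Cfsg.Agent.Lib.Helper9.SubnormalSylow
import Cfsg.Agent.Lib.Helper54.PConstr4

set_option autoImplicit false

/-!
Odd-order subgroups of `2`-constrained groups with trivial core normalized by a large `2`-subgroup.
-/

namespace Cfsg.Agent.Lib.Helper9

open Cfsg

/-- A fixed-point-free element of order at most two acts by inversion. -/
theorem conj_eq_inv_of_fpf {G : Type*} [Group G] [Finite G] (X : Subgroup G) (e : G)
    (he : e ^ 2 = 1) (hn : e ∈ Subgroup.normalizer (X : Set G))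
    (hf : X ⊓ Subgroup.centralizer ({e} : Set G) = ⊥) :
    ∀ z ∈ X, e * z * e⁻¹ = z⁻¹ := by
  classical
  have hmem : ∀ x : G, x ∈ X → x⁻¹ * (e * x * e⁻¹) ∈ X := by
    intro x hx
    exact X.mul_mem (X.inv_mem hx) ((Subgroup.mem_normalizer_iff.mp hn x).mp hx)
  let φ : X → X := fun x => ⟨(x : G)⁻¹ * (e * x * e⁻¹), hmem x x.2⟩
  have hinj : Function.Injective φ := by
    intro x y hxy
    have h1 : (x : G)⁻¹ * (e * x * e⁻¹) = (y : G)⁻¹ * (e * y * e⁻¹) := congrArg Subtype.val hxy
    have h2 : (y : G) * (x : G)⁻¹ ∈ X ⊓ Subgroup.centralizer ({e} : Set G) := by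
      refine Subgroup.mem_inf.mpr ⟨X.mul_mem y.2 (X.inv_mem x.2), ?_⟩
      rw [Subgroup.mem_centralizer_singleton_iff]
      have h3 : (y : G) * (x : G)⁻¹ = e * ((y : G) * (x : G)⁻¹) * e⁻¹ := by
        calc (y : G) * (x : G)⁻¹ = (y : G) * ((x : G)⁻¹ * (e * x * e⁻¹)) * (e * x * e⁻¹)⁻¹ := by
              group
          _ = (y : G) * ((y : G)⁻¹ * (e * y * e⁻¹)) * (e * x * e⁻¹)⁻¹ := by rw [h1]
          _ = e * ((y : G) * (x : G)⁻¹) * e⁻¹ := by group
      calc (y : G) * (x : G)⁻¹ * e = e * ((y : G) * (x : G)⁻¹) * e⁻¹ * e := by rw [← h3]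
        _ = e * ((y : G) * (x : G)⁻¹) := by group
    rw [hf, Subgroup.mem_bot] at h2
    apply Subtype.ext
    have : (y : G) = x := by
      calc (y : G) = (y : G) * (x : G)⁻¹ * x := by group
        _ = x := by rw [h2, one_mul]
    exact this.symm
  have hsurj := Finite.surjective_of_injective hinj
  intro z hz
  obtain ⟨x, hx⟩ := hsurj ⟨z, hz⟩
  have hx' : (x : G)⁻¹ * (e * x * e⁻¹) = z := congrArg Subtype.val hx
  have he' : e⁻¹ = e := by
    have : e * e = 1 := by rw [← sq]; exact he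
    exact inv_eq_of_mul_eq_one_left this
  rw [← hx', he']
  have hee : e * e = 1 := by rw [← sq]; exact he
  calc e * ((x : G)⁻¹ * (e * x * e)) * e = e * (x : G)⁻¹ * e * (x : G) * (e * e) := by group
    _ = e * (x : G)⁻¹ * e * (x : G) := by rw [hee, mul_one]
    _ = ((x : G)⁻¹ * (e * x * e))⁻¹ := by
      rw [mul_inv_rev, mul_inv_rev, mul_inv_rev, inv_inv, he']
      group

/-- A subgroup on which three involutions `e₁`, `e₂`, `e₁ e₂` act fixed-point-freely is trivial. -/
theorem eq_bot_of_fpf_four {G : Type*} [Group G] [Finite G] (X : Subgroup G) (e₁ e₂ : G)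
    (h1 : e₁ ^ 2 = 1) (h2 : e₂ ^ 2 = 1)
    (hn1 : e₁ ∈ Subgroup.normalizer (X : Set G)) (hn2 : e₂ ∈ Subgroup.normalizer (X : Set G))
    (hf1 : X ⊓ Subgroup.centralizer ({e₁} : Set G) = ⊥)
    (hf2 : X ⊓ Subgroup.centralizer ({e₂} : Set G) = ⊥)
    (hf3 : X ⊓ Subgroup.centralizer ({e₁ * e₂} : Set G) = ⊥) : X = ⊥ := by
  have hi1 := conj_eq_inv_of_fpf X e₁ h1 hn1 hf1
  have hi2 := conj_eq_inv_of_fpf X e₂ h2 hn2 hf2
  rw [eq_bot_iff]
  intro z hz
  rw [← hf3]
  refine Subgroup.mem_inf.mpr ⟨hz, ?_⟩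
  rw [Subgroup.mem_centralizer_singleton_iff]
  have h3 : e₁ * e₂ * z * (e₁ * e₂)⁻¹ = z := by
    calc e₁ * e₂ * z * (e₁ * e₂)⁻¹ = e₁ * (e₂ * z * e₂⁻¹) * e₁⁻¹ := by group
      _ = e₁ * z⁻¹ * e₁⁻¹ := by rw [hi2 z hz]
      _ = (z⁻¹)⁻¹ := hi1 z⁻¹ (X.inv_mem hz)
      _ = z := inv_inv z
  calc z * (e₁ * e₂) = e₁ * e₂ * z * (e₁ * e₂)⁻¹ * (e₁ * e₂) := by rw [h3]
    _ = e₁ * e₂ * z := by group

/-- In a `2`-constrained group `H` with `O(H) = 1`, an odd-order subgroup normalized by a
`2`-subgroup `D` such that no `2`-subgroup of `H` has more than `2 |D|` elements is trivial. -/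
theorem eq_bot_of_normalized_by_large_two_subgroup {H : Type*} [Group H] [Finite H]
    (h0 : Cfsg.pPrimeCore 2 H = ⊥) (hc : Cfsg.IsPConstrained 2 H)
    (D Y : Subgroup H) (hD : IsPGroup 2 D) (hY : Odd (Nat.card Y))
    (hDY : D ≤ Subgroup.normalizer (Y : Set H))
    (hbig : ∀ T : Subgroup H, IsPGroup 2 T → Nat.card T ≤ 2 * Nat.card D) : Y = ⊥ := by
  classical
  have : Fact (Nat.Prime 2) := ⟨Nat.prime_two⟩
  set R : Subgroup H := Cfsg.pCore 2 H with hR
  have hRn : R.Normal := Cfsg.Agent.Lib.Helper55.pCore_normal' 2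
  have hRp : IsPGroup 2 R := Cfsg.Agent.Lib.Helper55.pCore_isPGroup 2
  have hCR : Subgroup.centralizer (R : Set H) ≤ R :=
    Cfsg.Agent.Lib.Helper54.charP_of_isPConstrained 2 h0 hc
  -- `Y ∩ R = 1`
  have hYR : Y ⊓ R = ⊥ := by
    apply Disjoint.eq_bot
    apply Subgroup.disjoint_of_coprime_natCard
    obtain ⟨k, hk⟩ := hRp.exists_card_eq
    rw [hk]
    exact Nat.Coprime.pow_right k (Nat.coprime_two_right.mpr hY)
  -- index of `R ∩ D` in `R`
  have hrel : D.relIndex R ≤ 2 := by
    have hT : IsPGroup 2 (D ⊔ R : Subgroup H) := hD.to_sup_of_normal_right hRp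
    have h1 := hbig _ hT
    have h2 := relIndex_mul_card_inf D (D ⊔ R)
    rw [inf_eq_left.mpr (le_sup_left : D ≤ D ⊔ R)] at h2
    rw [← relIndex_sup_eq_of_normal D R]
    have hpos : 0 < Nat.card D := Nat.card_pos
    by_contra hcon
    push Not at hcon
    have : 3 * Nat.card D ≤ D.relIndex (D ⊔ R) * Nat.card D := Nat.mul_le_mul_right _ hcon
    omega
  -- elements of `Y` commute with `R ∩ D`
  have hcomm0 : ∀ y ∈ Y, ∀ r ∈ R, r ∈ D → y * r = r * y := by
    intro y hy r hrR hrD
    have h1 : y * r * y⁻¹ * r⁻¹ ∈ Y ⊓ R := by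
      constructor
      · have h2 : r * y⁻¹ * r⁻¹ ∈ Y :=
          (Subgroup.mem_normalizer_iff.mp (hDY hrD) y⁻¹).mp (Y.inv_mem hy)
        have h3 : y * r * y⁻¹ * r⁻¹ = y * (r * y⁻¹ * r⁻¹) := by group
        rw [h3]
        exact Y.mul_mem hy h2
      · exact R.mul_mem (hRn.conj_mem r hrR y) (R.inv_mem hrR)
    rw [hYR, Subgroup.mem_bot] at h1
    calc y * r = y * r * y⁻¹ * r⁻¹ * (r * y) := by group
      _ = r * y := by rw [h1, one_mul]
  -- elements of `Y` centralize `R`
  have hcomm : ∀ y ∈ Y, ∀ r ∈ R, y * r = r * y := by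
    intro y hy r hrR
    by_cases hrD : r ∈ D
    · exact hcomm0 y hy r hrR hrD
    · have hne1 : D.relIndex R ≠ 1 := by
        intro h1
        rw [Subgroup.relIndex_eq_one] at h1
        exact hrD (h1 hrR)
      have hne0 : D.relIndex R ≠ 0 := by
        intro h0'
        have h2 := relIndex_mul_card_inf D R
        rw [h0', zero_mul] at h2
        have : 0 < Nat.card R := Nat.card_pos
        omega
      have h2 : D.relIndex R = 2 := by omega
      obtain ⟨a, haR, ha⟩ := Subgroup.relIndex_eq_two_iff.mp h2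
      set w := y * r * y⁻¹ with hw
      have hwR : w ∈ R := hRn.conj_mem r hrR y
      have hwD : w ∉ D := by
        intro hwD
        have h3 := hcomm0 y hy w hwR hwD
        apply hrD
        have : r = w := by
          calc r = y⁻¹ * (y * r * y⁻¹) * y := by group
            _ = y⁻¹ * w * y := by rw [hw]
            _ = y⁻¹ * (w * y) := by group
            _ = y⁻¹ * (y * w) := by rw [h3]
            _ = w := by group
        rw [this]; exact hwD
      have hra : r * a ∈ D := by
        rcases ha r hrR with ⟨h, _⟩ | ⟨h, _⟩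
        · exact h
        · exact absurd h hrD
      have hwa : w * a ∈ D := by
        rcases ha w hwR with ⟨h, _⟩ | ⟨h, _⟩
        · exact h
        · exact absurd h hwD
      set c := w * r⁻¹ with hcdef
      have hcD : c ∈ D := by
        have : c = (w * a) * (r * a)⁻¹ := by rw [hcdef]; group
        rw [this]
        exact D.mul_mem hwa (D.inv_mem hra)
      have hcR : c ∈ R := R.mul_mem hwR (R.inv_mem hrR)
      have hyc : y * c = c * y := hcomm0 y hy c hcR hcD
      have hyr : y * r * y⁻¹ = c * r := by rw [hcdef, ← hw]; group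
      have hpow : ∀ n : ℕ, y ^ n * r * (y ^ n)⁻¹ = c ^ n * r := by
        intro n
        induction n with
        | zero => simp
        | succ n ih =>
          have hycn : y * c ^ n = c ^ n * y := (Commute.pow_right (show Commute y c from hyc) n).eq
          calc y ^ (n + 1) * r * (y ^ (n + 1))⁻¹ = y * (y ^ n * r * (y ^ n)⁻¹) * y⁻¹ := by
                rw [pow_succ']; group
            _ = y * (c ^ n * r) * y⁻¹ := by rw [ih]
            _ = (y * c ^ n) * r * y⁻¹ := by group
            _ = (c ^ n * y) * r * y⁻¹ := by rw [hycn]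
            _ = c ^ n * (y * r * y⁻¹) := by group
            _ = c ^ n * (c * r) := by rw [hyr]
            _ = c ^ (n + 1) * r := by rw [pow_succ]; group
      have h5 := hpow (orderOf y)
      rw [pow_orderOf_eq_one, one_mul, inv_one, mul_one] at h5
      have h6 : c ^ orderOf y = 1 := by
        have : c ^ orderOf y * r = 1 * r := by rw [one_mul]; exact h5.symm
        exact mul_right_cancel this
      have h7 : orderOf c ∣ orderOf y := orderOf_dvd_of_pow_eq_one h6
      have h8 : orderOf y ∣ Nat.card Y := by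
        have := orderOf_dvd_natCard (⟨y, hy⟩ : Y)
        rwa [Subgroup.orderOf_mk] at this
      obtain ⟨j, hj⟩ := (IsPGroup.iff_orderOf.mp hRp) ⟨c, hcR⟩
      rw [Subgroup.orderOf_mk] at hj
      have h9 : Odd (orderOf c) := by
        have hodd : Odd (orderOf y) := Odd.of_dvd_nat hY h8
        exact Odd.of_dvd_nat hodd h7
      have h10 : orderOf c = 1 := by
        rw [hj] at h9 ⊢
        rcases Nat.eq_zero_or_pos j with h | h
        · rw [h, pow_zero]
        · exfalso
          have : Even (2 ^ j) := (Nat.even_pow' h.ne').mpr even_two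
          exact (Nat.not_even_iff_odd.mpr h9) this
      have hc1 : c = 1 := orderOf_eq_one_iff.mp h10
      calc y * r = y * r * y⁻¹ * y := by group
        _ = c * r * y := by rw [hyr]
        _ = r * y := by rw [hc1, one_mul]
  have hYC : Y ≤ Subgroup.centralizer (R : Set H) := by
    intro y hy
    rw [Subgroup.mem_centralizer_iff]
    intro r hr
    exact (hcomm y hy r hr).symm
  rw [eq_bot_iff, ← hYR]
  exact le_inf le_rfl (hYC.trans hCR)

end Cfsg.Agent.Lib.Helper9
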