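import Mathlib
import Cfsg.Prelude.Def_Local
import Cfsg.Prelude.Def_CaseTheorems
import Cfsg.Prelude.Def_OddOrderLocal
import Cfsg.Agent.Lib.Helper9.TwoConstrA
import Cfsg.Agent.Lib.Helper45.NormalFour
import Cfsg.Agent.Lib.Helper97.PRank

set_option autoImplicit false

/-!
Sylow `2`-subgroups with a normal four-group normalize no odd-order subgroups in groups whose
involution centralizers lie in `2`-constrained subgroups with trivial core.
-/

namespace Cfsg.Agent.Lib.Helper9

open Cfsg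

/-- Transfer of `eq_bot_of_normalized_by_large_two_subgroup` to a subgroup `H` containing the
centralizer of `e`. -/
theorem inf_centralizer_eq_bot_of_large {G : Type*} [Group G] [Finite G] (H : Subgroup G)
    (h0 : Cfsg.pPrimeCore 2 ↥H = ⊥) (hc : Cfsg.IsPConstrained 2 ↥H) (D X : Subgroup G) (e : G)
    (hCH : Subgroup.centralizer ({e} : Set G) ≤ H) (hD : IsPGroup 2 D)
    (hDe : D ≤ Subgroup.centralizer ({e} : Set G)) (hX : Odd (Nat.card X))
    (hDX : D ≤ Subgroup.normalizer (X : Set G))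
    (hbig : ∀ T : Subgroup G, IsPGroup 2 T → Nat.card T ≤ 2 * Nat.card D) :
    X ⊓ Subgroup.centralizer ({e} : Set G) = ⊥ := by
  classical
  set Y : Subgroup G := X ⊓ Subgroup.centralizer ({e} : Set G) with hYdef
  have hYH : Y ≤ H := inf_le_right.trans hCH
  have hDH : D ≤ H := hDe.trans hCH
  have hYodd : Odd (Nat.card Y) :=
    Odd.of_dvd_nat hX (Subgroup.card_dvd_of_le (inf_le_left : Y ≤ X))
  have hDY : ∀ d ∈ D, ∀ y : G, y ∈ Y ↔ d * y * d⁻¹ ∈ Y := by
    intro d hd y
    have h1 := Subgroup.mem_normalizer_iff.mp (hDX hd) y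
    have h2 := Subgroup.mem_normalizer_iff.mp
      (Subgroup.le_normalizer (hDe hd) :
        d ∈ Subgroup.normalizer ((Subgroup.centralizer ({e} : Set G) : Subgroup G) : Set G)) y
    rw [hYdef, Subgroup.mem_inf, Subgroup.mem_inf, h1, h2]
  have hres := eq_bot_of_normalized_by_large_two_subgroup (H := ↥H) h0 hc
    (D.subgroupOf H) (Y.subgroupOf H) hD.comap_subtype
    (by
      rw [Nat.card_congr (Subgroup.subgroupOfEquivOfLe hYH).toEquiv]
      exact hYodd)
    (by
      intro d hd
      rw [Subgroup.mem_normalizer_iff]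
      intro y
      rw [Subgroup.mem_subgroupOf, Subgroup.mem_subgroupOf]
      have := hDY (d : G) (Subgroup.mem_subgroupOf.mp hd) (y : G)
      simpa using this)
    (by
      intro T hT
      rw [Nat.card_congr (Subgroup.subgroupOfEquivOfLe hDH).toEquiv]
      have h1 : IsPGroup 2 (T.map H.subtype) := hT.map _
      have h2 := hbig _ h1
      rwa [Subgroup.card_map_of_injective H.subtype_injective] at h2)
  exact (Subgroup.subgroupOf_eq_bot.mp hres).eq_bot_of_le hYH

/-- If a Sylow `2`-subgroup `S` has `2`-rank at least `3` and every involution centralizer lies in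
a `2`-constrained subgroup with trivial odd core, then `S` normalizes no nontrivial odd-order
subgroup. -/
theorem eq_bot_of_sylow_two_le_normalizer {G : Type*} [Group G] [Finite G] (S : Sylow 2 G)
    (A : Subgroup G) (hAS : A ≤ (S : Subgroup G)) (hA3 : ¬ Cfsg.PRankLE 2 2 ↥A)
    (hH : ∀ e : G, orderOf e = 2 → ∃ H : Subgroup G, Subgroup.centralizer ({e} : Set G) ≤ H ∧
      Cfsg.pPrimeCore 2 ↥H = ⊥ ∧ Cfsg.IsPConstrained 2 ↥H)
    (X : Subgroup G) (hX : Odd (Nat.card X))
    (hSX : (S : Subgroup G) ≤ Subgroup.normalizer (X : Set G)) : X = ⊥ := by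
  classical
  have hp2 : Fact (Nat.Prime 2) := ⟨Nat.prime_two⟩
  unfold Cfsg.PRankLE at hA3
  push Not at hA3
  obtain ⟨B, hBc, hBe, hBcard⟩ := hA3
  have hS2 : IsPGroup 2 ↥(S : Subgroup G) := S.isPGroup'
  -- transport `B` to a subgroup of `S`
  set E₀ : Subgroup ↥(S : Subgroup G) := B.map (Subgroup.inclusion hAS) with hE₀
  have hEc : IsMulCommutative E₀ := Subgroup.map_isMulCommutative B _
  have hEe : ∀ a ∈ E₀, a ^ 2 = 1 := by
    rintro a ⟨b, hb, rfl⟩
    rw [← map_pow, hBe b hb, map_one]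
  have hEcard : 4 < Nat.card E₀ := by
    rw [hE₀, Subgroup.card_map_of_injective (Subgroup.inclusion_injective hAS)]
    exact hBcard
  obtain ⟨U, hUn, hUc, hUe, hU4⟩ :=
    Cfsg.Agent.Lib.Helper45.exists_normal_four hS2 E₀ hEc hEe hEcard
  have hidx : (Subgroup.centralizer (U : Set ↥(S : Subgroup G))).index ≤ 2 :=
    Cfsg.Agent.Lib.Helper97.PRank.index_centralizer_le hS2 U hUe (by rw [hU4]; norm_num)
  set D : Subgroup G :=
    (Subgroup.centralizer (U : Set ↥(S : Subgroup G))).map (S : Subgroup G).subtype with hDdef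
  have hDcard : Nat.card D = Nat.card (Subgroup.centralizer (U : Set ↥(S : Subgroup G))) :=
    Subgroup.card_map_of_injective (S : Subgroup G).subtype_injective
  have hSD : Nat.card (S : Subgroup G) ≤ 2 * Nat.card D := by
    rw [hDcard, ← Subgroup.index_mul_card (Subgroup.centralizer (U : Set ↥(S : Subgroup G)))]
    exact Nat.mul_le_mul_right _ hidx
  have hDS : D ≤ (S : Subgroup G) := Subgroup.map_subtype_le _
  have hD2 : IsPGroup 2 D := S.isPGroup'.to_le hDS
  have hbig : ∀ T : Subgroup G, IsPGroup 2 T → Nat.card T ≤ 2 * Nat.card D := by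
    intro T hT
    obtain ⟨Q, hTQ⟩ := hT.exists_le_sylow
    have h1 : Nat.card T ≤ Nat.card (Q : Subgroup G) := Subgroup.card_le_of_le hTQ
    have h2 : Nat.card (Q : Subgroup G) = Nat.card (S : Subgroup G) := by
      rw [Sylow.card_eq_multiplicity, Sylow.card_eq_multiplicity]
    omega
  -- the key step for a nontrivial element of `U`
  have key : ∀ u : ↥(S : Subgroup G), u ∈ U → u ≠ 1 →
      X ⊓ Subgroup.centralizer ({(u : G)} : Set G) = ⊥ := by
    intro u hu hu1
    have ho : orderOf (u : G) = 2 := by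
      apply orderOf_eq_prime
      · have := hUe u hu
        have h2 : ((u ^ 2 : ↥(S : Subgroup G)) : G) = 1 := by rw [this]; rfl
        simpa using h2
      · intro h
        apply hu1
        exact Subtype.ext h
    obtain ⟨H, hCH, h0, hc⟩ := hH (u : G) ho
    apply inf_centralizer_eq_bot_of_large H h0 hc D X (u : G) hCH hD2 _ hX (hDS.trans hSX) hbig
    rintro d ⟨c, hc, rfl⟩
    rw [Subgroup.mem_centralizer_singleton_iff]
    have h1 := (Subgroup.mem_centralizer_iff.mp hc) u hu
    have h2 : ((u * c : ↥(S : Subgroup G)) : G) = ((c * u : ↥(S : Subgroup G)) : G) := by rw [h1]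
    simpa using h2.symm
  -- choose two distinct involutions of `U`
  have hUne : U ≠ ⊥ := by
    intro h
    rw [h, Subgroup.card_bot] at hU4
    omega
  obtain ⟨⟨e₁, he₁U⟩, he₁'⟩ := (Subgroup.ne_bot_iff_exists_ne_one.mp hUne)
  have he₁ : e₁ ≠ 1 := by
    intro h; apply he₁'; exact Subtype.ext h
  have hsq₁ : e₁ ^ 2 = 1 := hUe e₁ he₁U
  have hex : ∃ e₂ ∈ U, e₂ ∉ Subgroup.zpowers e₁ := by
    by_contra hcon
    push Not at hcon
    have hle : U ≤ Subgroup.zpowers e₁ := hcon
    have h1 := Subgroup.card_le_of_le hle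
    rw [Nat.card_zpowers, hU4] at h1
    have h2 : orderOf e₁ ≤ 2 := orderOf_le_of_pow_eq_one (by norm_num) hsq₁
    omega
  obtain ⟨e₂, he₂U, he₂z⟩ := hex
  have hsq₂ : e₂ ^ 2 = 1 := hUe e₂ he₂U
  have he₂ : e₂ ≠ 1 := by
    intro h; apply he₂z; rw [h]; exact Subgroup.one_mem _
  have he₁₂ : e₁ * e₂ ≠ 1 := by
    intro h
    apply he₂z
    have : e₂ = e₁ := by
      have h3 : e₁ * e₁ = 1 := by rw [← sq]; exact hsq₁
      calc e₂ = e₁⁻¹ * (e₁ * e₂) := by group
        _ = e₁⁻¹ := by rw [h, mul_one]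
        _ = e₁ := inv_eq_of_mul_eq_one_left h3
    rw [this]; exact Subgroup.mem_zpowers e₁
  have hc1 := key e₁ he₁U he₁
  have hc2 := key e₂ he₂U he₂
  have hc3 := key (e₁ * e₂) (U.mul_mem he₁U he₂U) he₁₂
  have hco : ((e₁ * e₂ : ↥(S : Subgroup G)) : G) = (e₁ : G) * (e₂ : G) := rfl
  rw [hco] at hc3
  have hg1 : (e₁ : G) ^ 2 = 1 := by
    have : ((e₁ ^ 2 : ↥(S : Subgroup G)) : G) = 1 := by rw [hsq₁]; rfl
    simpa using this
  have hg2 : (e₂ : G) ^ 2 = 1 := by
    have : ((e₂ ^ 2 : ↥(S : Subgroup G)) : G) = 1 := by rw [hsq₂]; rfl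
    simpa using this
  exact eq_bot_of_fpf_four X (e₁ : G) (e₂ : G) hg1 hg2 (hSX e₁.2) (hSX e₂.2) hc1 hc2 hc3

/-- The centralizer of an involution lies in the normalizer of the group it generates. -/
theorem centralizer_singleton_le_normalizer_zpowers {G : Type*} [Group G] (e : G) :
    Subgroup.centralizer ({e} : Set G) ≤ Subgroup.normalizer ((Subgroup.zpowers e : Subgroup G) : Set G) := by
  refine le_trans ?_ (Subgroup.centralizer_le_normalizer ((Subgroup.zpowers e : Subgroup G) : Set G))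
  rw [Subgroup.le_centralizer_iff, Subgroup.zpowers_le]
  rw [Subgroup.mem_centralizer_iff]
  intro x hx
  exact (Subgroup.mem_centralizer_singleton_iff.mp hx)

/-- Every `2`-local subgroup lies in a maximal `2`-local subgroup. -/
theorem exists_isMaximalTwoLocal_ge {G : Type*} [Group G] [Finite G] (N : Subgroup G)
    (hN : Cfsg.IsTwoLocal N) : ∃ M : Subgroup G, N ≤ M ∧ Cfsg.IsMaximalTwoLocal M := by
  obtain ⟨M, hNM, hMmax⟩ := Finite.exists_le_maximal
    (p := fun M : Subgroup G => Cfsg.IsTwoLocal M) (a := N) hN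
  exact ⟨M, hNM, hMmax.1, fun N' hN' hle => le_antisymm (hMmax.2 hN' hle) hle⟩

/-- The two alternative hypotheses both place involution centralizers in good subgroups. -/
theorem exists_good_overgroup_of_centralizer {G : Type*} [Group G] [Finite G]
    (h : (∀ M : Subgroup G, Cfsg.IsMaximalTwoLocal M →
        Cfsg.IsPConstrained 2 ↥M ∧ Cfsg.oddCore ↥M = ⊥) ∨
      (∀ t : G, orderOf t = 2 → Cfsg.IsPConstrained 2 ↥(Subgroup.centralizer ({t} : Set G)) ∧
        Cfsg.oddCore ↥(Subgroup.centralizer ({t} : Set G)) = ⊥))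
    (e : G) (he : orderOf e = 2) :
    ∃ H : Subgroup G, Subgroup.centralizer ({e} : Set G) ≤ H ∧
      Cfsg.pPrimeCore 2 ↥H = ⊥ ∧ Cfsg.IsPConstrained 2 ↥H := by
  rcases h with h | h
  · have hloc : Cfsg.IsTwoLocal (Subgroup.normalizer ((Subgroup.zpowers e : Subgroup G) : Set G)) := by
      refine ⟨Subgroup.zpowers e, ?_, ?_, rfl⟩
      · apply IsPGroup.of_card (n := 1)
        rw [Nat.card_zpowers, he, pow_one]
      · rw [Subgroup.zpowers_ne_bot]
        intro h1
        rw [h1, orderOf_one] at he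
        omega
    obtain ⟨M, hNM, hM⟩ := exists_isMaximalTwoLocal_ge _ hloc
    exact ⟨M, (centralizer_singleton_le_normalizer_zpowers e).trans hNM, (h M hM).2, (h M hM).1⟩
  · exact ⟨_, le_rfl, (h e he).2, (h e he).1⟩

/-- Under either hypothesis every `2`-local subgroup is `2`-constrained. -/
theorem isPConstrained_two_local_of_good {G : Type*} [Group G] [Finite G]
    (h : (∀ M : Subgroup G, Cfsg.IsMaximalTwoLocal M →
        Cfsg.IsPConstrained 2 ↥M ∧ Cfsg.oddCore ↥M = ⊥) ∨
      (∀ t : G, orderOf t = 2 → Cfsg.IsPConstrained 2 ↥(Subgroup.centralizer ({t} : Set G)) ∧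
        Cfsg.oddCore ↥(Subgroup.centralizer ({t} : Set G)) = ⊥))
    (T : Subgroup G) (hT : IsPGroup 2 ↥T) (hT1 : T ≠ ⊥) :
    Cfsg.IsPConstrained 2 ↥(Subgroup.normalizer (T : Set G)) := by
  have hp2 : Fact (Nat.Prime 2) := ⟨Nat.prime_two⟩
  rcases h with h | h
  · obtain ⟨M, hNM, hM⟩ := exists_isMaximalTwoLocal_ge (Subgroup.normalizer (T : Set G))
      ⟨T, hT, hT1, rfl⟩
    have hMc : Cfsg.IsPConstrained 2 ↥M := (h M hM).1
    have hTM : T ≤ M := Subgroup.le_normalizer.trans hNM
    have h1 := Cfsg.Agent.Lib.Helper54.isPConstrained_normalizer 2 hMc (T.subgroupOf M)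
      hT.comap_subtype
    rw [← Subgroup.subgroupOf_normalizer_eq hTM] at h1
    exact Cfsg.Agent.Lib.Helper54.isPConstrained_of_mulEquiv 2
      (Subgroup.subgroupOfEquivOfLe hNM) h1
  · haveI : Nontrivial T := (Subgroup.nontrivial_iff_ne_bot T).mpr hT1
    have : Nontrivial (Subgroup.center T) := hT.center_nontrivial
    have hZp : IsPGroup 2 (Subgroup.center T) := hT.to_subgroup _
    have hdvd : 2 ∣ Nat.card (Subgroup.center T) := by
      rcases hZp.card_eq_or_dvd with h1 | h1
      · exfalso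
        have := (Nat.card_eq_one_iff_unique.mp h1).1
        exact not_nontrivial_iff_subsingleton.mpr this inferInstance
      · exact h1
    obtain ⟨z, hz⟩ := exists_prime_orderOf_dvd_card' 2 hdvd
    have hzord : orderOf ((z : T) : G) = 2 := by
      rw [Subgroup.orderOf_coe, Subgroup.orderOf_coe]; exact hz
    apply Cfsg.Agent.Lib.Helper54.isPConstrained_normalizer_of_centralizer 2 T hT
      ((z : T) : G) (z : T).2 _ (h _ hzord).1
    intro t ht
    have := Subgroup.mem_center_iff.mp z.2 ⟨t, ht⟩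
    exact congrArg Subtype.val this

end Cfsg.Agent.Lib.Helper9
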